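import Cfsg.Agent.Lib.Spor.L43Three.Two.Code
import Cfsg.Agent.Lib.Spor.L43Three.One.CentT

/-!
The centraliser of the involution `t` in `SL(4, 3)` up to sign, by pairs of two by two blocks.
-/

set_option autoImplicit false
set_option linter.unusedSectionVars false
set_option maxRecDepth 100000
set_option maxHeartbeats 1000000

namespace Cfsg.Agent.Spor.L43Three

open Subgroup Matrix

/-- Blocks on the coordinates `{0, 3}` and `{1, 2}`. -/
def dg (A B : Mat2) : M4 :=
  !![A 0 0, 0, 0, A 0 1; 0, B 0 0, B 0 1, 0; 0, B 1 0, B 1 1, 0; A 1 0, 0, 0, A 1 1]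

/-- Blocks exchanging the two pairs of coordinates. -/
def ad (A B : Mat2) : M4 :=
  !![0, A 0 0, A 0 1, 0; B 0 0, 0, 0, B 0 1; B 1 0, 0, 0, B 1 1; 0, A 1 0, A 1 1, 0]

theorem dg_dg (A B C D : Mat2) : dg A B * dg C D = dg (A * C) (B * D) := by
  ext i j
  fin_cases i <;> fin_cases j <;> simp [dg, Matrix.mul_apply, Fin.sum_univ_four, Fin.sum_univ_two]

theorem dg_ad (A B C D : Mat2) : dg A B * ad C D = ad (A * C) (B * D) := by
  ext i j
  fin_cases i <;> fin_cases j <;> simp [dg, ad, Matrix.mul_apply, Fin.sum_univ_four, Fin.sum_univ_two]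

theorem ad_dg (A B C D : Mat2) : ad A B * dg C D = ad (A * D) (B * C) := by
  ext i j
  fin_cases i <;> fin_cases j <;> simp [dg, ad, Matrix.mul_apply, Fin.sum_univ_four, Fin.sum_univ_two]

theorem ad_ad (A B C D : Mat2) : ad A B * ad C D = dg (A * D) (B * C) := by
  ext i j
  fin_cases i <;> fin_cases j <;> simp [dg, ad, Matrix.mul_apply, Fin.sum_univ_four, Fin.sum_univ_two]

theorem dg_neg (A B : Mat2) : dg (-A) (-B) = -dg A B := by
  ext i j; fin_cases i <;> fin_cases j <;> simp [dg]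

theorem ad_neg (A B : Mat2) : ad (-A) (-B) = -ad A B := by
  ext i j; fin_cases i <;> fin_cases j <;> simp [ad]

theorem dg_one : dg 1 1 = 1 := by decide +kernel

theorem dg_neg_one : dg (-1) (-1) = (-1 : M4) := by decide +kernel

theorem det_dg (A B : Mat2) : (dg A B).det = A.det * B.det := by
  rw [Matrix.det_fin_two, Matrix.det_fin_two]
  simp [dg, Matrix.det_succ_row_zero, Fin.sum_univ_succ, Fin.succAbove]
  ring

theorem det_ad (A B : Mat2) : (ad A B).det = A.det * B.det := by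
  rw [show ad A B = dg A B * ad 1 1 by rw [dg_ad, mul_one, mul_one], Matrix.det_mul, det_dg,
    show (ad 1 1).det = 1 by decide +kernel, mul_one]

theorem dg_inj {A A' B B' : Mat2} (h : dg A B = dg A' B') : A = A' ∧ B = B' := by
  constructor <;> ext i j <;> fin_cases i <;> fin_cases j
  · simpa [dg] using congrFun (congrFun h 0) 0
  · simpa [dg] using congrFun (congrFun h 0) 3
  · simpa [dg] using congrFun (congrFun h 3) 0
  · simpa [dg] using congrFun (congrFun h 3) 3
  · simpa [dg] using congrFun (congrFun h 1) 1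
  · simpa [dg] using congrFun (congrFun h 1) 2
  · simpa [dg] using congrFun (congrFun h 2) 1
  · simpa [dg] using congrFun (congrFun h 2) 2

theorem ad_inj {A A' B B' : Mat2} (h : ad A B = ad A' B') : A = A' ∧ B = B' := by
  constructor <;> ext i j <;> fin_cases i <;> fin_cases j
  · simpa [ad] using congrFun (congrFun h 0) 1
  · simpa [ad] using congrFun (congrFun h 0) 2
  · simpa [ad] using congrFun (congrFun h 3) 1
  · simpa [ad] using congrFun (congrFun h 3) 2
  · simpa [ad] using congrFun (congrFun h 1) 0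
  · simpa [ad] using congrFun (congrFun h 1) 3
  · simpa [ad] using congrFun (congrFun h 2) 0
  · simpa [ad] using congrFun (congrFun h 2) 3

theorem dg_ne_ad {A B C D : Mat2} (hA : A.det ≠ 0) : dg A B ≠ ad C D := by
  intro h
  refine hA ?_
  have h0 := congrFun (congrFun h 0) 0
  have h1 := congrFun (congrFun h 0) 3
  simp [dg, ad] at h0 h1
  rw [Matrix.det_fin_two, h0, h1]; ring

theorem tI_diag : tI.1.1 = Matrix.diagonal ![1, 2, 2, 1] := by decide +kernel

theorem shape_comm {X : M4} (h : X * tI.1.1 = tI.1.1 * X) : ∃ A B, X = dg A B := by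
  rw [tI_diag] at h
  have k : ∀ i j, X i j * ![1, 2, 2, 1] j = (![1, 2, 2, 1] : Fin 4 → ZMod 3) i * X i j := fun i j => by
    have := congrFun (congrFun h i) j
    rwa [Matrix.mul_diagonal, Matrix.diagonal_mul] at this
  have key : ∀ x : ZMod 3, (x * 2 = x ∨ x = 2 * x) → x = 0 := by decide
  have k01 := key _ (Or.inl (by simpa using k 0 1))
  have k02 := key _ (Or.inl (by simpa using k 0 2))
  have k31 := key _ (Or.inl (by simpa using k 3 1))
  have k32 := key _ (Or.inl (by simpa using k 3 2))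
  have k10 := key _ (Or.inr (by simpa using k 1 0))
  have k20 := key _ (Or.inr (by simpa using k 2 0))
  have k13 := key _ (Or.inr (by simpa using k 1 3))
  have k23 := key _ (Or.inr (by simpa using k 2 3))
  refine ⟨!![X 0 0, X 0 3; X 3 0, X 3 3], !![X 1 1, X 1 2; X 2 1, X 2 2], ?_⟩
  ext i j
  fin_cases i <;> fin_cases j <;> simp [dg, k01, k02, k31, k32, k10, k20, k13, k23]

theorem shape_anti {X : M4} (h : X * tI.1.1 = -(tI.1.1 * X)) : ∃ A B, X = ad A B := by
  rw [tI_diag] at h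
  have k : ∀ i j, X i j * ![1, 2, 2, 1] j = -((![1, 2, 2, 1] : Fin 4 → ZMod 3) i * X i j) := fun i j => by
    have := congrFun (congrFun h i) j
    rwa [Matrix.neg_apply, Matrix.mul_diagonal, Matrix.diagonal_mul] at this
  have key : ∀ x : ZMod 3, (x = -x ∨ x * 2 = -(2 * x)) → x = 0 := by decide
  have k00 := key _ (Or.inl (by simpa using k 0 0))
  have k03 := key _ (Or.inl (by simpa using k 0 3))
  have k30 := key _ (Or.inl (by simpa using k 3 0))
  have k33 := key _ (Or.inl (by simpa using k 3 3))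
  have k11 := key _ (Or.inr (by simpa using k 1 1))
  have k12 := key _ (Or.inr (by simpa using k 1 2))
  have k21 := key _ (Or.inr (by simpa using k 2 1))
  have k22 := key _ (Or.inr (by simpa using k 2 2))
  refine ⟨!![X 0 1, X 0 2; X 3 1, X 3 2], !![X 1 0, X 1 3; X 2 0, X 2 3], ?_⟩
  ext i j
  fin_cases i <;> fin_cases j <;> simp [ad, k00, k03, k30, k33, k11, k12, k21, k22]

/-- Either shape. -/
def Shape (X : M4) (A B : Mat2) : Prop := X = dg A B ∨ X = ad A B

theorem Shape.neg {X : M4} {A B : Mat2} (h : Shape X A B) : Shape (-X) (-A) (-B) := by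
  rcases h with rfl | rfl
  · exact Or.inl (dg_neg A B).symm
  · exact Or.inr (ad_neg A B).symm

theorem Shape.det {X : M4} {A B : Mat2} (h : Shape X A B) : X.det = A.det * B.det := by
  rcases h with rfl | rfl
  · exact det_dg A B
  · exact det_ad A B

/-- The character of `SL(2, 3)` of order three. -/
def phi (A : Mat2) : ZMod 3 :=
  A 1 0 * A 1 1 + A 0 1 * A 1 1 + A 0 0 * A 1 0 + 2 * (A 0 1 * (A 1 0 * A 1 0) * A 1 1)

/-- Two by two matrices from entries. -/
def m2 (a b c d : ZMod 3) : Mat2 := !![a, b; c, d]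

theorem m2_surj (A : Mat2) : ∃ a b c d, A = m2 a b c d :=
  ⟨A 0 0, A 0 1, A 1 0, A 1 1, Matrix.eta_fin_two A⟩

theorem phi_mul' : ∀ a b c d : ZMod 3, a * d - b * c = 1 → ∀ a' b' c' d' : ZMod 3, a' * d' - b' * c' = 1 →
    phi (m2 (a * a' + b * c') (a * b' + b * d') (c * a' + d * c') (c * b' + d * d')) =
      phi (m2 a b c d) + phi (m2 a' b' c' d') := by decide +kernel

theorem det_m2 (a b c d : ZMod 3) : (m2 a b c d).det = a * d - b * c := Matrix.det_fin_two_of a b c d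

theorem m2_mul (a b c d a' b' c' d' : ZMod 3) : m2 a b c d * m2 a' b' c' d' =
    m2 (a * a' + b * c') (a * b' + b * d') (c * a' + d * c') (c * b' + d * d') := by
  unfold m2
  rw [Matrix.mul_fin_two]

theorem phi_mul {A B : Mat2} (hA : A.det = 1) (hB : B.det = 1) : phi (A * B) = phi A + phi B := by
  obtain ⟨a, b, c, d, rfl⟩ := m2_surj A
  obtain ⟨a', b', c', d', rfl⟩ := m2_surj B
  rw [det_m2] at hA hB
  rw [m2_mul]
  exact phi_mul' a b c d hA a' b' c' d' hB

theorem phi_neg (A : Mat2) : phi (-A) = phi A := by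
  obtain ⟨a, b, c, d, rfl⟩ := m2_surj A
  revert a b c d
  decide +kernel

/-- The character on the centraliser. -/
def lF (X : M4) : ZMod 3 :=
  phi !![X 0 0 + X 0 1, X 0 3 + X 0 2; X 3 0 + X 3 1, X 3 3 + X 3 2] +
    phi !![X 1 1 + X 1 0, X 1 2 + X 1 3; X 2 1 + X 2 0, X 2 2 + X 2 3]

theorem Shape.lF {X : M4} {A B : Mat2} (h : Shape X A B) : lF X = phi A + phi B := by
  rcases h with rfl | rfl <;>
    · simp only [Cfsg.Agent.Spor.L43Three.lF]
      congr 1 <;> congr 1 <;> ext i j <;> fin_cases i <;> fin_cases j <;> simp [dg, ad]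

/-- Inside the subgroup of index two. -/
def InM (X : M4) : Prop := ∃ A B, A.det = 1 ∧ B.det = 1 ∧ Shape X A B

theorem InM.mul {X Y : M4} (hX : InM X) (hY : InM Y) : InM (X * Y) ∧ lF (X * Y) = lF X + lF Y := by
  obtain ⟨A, B, hA, hB, hX⟩ := hX
  obtain ⟨C, D, hC, hD, hY⟩ := hY
  rw [hX.lF, hY.lF]
  rcases hX with rfl | rfl <;> rcases hY with rfl | rfl
  · rw [dg_dg]
    exact ⟨⟨_, _, by rw [det_mul, hA, hC, mul_one], by rw [det_mul, hB, hD, mul_one], Or.inl rfl⟩,
      by rw [Shape.lF (A := (A * C)) (B := (B * D)) (Or.inl rfl), phi_mul hA hC, phi_mul hB hD]; ring⟩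
  · rw [dg_ad]
    exact ⟨⟨_, _, by rw [det_mul, hA, hC, mul_one], by rw [det_mul, hB, hD, mul_one], Or.inr rfl⟩,
      by rw [Shape.lF (A := (A * C)) (B := (B * D)) (Or.inr rfl), phi_mul hA hC, phi_mul hB hD]; ring⟩
  · rw [ad_dg]
    exact ⟨⟨_, _, by rw [det_mul, hA, hD, mul_one], by rw [det_mul, hB, hC, mul_one], Or.inr rfl⟩,
      by rw [Shape.lF (A := (A * D)) (B := (B * C)) (Or.inr rfl), phi_mul hA hD, phi_mul hB hC]; ring⟩
  · rw [ad_ad]
    exact ⟨⟨_, _, by rw [det_mul, hA, hD, mul_one], by rw [det_mul, hB, hC, mul_one], Or.inl rfl⟩,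
      by rw [Shape.lF (A := (A * D)) (B := (B * C)) (Or.inl rfl), phi_mul hA hD, phi_mul hB hC]; ring⟩

theorem InM.neg {X : M4} (hX : InM X) : InM (-X) ∧ lF (-X) = lF X := by
  obtain ⟨A, B, hA, hB, hX⟩ := hX
  refine ⟨⟨-A, -B, ?_, ?_, hX.neg⟩, by rw [hX.neg.lF, hX.lF, phi_neg, phi_neg]⟩
  · rw [det_neg, hA, Fintype.card_fin]; norm_num
  · rw [det_neg, hB, Fintype.card_fin]; norm_num

/-- The diagonal blocks of `tS`. -/
def dOne : Mat2 := !![1, 0; 0, 2]
/-- The second diagonal block of `tS`. -/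
def dTwo : Mat2 := !![2, 0; 0, 1]

theorem tS_dg : tS.1.1 = dg dOne dTwo := by decide +kernel

theorem d_facts : dOne.det = -1 ∧ dTwo.det = -1 ∧ dOne * dOne = 1 ∧ dTwo * dTwo = 1 := by decide +kernel

theorem phi_dOne' : ∀ a b c d : ZMod 3, a * d - b * c = 1 →
    phi (dOne * m2 a b c d * dOne) = -phi (m2 a b c d) ∧ phi (dTwo * m2 a b c d * dTwo) = -phi (m2 a b c d) := by
  decide +kernel

theorem tS_lF {X : M4} (hX : InM X) :
    InM (tS.1.1 * X * tS.1.1) ∧ lF (tS.1.1 * X * tS.1.1) = -lF X := by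
  obtain ⟨A, B, hA, hB, hX⟩ := hX
  have hAB : ∀ C : Mat2, C.det = 1 → phi (dOne * C * dOne) = -phi C ∧ phi (dTwo * C * dTwo) = -phi C := by
    intro C hC
    obtain ⟨a, b, c, d, rfl⟩ := m2_surj C
    rw [det_m2] at hC
    exact phi_dOne' a b c d hC
  have hdet : ∀ (P C Q : Mat2), P.det = -1 → Q.det = -1 → C.det = 1 → (P * C * Q).det = 1 := fun P C Q h1 h2 h3 => by
    rw [det_mul, det_mul, h1, h2, h3]; ring
  obtain ⟨h1, h2, -, -⟩ := d_facts
  have hmix : ∀ C : Mat2, C.det = 1 → phi (dOne * C * dTwo) = -phi C ∧ phi (dTwo * C * dOne) = -phi C := by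
    intro C hC
    rw [show dTwo = -dOne by decide +kernel]
    simp only [neg_mul, mul_neg, phi_neg]
    exact ⟨(hAB C hC).1, (hAB C hC).1⟩
  rw [hX.lF, tS_dg]
  rcases hX with rfl | rfl
  · rw [dg_dg, dg_dg]
    exact ⟨⟨_, _, hdet _ _ _ h1 h1 hA, hdet _ _ _ h2 h2 hB, Or.inl rfl⟩,
      by rw [Shape.lF (A := (dOne * A * dOne)) (B := (dTwo * B * dTwo)) (Or.inl rfl), (hAB A hA).1, (hAB B hB).2]; ring⟩
  · rw [dg_ad, ad_dg]
    exact ⟨⟨_, _, hdet _ _ _ h1 h2 hA, hdet _ _ _ h2 h1 hB, Or.inr rfl⟩,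
      by rw [Shape.lF (A := (dOne * A * dTwo)) (B := (dTwo * B * dOne)) (Or.inr rfl), (hmix A hA).1, (hmix B hB).2]; ring⟩

/-- The swap of the two pairs of coordinates. -/
def sSW : SL44 := ⟨ad 1 1, by decide +kernel⟩

theorem tMat_dg : ∀ v : Fin 2 → ZMod 3, tMat v = dg !![1, v 0; 0, 1] !![1, v 1; 0, 1] := by decide +kernel

theorem cent_blk : ∀ a b c d : ZMod 3, a * d - b * c ≠ 0 →
    (m2 a b c d * !![1, 1; 0, 1] = !![1, 1; 0, 1] * m2 a b c d → a = d ∧ c = 0) ∧
    (m2 a b c d * !![1, 2; 0, 1] = !![1, 1; 0, 1] * m2 a b c d → a + d = 0 ∧ c = 0) ∧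
    (m2 a b c d * !![1, 1; 0, 1] = !![1, 2; 0, 1] * m2 a b c d → a + d = 0 ∧ c = 0) ∧
    (m2 a b c d * !![1, 2; 0, 1] = !![1, 2; 0, 1] * m2 a b c d → a = d ∧ c = 0) := by decide +kernel

theorem flip_blk : ∀ a b c d k : ZMod 3, a * d - b * c ≠ 0 →
    m2 a b c d * !![1, 1; 0, 1] = !![1, k; 0, 1] * m2 a b c d → k = (a * d - b * c) := by decide +kernel

theorem invol_blk : ∀ a b c d : ZMod 3, a * d - b * c = 2 →
    (m2 a b c d * m2 a b c d ≠ -1) ∧
    (m2 a b c d * m2 a b c d = 1 → ∃ x y z w : ZMod 3, x * w - y * z = 1 ∧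
      m2 x y z w * dOne = m2 a b c d * m2 x y z w) := by decide +kernel

theorem sq_root : (dg !![0, 1; 2, 0] 1 * dg !![0, 1; 2, 0] 1 : M4) = -(tI.1.1) ∧
    (dg !![0, 1; 2, 0] 1).det = 1 := by decide +kernel

end Cfsg.Agent.Spor.L43Three
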