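import Cfsg.Agent.Lib.Spor.L43Three.Two.NineTwoL
import Cfsg.Agent.Lib.Fus.SelfCentThree.Main
import Cfsg.Agent.Lib.Classical.DicksonSmallQ

/-!
Under the configuration the strongly embedded subgroup is the whole group.
-/

set_option autoImplicit false
set_option linter.unusedSectionVars false
set_option linter.style.haveILetI false
set_option maxRecDepth 10000
set_option maxHeartbeats 1000000

namespace Cfsg.Agent.Spor.L43Three.NineTwo

open Subgroup

universe u

variable {Y : Type u} [Group Y] [Finite Y] (D : NineTwo Y)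

theorem y_not_zpowers : D.y ∉ zpowers D.x := by
  intro h
  obtain ⟨i, hi⟩ := mem_zpowers_iff.1 h
  have hs : Commute D.s D.y := hi ▸ D.sx.zpow_right i
  have h1 := D.sy
  rw [hs.eq, mul_inv_cancel_right, eq_inv_iff_mul_eq_one, ← pow_two] at h1
  refine D.y_ne ?_
  have := D.y_cube
  rwa [pow_succ, h1, one_mul] at this

/-- Subgroups of order prime to three normalised by `T` lie in `R`. -/
theorem inR {W : Subgroup Y} (h3 : ¬ 3 ∣ Nat.card W) (hx : ∀ w ∈ W, D.x * w * D.x⁻¹ ∈ W)
    (hy : ∀ w ∈ W, D.y * w * D.y⁻¹ ∈ W) : W ≤ D.R := by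
  haveI : Fact (Nat.Prime 3) := ⟨Nat.prime_three⟩
  refine le_of_nine D.xy D.x_cube D.y_cube D.x_ne D.y_not_zpowers
    (Nat.prime_three.coprime_iff_not_dvd.2 h3).symm hx hy fun h hh hne w _ hc => ?_
  have hhT : h ∈ D.T := (closure_le D.T).2 (by rintro m (rfl | rfl); exacts [D.x_T, D.y_T]) hh
  exact D.cent_mem (D.le (D.T_le hhT)) (orderOf_eq_prime (D.T_cube hhT) hne) hc

variable {D}

theorem cent_y_L (hsb : ¬ IsConj D.s D.b) {g : Y} (hg : g ∈ D.L) (hc : Commute g D.y) :
    ∃ j : ℕ, g = D.y ^ j ∨ g = D.y ^ j * D.t := by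
  have hx := D.x_not_mem hsb
  obtain ⟨i, j, e, he, hge⟩ := D.cy g (D.cent_mem D.y_R D.y_order hc) hc
  have hxi : D.x ^ i * e ∈ D.L := by
    have h := mul_mem (inv_mem (pow_mem D.y_L j)) hg
    rw [hge, ((D.xy.pow_left i).pow_right j).eq, mul_assoc, inv_mul_cancel_left] at h
    exact h
  have hpure : D.x ^ i ∈ D.L → g = D.y ^ j * e := fun h => by
    have h1 : D.x ^ i = 1 := by
      rw [← Nat.mod_add_div i 3, pow_add, pow_mul, D.x_cube, one_pow, mul_one]
      rw [← Nat.mod_add_div i 3, pow_add, pow_mul, D.x_cube, one_pow, mul_one] at h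
      have hi3 := Nat.mod_lt i (show 3 > 0 by norm_num)
      interval_cases hi : i % 3
      · exact pow_zero _
      · exact absurd (by simpa using h) hx
      · refine absurd ?_ hx
        have h4 := mul_mem h h
        rwa [← pow_add, pow_succ, D.x_cube, one_mul] at h4
    rw [hge, h1, one_mul]
  have hb : D.x ^ i * D.b ∉ D.L := fun h => by
    have h2 := conj_L (g := D.x ^ i) h
    have e1 : D.x ^ i * (D.x ^ i * D.b) * (D.x ^ i)⁻¹ = D.b := by
      have e2 : D.b * (D.x ^ i)⁻¹ = D.x ^ i * D.b := by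
        rw [← mul_inv_eq_iff_eq_mul.1 (show D.b * (D.x ^ i)⁻¹ * D.b⁻¹ = D.x ^ i by
          rw [show D.b * (D.x ^ i)⁻¹ * D.b⁻¹ = (D.b * D.x ^ i * D.b⁻¹)⁻¹ by group, ← conj_pow, D.bx, inv_pow, inv_inv])]
      calc D.x ^ i * (D.x ^ i * D.b) * (D.x ^ i)⁻¹ = D.x ^ i * D.x ^ i * (D.b * (D.x ^ i)⁻¹) := by group
        _ = D.x ^ i * D.x ^ i * D.x ^ i * D.b := by rw [e2, ← mul_assoc]
        _ = D.b := by
          rw [← pow_add, ← pow_add, show i + i + i = 3 * i by ring, pow_mul, D.x_cube, one_pow, one_mul]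
    rw [e1] at h2
    refine hx ?_
    have h3 := mul_mem (conj_L (g := D.x) h2) (inv_mem h2)
    rw [mul_assoc, mul_assoc, show D.b * (D.x⁻¹ * D.b⁻¹) = (D.b * D.x * D.b⁻¹)⁻¹ by group, D.bx, inv_inv] at h3
    have h4 := mul_mem h3 h3
    rwa [show D.x * D.x * (D.x * D.x) = D.x by
      rw [mul_assoc, ← mul_assoc D.x D.x D.x, show D.x * D.x * D.x = D.x ^ 3 by
        rw [pow_succ, pow_two], D.x_cube, mul_one]] at h4
  rcases he with rfl | rfl | rfl | rfl
  · exact ⟨j, Or.inl (by rw [hpure (by simpa using hxi), mul_one])⟩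
  · refine ⟨j, Or.inr (hpure ?_)⟩
    have := mul_mem hxi D.t_L
    rwa [mul_assoc, D.t_sq, mul_one] at this
  · refine absurd ?_ hb
    have := mul_mem hxi (inv_mem D.s_L)
    rwa [mul_assoc, mul_inv_cancel_right] at this
  · refine absurd ?_ hb
    have := mul_mem (mul_mem hxi (inv_mem D.t_L)) (inv_mem D.s_L)
    rwa [mul_assoc (D.x ^ i), mul_inv_cancel_right, mul_assoc, mul_inv_cancel_right] at this

theorem L_three (hsb : ¬ IsConj D.s D.b) : ∃ P : Sylow 3 D.L, (P : Subgroup D.L).map D.L.subtype = zpowers D.y := by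
  haveI : Fact (Nat.Prime 3) := ⟨Nat.prime_three⟩
  obtain ⟨P, hP⟩ := (IsPGroup.of_card (p := 3) (n := 1) (G := zpowers (⟨D.y, D.y_L⟩ : D.L))
    (by rw [pow_one, Nat.card_zpowers, Subgroup.orderOf_mk, D.y_order])).exists_le_sylow
  refine ⟨P, le_antisymm ?_ (zpowers_le.2 ⟨_, hP (mem_zpowers _), rfl⟩)⟩
  have key : ∀ p : (P : Subgroup D.L), Commute ((p : D.L) : Y) D.y → ((p : D.L) : Y) ∈ zpowers D.y := by
    intro p hc
    obtain ⟨j, h | h⟩ := cent_y_L hsb (p : D.L).2 hc
    · exact h ▸ pow_mem (mem_zpowers _) j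
    · exfalso
      obtain ⟨k, hk⟩ := P.isPGroup' p
      have h1 : (D.y ^ j * D.t) ^ 3 ^ k = 1 := by
        rw [← h]; exact congrArg (fun q : (P : Subgroup D.L) => ((q : D.L) : Y)) hk
      cases k with
      | zero =>
        simp only [pow_zero, pow_one] at h1
        have h2 : (D.y ^ j * D.t) ^ 3 = 1 := by rw [h1, one_pow]
        rw [(D.t_cen _).mul_pow, ← pow_mul, mul_comm j, pow_mul, D.y_cube, one_pow, one_mul] at h2
        exact D.t_ne (eq_one_of_sq_pow (k := 1) D.t_sq h2)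
      | succ k =>
        rw [(D.t_cen _).mul_pow, ← pow_mul, pow_succ' 3 k, mul_left_comm, pow_mul, D.y_cube, one_pow, one_mul,
          ← pow_succ'] at h1
        exact D.t_ne (eq_one_of_sq_pow (k := k + 1) D.t_sq h1)
  haveI : Nontrivial (P : Subgroup D.L) := ⟨⟨⟨_, hP (mem_zpowers _)⟩, 1, fun e =>
    D.y_ne (congrArg (fun q : (P : Subgroup D.L) => ((q : D.L) : Y)) e)⟩⟩
  haveI := P.isPGroup'.center_nontrivial
  obtain ⟨⟨c, hc⟩, hc1⟩ := exists_ne (1 : center (P : Subgroup D.L))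
  have hcom : ∀ p : (P : Subgroup D.L), Commute ((p : D.L) : Y) ((c : D.L) : Y) := fun p =>
    congrArg (fun q : (P : Subgroup D.L) => ((q : D.L) : Y)) (mem_center_iff.1 hc p)
  have hcy := key c (hcom ⟨_, hP (mem_zpowers _)⟩).symm
  rintro _ ⟨p, hp, rfl⟩
  refine key ⟨p, hp⟩ ?_
  obtain ⟨i, hi⟩ := mem_zpowers_iff.1 hcy
  have hi3 : ¬ (3 : ℤ) ∣ i := by
    rintro ⟨m, rfl⟩
    refine hc1 (Subtype.ext (Subtype.ext (Subtype.ext ?_)))
    show ((c : D.L) : Y) = 1
    rw [← hi, zpow_mul, show D.y ^ (3 : ℤ) = D.y ^ 3 from zpow_natCast _ 3, D.y_cube, _root_.one_zpow]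
  have e : D.y = ((c : D.L) : Y) ^ i := by
    rw [← hi, ← zpow_mul, zpow_eq_zpow_emod' (i * i) (n := 3) D.y_cube]
    have : i * i % (3 : ℕ) = 1 := by
      have h1 : i % 3 = 1 ∨ i % 3 = 2 := by omega
      rw [Int.mul_emod]
      rcases h1 with h1 | h1 <;> simp [h1]
    rw [this, zpow_one]
  show Commute ((p : D.L) : Y) D.y
  rw [e]
  exact (hcom ⟨p, hp⟩).zpow_right i

theorem eq_top (hsb : ¬ IsConj D.s D.b) : D.R = ⊤ := by
  haveI : Fact (Nat.Prime 3) := ⟨Nat.prime_three⟩
  set t' : D.L := ⟨D.t, D.t_L⟩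
  have ht2 : t' * t' = 1 := Subtype.ext D.t_sq
  haveI hZn : (zpowers t').Normal := ⟨fun m hm g => by
    obtain ⟨i, rfl⟩ := mem_zpowers_iff.1 hm
    rw [((show Commute g t' from Subtype.ext (D.t_cen g).eq).zpow_right i).eq, mul_inv_cancel_right]
    exact zpow_mem (mem_zpowers _) i⟩
  have hZ : ∀ m ∈ zpowers t', (m : Y) = 1 ∨ (m : Y) = D.t := by
    intro m hm
    obtain ⟨i, rfl⟩ := mem_zpowers_iff.1 hm
    rcases Int.emod_two_eq_zero_or_one i with h | h
    · left; rw [zpow_eq_zpow_emod' i (n := 2) (by rw [pow_two, ht2])]; simp [h]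
    · right; rw [zpow_eq_zpow_emod' i (n := 2) (by rw [pow_two, ht2])]; simp [h, t']
  set π := QuotientGroup.mk' (zpowers t') with hπdef
  have hπ : Function.Surjective π := QuotientGroup.mk'_surjective _
  have hmap : ∀ g : Y, (zpowers t').map (MulAut.conjNormal g : D.L ≃* D.L).toMonoidHom = zpowers t' := fun g => by
    rw [MonoidHom.map_zpowers]
    congr 1
    exact Subtype.ext (by show g * D.t * g⁻¹ = D.t; rw [(D.t_cen g).eq, mul_inv_cancel_right])
  obtain ⟨au, hau⟩ : ∃ au : Y →* MulAut (D.L ⧸ zpowers t'),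
      ∀ (g : Y) (m : D.L), au g (π m) = π ⟨g * m * g⁻¹, conj_L m.2⟩ := by
    refine ⟨MonoidHom.mk' (fun g => QuotientGroup.congr _ _ (MulAut.conjNormal g) (hmap g)) fun g h => ?_,
      fun g m => show π _ = _ from congrArg π (Subtype.ext (MulAut.conjNormal_apply g m))⟩
    refine MulEquiv.ext fun q => ?_
    obtain ⟨m, rfl⟩ := hπ q
    show π (MulAut.conjNormal (g * h) m) = π (MulAut.conjNormal g (MulAut.conjNormal h m))
    rw [map_mul]; rfl
  set yb := π ⟨D.y, D.y_L⟩
  have hauy : ∀ q, au D.y q = yb * q * yb⁻¹ := fun q => by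
    obtain ⟨m, rfl⟩ := hπ q
    rw [hau, ← map_mul, ← map_inv, ← map_mul]; rfl
  have hauxy : au D.x yb = yb := by
    rw [hau]
    exact congrArg π (Subtype.ext (by show D.x * D.y * D.x⁻¹ = D.y; rw [D.xy.eq, mul_inv_cancel_right]))
  have hau3 : ∀ q, au D.x (au D.x (au D.x q)) = q := fun q => by
    have : au (D.x ^ 3) q = q := by rw [D.x_cube, map_one]; rfl
    rwa [map_pow] at this
  have hkey : ∀ m : D.L, π m = 1 → (m : Y) = 1 ∨ (m : Y) = D.t := fun m h => hZ m ((QuotientGroup.eq_one_iff m).1 h)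
  -- `y` is self-centralising in the quotient
  have hyb1 : yb ≠ 1 := fun h => by
    rcases hkey _ h with e | e
    · exact D.y_ne e
    · have := D.y_cube
      rw [show D.y = D.t from e] at this
      exact D.t_ne (eq_one_of_sq_pow (k := 1) D.t_sq this)
  have hyb : Char.SCP.Hyp 3 yb := by
    refine ⟨orderOf_eq_prime (by rw [← map_pow, show (⟨D.y, D.y_L⟩ : D.L) ^ 3 = 1 from Subtype.ext D.y_cube, map_one])
      hyb1, le_antisymm (fun q hq => ?_) (zpowers_le.2 (Subgroup.mem_centralizer_singleton_iff.2 rfl))⟩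
    obtain ⟨m, rfl⟩ := hπ q
    have hc := Subgroup.mem_centralizer_singleton_iff.1 hq
    rw [← map_mul, ← map_mul] at hc
    have hcm : Commute (m : Y) D.y := by
      rcases hZ _ (QuotientGroup.eq.1 hc.symm) with h | h
      · exact (inv_mul_eq_one.1 h).symm
      · exfalso
        have h' : (m : Y) * D.y * (m : Y)⁻¹ = D.y * D.t := by
          have e := inv_mul_eq_iff_eq_mul.1 h
          simp only [Subgroup.coe_mul] at e
          calc (m : Y) * D.y * (m : Y)⁻¹ = D.y * (m : Y) * D.t * (m : Y)⁻¹ := by rw [← e]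
            _ = D.y * ((m : Y) * D.t) * (m : Y)⁻¹ := by group
            _ = D.y * D.t := by rw [(D.t_cen _).eq]; group
        have h3 : ((m : Y) * D.y * (m : Y)⁻¹) ^ 3 = 1 := by rw [conj_pow, D.y_cube, mul_one, mul_inv_cancel]
        rw [h', (D.t_cen _).mul_pow, D.y_cube, one_mul] at h3
        exact D.t_ne (eq_one_of_sq_pow (k := 1) D.t_sq h3)
    obtain ⟨j, hj | hj⟩ := cent_y_L hsb m.2 hcm
    · rw [show m = ⟨D.y, D.y_L⟩ ^ j from Subtype.ext (by rw [SubmonoidClass.coe_pow]; exact hj), map_pow]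
      exact pow_mem (mem_zpowers _) j
    · rw [show m = ⟨D.y, D.y_L⟩ ^ j * t' from Subtype.ext (by rw [Subgroup.coe_mul, SubmonoidClass.coe_pow]; exact hj),
        map_mul, map_pow, show π t' = 1 from (QuotientGroup.eq_one_iff _).2 (mem_zpowers _), mul_one]
      exact pow_mem (mem_zpowers _) j
  set RL := (D.R.subgroupOf D.L).map π
  have hmem : ∀ m : D.L, π m ∈ RL → (m : Y) ∈ D.R := by
    rintro m ⟨r, hr, hrm⟩
    rcases hZ _ (QuotientGroup.eq.1 hrm) with h | h
    · rw [← inv_mul_eq_one.1 h]; exact hr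
    · rw [inv_mul_eq_iff_eq_mul.1 h]; exact mul_mem hr D.t_R
  have hinRL : ∀ E : Subgroup (D.L ⧸ zpowers t'), ¬ 3 ∣ Nat.card E → (∀ e ∈ E, au D.x e ∈ E) →
      (∀ e ∈ E, yb * e * yb⁻¹ ∈ E) → E ≤ RL := by
    intro E h3 hx hy e he
    obtain ⟨m, rfl⟩ := hπ e
    refine ⟨m, ?_, rfl⟩
    refine D.inR (W := (E.comap π).map D.L.subtype) ?_ ?_ ?_ ⟨m, he, rfl⟩
    · rw [Subgroup.card_map_of_injective D.L.subtype_injective, Fus.SCThree.card_comap π hπ, QuotientGroup.ker_mk',
        Nat.card_zpowers, orderOf_eq_prime (p := 2) (by rw [pow_two, ht2]) (fun e => D.t_ne (congrArg Subtype.val e))]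
      exact fun h => (Nat.prime_three.dvd_mul.1 h).elim h3 (by norm_num)
    · rintro _ ⟨n, hn, rfl⟩
      exact ⟨⟨_, conj_L n.2⟩, Subgroup.mem_comap.2 (hau D.x n ▸ hx _ hn), rfl⟩
    · rintro _ ⟨n, hn, rfl⟩
      refine ⟨⟨_, conj_L n.2⟩, Subgroup.mem_comap.2 ?_, rfl⟩
      rw [← hau, hauy]; exact hy _ hn
  have hybRL : yb ∈ RL := ⟨_, D.y_R, rfl⟩
  have hinv : ∀ N : Subgroup (D.L ⧸ zpowers t'), N.Normal →
      (∀ N' : Subgroup (D.L ⧸ zpowers t'), N'.Normal → ¬ 3 ∣ Nat.card N' → N' ≤ N) → ¬ 3 ∣ Nat.card N →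
      N ≤ RL ∧ ∀ e ∈ N, au D.x e ∈ N := by
    intro N hN hmax h3
    have hle : N.map (au D.x).toMonoidHom ≤ N := hmax _ (hN.map _ (au D.x).surjective)
      (by rwa [Subgroup.card_map_of_injective (au D.x).injective])
    have hx : ∀ e ∈ N, au D.x e ∈ N := fun e he => hle ⟨e, he, rfl⟩
    exact ⟨hinRL N h3 hx fun e he => hN.conj_mem e he yb, hx⟩
  have hfinish : RL = ⊤ → D.R = ⊤ := by
    intro hRL
    have hLR : D.L ≤ D.R := fun g hg => hmem ⟨g, hg⟩ (hRL ▸ mem_top _)
    obtain ⟨P, hP⟩ := L_three hsb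
    rw [eq_top_iff, ← Sylow.normalizer_sup_eq_top P, hP]
    refine sup_le (fun g hg => D.emb D.y D.y_R D.y_order g ?_) hLR
    exact zpowers_le.2 D.y_R ((Subgroup.mem_normalizer_iff.1 hg D.y).1 (mem_zpowers _))
  apply hfinish
  rcases Fus.SCThree.concl_aux _ (D.L ⧸ zpowers t') yb rfl hyb with
    ⟨N, hN, -, hco, hq⟩ | ⟨N, hN, hcomm, hsq, ⟨ψ⟩⟩ | hψ
  · have h3 : ¬ 3 ∣ Nat.card N := fun h => Nat.prime_three.ne_one (Nat.eq_one_of_dvd_coprimes hco h dvd_rfl)
    set ρ := QuotientGroup.mk' N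
    have hρ : Function.Surjective ρ := QuotientGroup.mk'_surjective N
    have hyq : Char.SCP.Hyp 3 (ρ yb) := Fus.SCThree.hyp_quotient hyb N h3
    have hcard : Nat.card (_ ⧸ N) = 3 ∨ Nat.card (_ ⧸ N) = 6 := by
      rcases hq with h | ⟨⟨e⟩⟩
      · exact Or.inl h
      · right; rw [Nat.card_congr e.toEquiv, Nat.card_perm, Nat.card_fin]; rfl
    obtain ⟨hNR, -⟩ := hinv N hN (fun N' hN' h3' => by
      have hn3 : ¬ 3 ∣ Nat.card (N'.map ρ) := fun h => h3' (h.trans (Subgroup.card_map_dvd _ _))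
      haveI := Subgroup.Normal.map hN' ρ hρ
      have hd := Subgroup.card_subgroup_dvd_card (N'.map ρ)
      have h12 : Nat.card (N'.map ρ) = 1 ∨ Nat.card (N'.map ρ) = 2 := by
        have h6 : Nat.card (N'.map ρ) ∣ 6 := by
          rcases hcard with e | e <;> rw [e] at hd
          · exact hd.trans (by norm_num)
          · exact hd
        have := Nat.le_of_dvd (by norm_num) h6
        interval_cases hv : Nat.card (N'.map ρ) <;> omega
      rcases h12 with h | h
      · rw [← QuotientGroup.ker_mk' N, ← Subgroup.map_eq_bot_iff]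
        exact Subgroup.card_eq_one.1 h
      · exfalso
        obtain ⟨a, ha, huniq⟩ := (Nat.card_eq_two_iff' (1 : N'.map ρ)).1 h
        have hc : Commute (a : _ ⧸ N) (ρ yb) := by
          have hmem' : ρ yb * a * (ρ yb)⁻¹ ∈ N'.map ρ := Subgroup.Normal.conj_mem inferInstance _ a.2 _
          have := huniq ⟨_, hmem'⟩ (fun e => ha (Subtype.ext (conj_eq_one_iff.1 (congrArg Subtype.val e))))
          exact (mul_inv_eq_iff_eq_mul.1 (congrArg Subtype.val this :)).symm
        refine ha (Subtype.ext (Fus.SCThree.commute_eq_one hyq hc ?_))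
        rw [Subgroup.orderOf_coe]
        exact fun h' => hn3 (h'.trans (orderOf_dvd_natCard a))) h3
    set H := RL.map ρ
    have hyH : ρ yb ∈ H := ⟨_, hybRL, rfl⟩
    have h3H : 3 ∣ Nat.card H := hyq.ord ▸ Subgroup.orderOf_dvd_natCard H hyH
    have hH : H = ⊤ := by
      refine Subgroup.eq_top_of_card_eq H (Nat.dvd_antisymm (Subgroup.card_subgroup_dvd_card H) ?_)
      rcases hcard with e | e <;> rw [e]
      · exact h3H
      · set sb := π ⟨D.s, D.s_L⟩
        have hsH : ρ sb ∈ H := ⟨sb, ⟨_, D.s_R, rfl⟩, rfl⟩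
        have hs2 : ρ sb ^ 2 = 1 := by
          rw [← map_pow, ← map_pow, show (⟨D.s, D.s_L⟩ : D.L) ^ 2 = 1 from Subtype.ext (by
            rw [SubmonoidClass.coe_pow, pow_two]; exact D.s_sq), map_one, map_one]
        have hs1 : ρ sb ≠ 1 := by
          intro he
          have : ρ sb * ρ yb * (ρ sb)⁻¹ = (ρ yb)⁻¹ := by
            rw [← map_inv ρ, ← map_mul, ← map_mul, ← map_inv ρ, ← map_inv π, ← map_inv π, ← map_mul, ← map_mul]
            exact congrArg (fun m => ρ (π m)) (Subtype.ext D.sy)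
          rw [he, one_mul, inv_one, mul_one, eq_inv_iff_mul_eq_one, ← pow_two] at this
          have h2 := orderOf_dvd_of_pow_eq_one this
          rw [hyq.ord] at h2
          norm_num at h2
        have h2H : 2 ∣ Nat.card H := orderOf_eq_prime hs2 hs1 ▸ Subgroup.orderOf_dvd_natCard H hsH
        exact Nat.Coprime.mul_dvd_of_dvd_of_dvd (show Nat.Coprime 2 3 by norm_num) h2H h3H
    rw [← Subgroup.comap_map_eq_self (f := ρ) (H := RL) (by rw [QuotientGroup.ker_mk']; exact hNR)]
    show H.comap ρ = ⊤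
    rw [hH, Subgroup.comap_top]
  · set φ := ψ.toMonoidHom.comp (QuotientGroup.mk' N)
    have hφ : Function.Surjective φ := ψ.surjective.comp (QuotientGroup.mk'_surjective N)
    have hker : φ.ker = N := by
      ext g
      simp [φ, MonoidHom.mem_ker]
    have h3 : ¬ 3 ∣ Nat.card N := fun h => by
      obtain ⟨⟨a, haN⟩, ha⟩ := exists_prime_orderOf_dvd_card' (G := N) 3 h
      rw [Subgroup.orderOf_mk] at ha
      have h2 := orderOf_dvd_of_pow_eq_one (hsq a haN)
      rw [ha] at h2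
      norm_num at h2
    have hA : Nat.card (alternatingGroup (Fin 5)) = 60 := by rw [nat_card_alternatingGroup, Nat.card_fin]; rfl
    obtain ⟨hNR, hNx⟩ := hinv N hN (fun N' hN' h3' => by
      haveI := Subgroup.Normal.map hN' φ hφ
      rcases IsSimpleGroup.eq_bot_or_eq_top_of_normal _ ‹(N'.map φ).Normal› with h | h
      · rw [← hker, ← Subgroup.map_eq_bot_iff]; exact h
      · exfalso
        refine h3' (Nat.dvd_trans ?_ (Subgroup.card_map_dvd N' φ))
        rw [h, Subgroup.card_top, hA]; norm_num) h3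
    have hy3 : φ yb ^ 3 = 1 := by rw [← map_pow, ← hyb.ord, pow_orderOf_eq_one, map_one]
    have hy1 : φ yb ≠ 1 := fun h => h3 (hyb.ord ▸ Subgroup.orderOf_dvd_natCard N (hker ▸ MonoidHom.mem_ker.2 h))
    obtain ⟨V, hV, hVne, hVcov⟩ := Fus.SCThree.exists_fours (φ yb) hy3 hy1
    let E : Fin 2 → Subgroup (D.L ⧸ zpowers t') := fun i => (V i).comap φ
    have hEcard : ∀ i, Nat.card (E i) = 4 * Nat.card N := fun i => by
      have h1 := ((V i).comap φ).card_mul_index
      rw [Subgroup.index_comap_of_surjective (V i) hφ, ← N.card_mul_index] at h1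
      have h2 := (V i).card_mul_index
      have h5 : N.index = 60 := by
        rw [Subgroup.index_eq_card, Nat.card_congr ψ.toEquiv, hA]
      rw [(hV i).1, hA] at h2
      rw [h5, show (V i).index = 15 by omega] at h1
      show Nat.card ((V i).comap φ) = _
      omega
    have hE3 : ∀ i, ¬ 3 ∣ Nat.card (E i) := fun i h => by
      rw [hEcard] at h
      exact (Nat.prime_three.dvd_mul.1 h).elim (by norm_num) h3
    have hEy : ∀ i, ∀ e ∈ E i, yb * e * yb⁻¹ ∈ E i := fun i e he => by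
      show φ _ ∈ V i
      rw [map_mul, map_mul, map_inv]
      exact (Subgroup.mem_normalizer_iff.1 (hV i).2.1 _).1 he
    have hperm : ∀ i, (∀ e ∈ E i, au D.x e ∈ E 0) ∨ (∀ e ∈ E i, au D.x e ∈ E 1) := fun i => by
      set E' := (E i).map (au D.x).toMonoidHom
      have hE' : ¬ 3 ∣ Nat.card (E'.map φ) := fun h => hE3 i (by
        have := h.trans (Subgroup.card_map_dvd E' φ)
        rwa [Subgroup.card_map_of_injective (au D.x).injective] at this)
      have hn : φ yb ∈ normalizer (E'.map φ : Set (alternatingGroup (Fin 5))) := by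
        refine Subgroup.le_normalizer_map φ ⟨yb, ?_, rfl⟩
        refine mem_normalizer_fintype fun e he => ?_
        obtain ⟨f, hf, rfl⟩ := he
        exact ⟨_, hEy i f hf, by simp [hauxy]⟩
      rcases hVcov _ hE' hn with h | h
      · exact Or.inl fun e he => h ⟨_, ⟨e, he, rfl⟩, rfl⟩
      · exact Or.inr fun e he => h ⟨_, ⟨e, he, rfl⟩, rfl⟩
    have hEinj : E 0 ≠ E 1 := fun e => hVne (Subgroup.comap_injective hφ e)
    have honto : ∀ i j, (∀ e ∈ E i, au D.x e ∈ E j) → ∀ f ∈ E j, ∃ e ∈ E i, au D.x e = f := fun i j h f hf => by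
      have : (E i).map (au D.x).toMonoidHom = E j := Subgroup.eq_of_le_of_card_ge
        (by rintro _ ⟨e, he, rfl⟩; exact h e he)
        (by rw [Subgroup.card_map_of_injective (au D.x).injective, hEcard, hEcard])
      rw [← this] at hf
      exact hf
    have hfix : ∀ i, ∀ e ∈ E i, au D.x e ∈ E i := by
      have hno : ∀ i j, i ≠ j → ¬ (∀ e ∈ E i, au D.x e ∈ E j) := by
        intro i j hij h
        have hji : ∀ e ∈ E j, au D.x e ∈ E i := by
          rcases hperm j with h' | h' <;> fin_cases i <;> fin_cases j <;> first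
            | exact absurd rfl hij
            | exact h'
            | (exfalso
               refine hEinj (le_antisymm (fun a ha => ?_) (fun a ha => ?_))
               all_goals
                 first
                   | (obtain ⟨b, hb, hbe⟩ := honto _ _ h' _ (h a ha)
                      rw [← (au D.x).injective hbe]; exact hb)
                   | (obtain ⟨b, hb, hbe⟩ := honto _ _ h _ (h' a ha)
                      rw [← (au D.x).injective hbe]; exact hb))
        refine hEinj ?_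
        have h1 : ∀ a ∈ E i, a ∈ E j := fun a ha => by
          have := h _ (hji _ (h a ha)); rwa [hau3] at this
        have h2 : E i = E j := Subgroup.eq_of_le_of_card_ge h1 (by rw [hEcard, hEcard])
        fin_cases i <;> fin_cases j <;> first | exact absurd rfl hij | exact h2 | exact h2.symm
      intro i
      rcases hperm i with h | h <;> fin_cases i <;> first | exact h | exact absurd h (hno _ _ (by decide))
    set H := RL.map φ
    have hVH : ∀ i, V i ≤ H := fun i => by
      rw [← Subgroup.map_comap_eq_self_of_surjective hφ (V i)]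
      exact Subgroup.map_mono (hinRL (E i) (hE3 i) (hfix i) (hEy i))
    have hyH : φ yb ∈ H := ⟨_, hybRL, rfl⟩
    have h12 : 12 ∣ Nat.card H := by
      have h4 : 4 ∣ Nat.card H := (hV 0).1 ▸ Subgroup.card_dvd_of_le (hVH 0)
      have h3' : 3 ∣ Nat.card H := by
        have := Subgroup.orderOf_dvd_natCard H hyH
        rwa [orderOf_eq_prime hy3 hy1] at this
      exact Nat.Coprime.mul_dvd_of_dvd_of_dvd (show Nat.Coprime 4 3 by norm_num) h4 h3'
    have hHtop : H = ⊤ := by
      have hd : Nat.card H ∣ 60 := hA ▸ Subgroup.card_subgroup_dvd_card H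
      refine Subgroup.eq_top_of_card_eq H ?_
      rw [hA]
      by_contra hne
      obtain ⟨k, hk⟩ := h12
      have h12' : Nat.card H = 12 := by
        have h5 : k ∣ 5 := by
          have : 12 * k ∣ 12 * 5 := by rw [← hk]; exact hd
          exact Nat.dvd_of_mul_dvd_mul_left (by norm_num) this
        rcases (Nat.dvd_prime (by norm_num)).1 h5 with rfl | rfl <;> omega
      set K := normalizer (V 0 : Set (alternatingGroup (Fin 5))) ⊓ H
      have hK : H ≤ normalizer (V 0 : Set (alternatingGroup (Fin 5))) := by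
        have h4 : 4 ∣ Nat.card K := (hV 0).1 ▸ Subgroup.card_dvd_of_le (le_inf Subgroup.le_normalizer (hVH 0))
        have h3' : 3 ∣ Nat.card K := by
          have := Subgroup.orderOf_dvd_natCard K ⟨(hV 0).2.1, hyH⟩
          rwa [orderOf_eq_prime hy3 hy1] at this
        have h := Nat.le_of_dvd Nat.card_pos (Nat.Coprime.mul_dvd_of_dvd_of_dvd (show Nat.Coprime 4 3 by norm_num) h4 h3')
        exact (Subgroup.eq_of_le_of_card_ge (inf_le_right : K ≤ H) (h12'.le.trans h)).ge.trans inf_le_left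
      haveI : Fact (Nat.Prime 2) := ⟨Nat.prime_two⟩
      have hp : ∀ i, IsPGroup 2 (V i) := fun i => IsPGroup.of_card (n := 2) (by rw [(hV i).1]; rfl)
      have hsup := (hp 1).to_sup_of_normal_right' (hp 0) ((hVH 1).trans hK)
      obtain ⟨m, hm⟩ := IsPGroup.iff_card.1 hsup
      have hd12 := Subgroup.card_dvd_of_le (sup_le (hVH 1) (hVH 0))
      rw [h12', hm] at hd12
      have hm2 : m ≤ 2 := by
        by_contra hh
        exact absurd ((pow_dvd_pow 2 (by omega : 3 ≤ m)).trans hd12) (by norm_num)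
      have hle4 : Nat.card (V 1 ⊔ V 0 : Subgroup _) ≤ 4 := by
        rw [hm]; exact Nat.pow_le_pow_right (by norm_num) hm2
      have e0 := Subgroup.eq_of_le_of_card_ge (le_sup_right : V 0 ≤ V 1 ⊔ V 0) (by rw [(hV 0).1]; exact hle4)
      have e1 := Subgroup.eq_of_le_of_card_ge (le_sup_left : V 1 ≤ V 1 ⊔ V 0) (by rw [(hV 1).1]; exact hle4)
      exact hVne (e0.trans e1.symm)
    rw [← Subgroup.comap_map_eq_self (f := φ) (H := RL) (by rw [hker]; exact hNR)]
    show H.comap φ = ⊤
    rw [hHtop, Subgroup.comap_top]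
  · exfalso
    obtain ⟨ψ⟩ := hψ
    haveI : Fact (Nat.Prime 7) := ⟨by norm_num⟩
    have h168 : Nat.card (D.L ⧸ zpowers t') = 168 := by
      rw [Nat.card_congr ψ.toEquiv]
      have := Dickson.card_psl_odd (F := ZMod 7) (by rw [ZMod.card]; exact ⟨3, by norm_num⟩)
      rw [ZMod.card] at this
      omega
    have hn : ¬ 3 ∣ Nat.card (Sylow 7 (D.L ⧸ zpowers t')) := by
      have h1 := card_sylow_modEq_one 7 (D.L ⧸ zpowers t')
      obtain ⟨P⟩ := (inferInstance : Nonempty (Sylow 7 (D.L ⧸ zpowers t')))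
      have hP : Nat.card (P : Subgroup (D.L ⧸ zpowers t')) = 7 := by
        rw [P.card_eq_multiplicity, h168, show (168 : ℕ) = 24 * 7 by norm_num,
          Nat.factorization_mul (by norm_num) (by norm_num), Finsupp.add_apply,
          (show Nat.Prime 7 by norm_num).factorization_self, Nat.factorization_eq_zero_of_not_dvd (by norm_num)]
        norm_num
      have h2 := P.card_dvd_index
      have h3 := (P : Subgroup (D.L ⧸ zpowers t')).card_mul_index
      rw [hP, h168] at h3
      rw [show (P : Subgroup (D.L ⧸ zpowers t')).index = 24 by omega] at h2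
      intro h
      have := Nat.le_of_dvd (by norm_num) h2
      unfold Nat.ModEq at h1
      obtain ⟨k, hk⟩ := h
      interval_cases hv : Nat.card (Sylow 7 (D.L ⧸ zpowers t')) <;> omega
    letI : MulAction D.T (Sylow 7 (D.L ⧸ zpowers t')) :=
      MulAction.compHom (Sylow 7 (D.L ⧸ zpowers t')) (au.comp D.T.subtype)
    obtain ⟨P, hP⟩ := D.isPGroup_T.nonempty_fixed_point_of_prime_not_dvd_card (α := Sylow 7 (D.L ⧸ zpowers t')) hn
    have hfix : ∀ g ∈ D.T, ∀ e ∈ (P : Subgroup (D.L ⧸ zpowers t')), au g e ∈ (P : Subgroup (D.L ⧸ zpowers t')) := by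
      intro g hg e he
      have h : au g • P = P := hP ⟨g, hg⟩
      rw [← h]
      exact Subgroup.smul_mem_pointwise_smul _ _ _ he
    obtain ⟨n, hn'⟩ := IsPGroup.iff_card.1 P.isPGroup'
    have hn7 : ¬ 3 ∣ Nat.card (P : Subgroup (D.L ⧸ zpowers t')) := fun h => by
      rw [hn'] at h
      exact absurd (Nat.prime_three.dvd_of_dvd_pow h) (by norm_num)
    have hPle := hinRL _ hn7 (hfix _ D.x_T) fun e he => hauy e ▸ hfix _ D.y_T e he
    refine D.no7 ?_
    have h7 : 7 ∣ Nat.card (P : Subgroup (D.L ⧸ zpowers t')) := P.dvd_card_of_dvd_card (by rw [h168]; norm_num)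
    refine h7.trans ((Subgroup.card_dvd_of_le hPle).trans ((Subgroup.card_map_dvd _ _).trans ?_))
    exact Subgroup.card_comap_dvd_of_injective D.R D.L.subtype D.L.subtype_injective

end Cfsg.Agent.Spor.L43Three.NineTwo
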