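import Cfsg.Agent.Lib.Spor.L43Three.Two.Strong
import Cfsg.Agent.Lib.Spor.L43Three.Two.BlockModel
import Cfsg.Agent.Lib.Spor.L43Three.Two.NineTwoTop
import Cfsg.Agent.Lib.Invol.Dihedral
import Cfsg.Agent.Lib.Classical.SLGroup

/-!
In the second case the centraliser of the involution lies in the subgroup isomorphic to `PSL(4, 3)`.
-/

set_option autoImplicit false
set_option linter.unusedSectionVars false
set_option linter.style.haveILetI false
set_option maxRecDepth 100000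
set_option maxHeartbeats 1000000

namespace Cfsg.Agent.Spor.L43Three

open Subgroup Matrix

universe u

theorem tri_check : ∀ a b a' b' : ZMod 3, a ≠ 0 → a' ≠ 0 → ∃ (v : Fin 2 → ZMod 3) (i : Fin 2),
    (dg !![a, b; 0, a] !![a', b'; 0, a'] = tMat v * (if i = 0 then 1 else tI.1.1) ∨
      dg !![a, b; 0, a] !![a', b'; 0, a'] = -(tMat v * (if i = 0 then 1 else tI.1.1))) ∧
    (ad !![a, b; 0, a] !![a', b'; 0, a'] = tMat v * (ad 1 1 * (if i = 0 then 1 else tI.1.1)) ∨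
      ad !![a, b; 0, a] !![a', b'; 0, a'] = -(tMat v * (ad 1 1 * (if i = 0 then 1 else tI.1.1))) ∨
      ad !![a, b; 0, a] !![a', b'; 0, a'] = tMat v * (ad 1 1 * (if i = 0 then tI.1.1 else 1)) ∨
      ad !![a, b; 0, a] !![a', b'; 0, a'] = -(tMat v * (ad 1 1 * (if i = 0 then tI.1.1 else 1)))) := by
  decide +kernel

theorem tri_check' : ∀ a b a' b' : ZMod 3, a ≠ 0 → a' ≠ 0 → ∃ (v : Fin 2 → ZMod 3) (i : Fin 2),
    (eq4 (ad !![a, b; 0, -a] !![a', b'; 0, -a']) (tMat v * (tS.1.1 * ad 1 1 * (if i = 0 then 1 else tI.1.1))) ||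
      eq4 (ad !![a, b; 0, -a] !![a', b'; 0, -a']) (-(tMat v * (tS.1.1 * ad 1 1 * (if i = 0 then 1 else tI.1.1))))) = true := by
  decide +kernel

theorem tEl_gen : ∀ v : Fin 2 → ZMod 3, ∃ i j : Fin 3,
    (tEl ![1, 1] ^ (i : ℕ) * tEl ![1, 2] ^ (j : ℕ)).1.1 = tMat v := by decide +kernel

theorem misc_facts : (ad 1 1 * ad 1 1 : M4) = 1 ∧ tS.1.1 * tMat ![1, 1] * tS.1.1 = tMat ![2, 2] ∧
    (ad 1 1 * tMat ![1, 1] : M4) = tMat ![1, 1] * ad 1 1 ∧ (ad 1 1 * tMat ![1, 2] : M4) = tMat ![2, 1] * ad 1 1 ∧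
    tMat ![1, 1] * tMat ![2, 2] = 1 ∧ tMat ![1, 2] * tMat ![2, 1] = 1 ∧ lF (tMat ![1, 1]) = 2 ∧
    (tMat ![1, 1] * tMat ![1, 2] : M4) = tMat ![1, 2] * tMat ![1, 1] ∧
    dTwo = -dOne ∧ !![0, 1; 2, 0] * dTwo = dOne * !![0, 1; 2, 0] ∧ (!![0, 1; 2, 0] : Mat2).det = 1 := by
  decide +kernel

theorem anti_facts : ∀ e : ZMod 3, e ≠ 0 →
    ad dOne (e • dOne) * tMat ![1, 2] = tMat ![1, 2] * ad dOne (e • dOne) := by decide +kernel

theorem card_SL44 : Nat.card SL44 = 12130560 := by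
  have h : Nat.card (GL (Fin 4) (ZMod 3)) = Nat.card (ZMod 3)ˣ * Nat.card SL44 :=
    Classical.natCard_GL_eq_SL_mul (F := ZMod 3) 4 (by norm_num)
  rw [Matrix.card_GL_field, ZMod.card, Nat.card_units, Nat.card_zmod] at h
  generalize Nat.card SL44 = n at h ⊢
  simp [Fin.prod_univ_four] at h
  omega

theorem negS_val : negS.1 = (-1 : M4) := rfl

theorem negS_ne : negS ≠ 1 := fun h => absurd (congrArg (fun X : SL44 => X.1) h) (by decide +kernel)

theorem center_cases {r : SL44} (h : r ∈ center SL44) : r.1 = 1 ∨ r.1 = -1 := by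
  obtain ⟨c, hc4, hc⟩ := center_SL44.1 h
  have key : ∀ c : ZMod 3, c ^ 4 = 1 → c = 1 ∨ c = 2 := by decide
  rcases key c hc4 with rfl | rfl
  · exact Or.inl (by rw [← hc, map_one])
  · exact Or.inr (by rw [← hc]; decide +kernel)

theorem card_center_SL44 : Nat.card (center SL44) = 2 := by
  rw [Nat.card_eq_two_iff' (1 : center SL44)]
  refine ⟨⟨negS, negS_center⟩, fun e => negS_ne (congrArg Subtype.val e), fun y hy => ?_⟩
  rcases center_cases y.2 with e | e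
  · exact absurd (Subtype.ext (Subtype.ext (by rw [e]; rfl))) hy
  · exact Subtype.ext (Subtype.ext (by rw [e]; rfl))

theorem card_PSL44 : Nat.card (Matrix.ProjectiveSpecialLinearGroup (Fin 4) (ZMod 3)) = 6065280 := by
  have h := card_eq_card_quotient_mul_card_subgroup (center SL44)
  rw [card_SL44, card_center_SL44] at h
  change Nat.card (SL44 ⧸ center SL44) = 6065280
  omega

theorem neg_mul_cube {X T T' : M4} (h : X * T = -(T' * X)) (hT : T * T * T = 1) (hT' : T' * T' * T' = 1) : X = 0 := by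
  have e2 : X * T * T = T' * T' * X := by
    rw [h, Matrix.neg_mul, Matrix.mul_assoc T', h, Matrix.mul_neg, neg_neg, ← Matrix.mul_assoc]
  have e : X * (T * T * T) = -(T' * T' * T' * X) := by
    rw [← Matrix.mul_assoc, ← Matrix.mul_assoc, e2, Matrix.mul_assoc (T' * T') X T, h, Matrix.mul_neg,
      ← Matrix.mul_assoc]
  rw [hT, hT', Matrix.mul_one, Matrix.one_mul] at e
  have key : ∀ x : ZMod 3, x = -x → x = 0 := by decide
  ext i j
  exact key _ (congrFun (congrFun e i) j)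

theorem dg_smul_one (e : ZMod 3) : dg (e • 1) (e • 1) = Matrix.scalar (Fin 4) e := by
  revert e; decide +kernel

theorem sq_blk {P Q : Mat2} {X : M4} (hX : X = dg P Q) (h : X = 1 ∨ X = -1) :
    ∃ e : ZMod 3, e ≠ 0 ∧ P = e • 1 ∧ Q = e • 1 := by
  rcases h with h | h
  · refine ⟨1, one_ne_zero, ?_⟩
    rw [h, ← dg_one] at hX
    rw [one_smul]
    exact ⟨(dg_inj hX).1.symm, (dg_inj hX).2.symm⟩
  · refine ⟨-1, by decide, ?_⟩
    rw [h, ← dg_neg_one] at hX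
    rw [neg_smul, one_smul]
    exact ⟨(dg_inj hX).1.symm, (dg_inj hX).2.symm⟩

namespace Full

variable {G : Type u} [Group G] [Finite G] (E : Full G)

/-- The map from `SL(4, 3)`. -/
def F : SL44 →* G := E.f.comp (QuotientGroup.mk' (center SL44))

theorem F_ι (M : Stab) : E.F M.1 = E.ι M := E.f_ι M

theorem F_mem (X : SL44) : E.F X ∈ E.R := E.R_eq.ge ⟨_, rfl⟩

theorem F_surj {g : G} (hg : g ∈ E.R) : ∃ X, E.F X = g := by
  obtain ⟨X, rfl⟩ := E.R_eq.le hg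
  obtain ⟨X, rfl⟩ := QuotientGroup.mk'_surjective (center SL44) X
  exact ⟨X, rfl⟩

theorem F_eq {X Y : SL44} : E.F X = E.F Y ↔ X.1 = Y.1 ∨ X.1 = -Y.1 := by
  constructor
  · intro h
    have h1 : X⁻¹ * Y ∈ center SL44 := QuotientGroup.eq.1 (E.f_inj h)
    have e : Y = X * (X⁻¹ * Y) := (mul_inv_cancel_left X Y).symm
    rcases center_cases h1 with h2 | h2
    · left; rw [e]; show _ = X.1 * (X⁻¹ * Y).1; rw [h2, Matrix.mul_one]
    · right; rw [e]; show _ = -(X.1 * (X⁻¹ * Y).1); rw [h2, Matrix.mul_neg, Matrix.mul_one, neg_neg]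
  · rintro (h | h)
    · rw [show X = Y from Subtype.ext h]
    · rw [show X = Y * negS from Subtype.ext (by show X.1 = Y.1 * (-1 : M4); rw [h, Matrix.mul_neg, Matrix.mul_one]),
        map_mul, show E.F negS = 1 by
          show E.f _ = 1
          rw [show QuotientGroup.mk' (center SL44) negS = 1 from (QuotientGroup.eq_one_iff _).2 negS_center, map_one],
        mul_one]

theorem comm_lift {X Y : SL44} (h : Commute (E.F X) (E.F Y)) :
    X.1 * Y.1 = Y.1 * X.1 ∨ X.1 * Y.1 = -(Y.1 * X.1) := by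
  have : E.F (X * Y) = E.F (Y * X) := by rw [map_mul, map_mul, h.eq]
  exact E.F_eq.1 this

/-- The subgroup of index two in the centraliser of the involution inside `R`. -/
def MSub : Subgroup G where
  carrier := {g | ∃ X : SL44, InM X.1 ∧ E.F X = g}
  one_mem' := ⟨1, ⟨1, 1, det_one, det_one, Or.inl dg_one.symm⟩, map_one _⟩
  mul_mem' := by
    rintro _ _ ⟨X, hX, rfl⟩ ⟨Y, hY, rfl⟩
    exact ⟨X * Y, (hX.mul hY).1, map_mul _ _ _⟩
  inv_mem' := by
    rintro _ ⟨X, hX, rfl⟩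
    refine ⟨X⁻¹, ?_, map_inv _ _⟩
    obtain ⟨n, hn, hn1⟩ := (isOfFinOrder_of_finite X).exists_pow_eq_one
    rw [show X⁻¹ = X ^ (n - 1) from inv_eq_of_mul_eq_one_right (by
      rw [← pow_succ', Nat.sub_add_cancel hn, hn1])]
    induction (n - 1) with
    | zero => rw [pow_zero]; exact ⟨1, 1, det_one, det_one, Or.inl dg_one.symm⟩
    | succ k ih => rw [pow_succ]; exact (ih.mul hX).1

theorem shape_of_mem {g : G} (hg : g ∈ E.R) (hc : Commute g (E.ι tI)) :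
    ∃ (X : SL44) (A B : Mat2), E.F X = g ∧ Shape X.1 A B ∧ A.det * B.det = 1 := by
  obtain ⟨X, rfl⟩ := E.F_surj hg
  rw [← E.F_ι] at hc
  rcases E.comm_lift hc with h | h
  · obtain ⟨A, B, hAB⟩ := shape_comm h
    exact ⟨X, A, B, rfl, Or.inl hAB, by rw [← Shape.det (A := A) (B := B) (Or.inl hAB)]; exact X.2⟩
  · obtain ⟨A, B, hAB⟩ := shape_anti h
    exact ⟨X, A, B, rfl, Or.inr hAB, by rw [← Shape.det (A := A) (B := B) (Or.inr hAB)]; exact X.2⟩

theorem shape_comm_tI {X : SL44} {A B : Mat2} (h : Shape X.1 A B) : Commute (E.F X) (E.ι tI) := by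
  rw [← E.F_ι]
  show _ = _
  rw [← map_mul, ← map_mul, E.F_eq]
  have hI : tI.1.1 = dg 1 (-1) := by decide +kernel
  show X.1 * tI.1.1 = tI.1.1 * X.1 ∨ X.1 * tI.1.1 = -(tI.1.1 * X.1)
  rw [hI]
  rcases h with h | h <;> rw [h]
  · left; rw [dg_dg, dg_dg]; simp
  · right; rw [ad_dg, dg_ad, ← ad_neg]; simp

theorem det_cases {A B : Mat2} (h : A.det * B.det = 1) :
    (A.det = 1 ∧ B.det = 1) ∨ (A.det = -1 ∧ B.det = -1) := by
  have key : ∀ a b : ZMod 3, a * b = 1 → (a = 1 ∧ b = 1) ∨ (a = -1 ∧ b = -1) := by decide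
  exact key _ _ h

theorem b_facts {X : SL44} {A B : Mat2} (h : Shape X.1 A B) (hA : A.det = -1) (hB : B.det = -1) :
    InM (tS.1.1 * X.1) := by
  obtain ⟨h1, h2, -, -⟩ := d_facts
  rw [tS_dg]
  rcases h with h | h <;> rw [h]
  · rw [dg_dg]
    exact ⟨_, _, by rw [det_mul, h1, hA]; ring, by rw [det_mul, h2, hB]; ring, Or.inl rfl⟩
  · rw [dg_ad]
    exact ⟨_, _, by rw [det_mul, h1, hA]; ring, by rw [det_mul, h2, hB]; ring, Or.inr rfl⟩

theorem not_InM {X : SL44} {A B : Mat2} (h : Shape X.1 A B) (hA : A.det = -1) : E.F X ∉ E.MSub := by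
  rintro ⟨Y, ⟨C, D, hC, hD, hY⟩, hXY⟩
  have hne : (1 : ZMod 3) ≠ -1 := by decide
  have key : ∀ {Y : M4} {C D : Mat2}, Y = X.1 → C.det = 1 → Shape Y C D → False := by
    intro Y C D e hC hY
    rcases h with h | h <;> rcases hY with hY | hY <;> rw [e, h] at hY
    · rw [(dg_inj hY).1, hC] at hA; exact hne hA
    · exact dg_ne_ad (by rw [hA]; decide) hY
    · exact dg_ne_ad (by rw [hC]; exact one_ne_zero) hY.symm
    · rw [(ad_inj hY).1, hC] at hA; exact hne hA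
  rcases E.F_eq.1 hXY with e | e
  · exact key e hC hY
  · exact key (Y := -Y.1) (by rw [e, neg_neg]) (by rw [det_neg, hC, Fintype.card_fin]; norm_num) hY.neg

theorem tT_cube (v : Fin 2 → ZMod 3) : tMat v * tMat v * tMat v = 1 := tEl_cube v

/-- Commutation with an element of the elementary subgroup lifts. -/
theorem lift_T {X : SL44} {v w : Fin 2 → ZMod 3} (h : E.F X * E.ι (tEl v) = E.ι (tEl w) * E.F X) :
    X.1 * tMat v = tMat w * X.1 := by
  rw [← E.F_ι, ← E.F_ι, ← map_mul, ← map_mul, E.F_eq] at h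
  rcases h with h | h
  · exact h
  · exfalso
    have h0 := neg_mul_cube (X := X.1) h (tT_cube v) (tT_cube w)
    have := X.2
    rw [h0, Matrix.det_zero] at this
    exact zero_ne_one this

theorem tEl_pow (v : Fin 2 → ZMod 3) : ∃ i j : ℕ,
    E.ι (tEl v) = E.ι (tEl ![1, 1]) ^ i * E.ι (tEl ![1, 2]) ^ j := by
  obtain ⟨i, j, h⟩ := tEl_gen v
  exact ⟨i, j, by rw [← map_pow, ← map_pow, ← map_mul]; exact congrArg E.ι (Stab_ext (a := tEl v) h.symm)⟩

theorem tri_of {A : Mat2} (hA : A.det ≠ 0) {k l : ZMod 3} (hk : k = 1 ∨ k = 2) (hl : l = 1 ∨ l = 2)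
    (h : A * !![1, k; 0, 1] = !![1, l; 0, 1] * A) :
    A.det ≠ 0 ∧ ∃ a b, a ≠ 0 ∧ (k = l → A = !![a, b; 0, a]) ∧ (k ≠ l → A = !![a, b; 0, -a]) := by
  obtain ⟨a, b, c, d, rfl⟩ := m2_surj A
  rw [det_m2] at hA ⊢
  obtain ⟨h11, h21, h12, h22⟩ := cent_blk a b c d hA
  have hc : c = 0 ∧ ((k = l → a = d) ∧ (k ≠ l → a + d = 0)) := by
    rcases hk with rfl | rfl <;> rcases hl with rfl | rfl
    · exact ⟨(h11 h).2, fun _ => (h11 h).1, fun e => absurd rfl e⟩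
    · exact ⟨(h12 h).2, fun e => absurd e (by decide), fun _ => (h12 h).1⟩
    · exact ⟨(h21 h).2, fun e => absurd e (by decide), fun _ => (h21 h).1⟩
    · exact ⟨(h22 h).2, fun _ => (h22 h).1, fun e => absurd rfl e⟩
  obtain ⟨rfl, e1, e2⟩ := hc
  refine ⟨hA, a, b, fun e => hA (by rw [e]; ring), fun e => ?_, fun e => ?_⟩
  · rw [m2, e1 e]
  · rw [m2, show d = -a by linear_combination e2 e]

theorem cent_x_shape {g : G} (hg : g ∈ E.R) (ht : Commute g (E.ι tI)) (hx : Commute g (E.ι (tEl ![1, 1]))) :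
    ∃ (i j : ℕ) (e : G), (e = 1 ∨ e = E.ι tI ∨ e = E.F sSW ∨ e = E.F sSW * E.ι tI) ∧
      g = E.ι (tEl ![1, 1]) ^ i * E.ι (tEl ![1, 2]) ^ j * e := by
  obtain ⟨X, A, B, rfl, hX, hd⟩ := E.shape_of_mem hg ht
  have h := E.lift_T hx.eq
  have hA : A.det ≠ 0 := left_ne_zero_of_mul (by rw [hd]; exact one_ne_zero)
  have hB : B.det ≠ 0 := right_ne_zero_of_mul (by rw [hd]; exact one_ne_zero)
  have hfin : ∀ (v : Fin 2 → ZMod 3) (Y : SL44), (X.1 = tMat v * Y.1 ∨ X.1 = -(tMat v * Y.1)) →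
      (E.F Y = 1 ∨ E.F Y = E.ι tI ∨ E.F Y = E.F sSW ∨ E.F Y = E.F sSW * E.ι tI) → ∃ (i j : ℕ) (e : G),
      (e = 1 ∨ e = E.ι tI ∨ e = E.F sSW ∨ e = E.F sSW * E.ι tI) ∧
      E.F X = E.ι (tEl ![1, 1]) ^ i * E.ι (tEl ![1, 2]) ^ j * e := by
    intro v Y hXY he
    obtain ⟨i, j, hij⟩ := E.tEl_pow v
    exact ⟨i, j, E.F Y, he, by rw [← hij, ← E.F_ι, ← map_mul, E.F_eq]; exact hXY⟩
  have hh : (∃ a b, a ≠ 0 ∧ A = !![a, b; 0, a]) ∧ (∃ a b, a ≠ 0 ∧ B = !![a, b; 0, a]) := by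
    have hu : tMat ![1, 1] = dg !![1, 1; 0, 1] !![1, 1; 0, 1] := by rw [tMat_dg]; simp
    rw [hu] at h
    rcases hX with hX | hX <;> rw [hX] at h
    · rw [dg_dg, dg_dg] at h
      obtain ⟨hP, hQ⟩ := dg_inj h
      obtain ⟨-, a, b, ha, e, -⟩ := tri_of hA (Or.inl rfl) (Or.inl rfl) hP
      obtain ⟨-, a', b', ha', e', -⟩ := tri_of hB (Or.inl rfl) (Or.inl rfl) hQ
      exact ⟨⟨a, b, ha, e rfl⟩, a', b', ha', e' rfl⟩
    · rw [ad_dg, dg_ad] at h
      obtain ⟨hP, hQ⟩ := ad_inj h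
      obtain ⟨-, a, b, ha, e, -⟩ := tri_of hA (Or.inl rfl) (Or.inl rfl) hP
      obtain ⟨-, a', b', ha', e', -⟩ := tri_of hB (Or.inl rfl) (Or.inl rfl) hQ
      exact ⟨⟨a, b, ha, e rfl⟩, a', b', ha', e' rfl⟩
  obtain ⟨⟨a, b, ha, rfl⟩, a', b', ha', rfl⟩ := hh
  obtain ⟨v, i, hv1, hv2⟩ := tri_check a b a' b' ha ha'
  rcases hX with hX | hX
  · rw [← hX] at hv1
    fin_cases i <;> simp at hv1
    · exact hfin v 1 (by simpa using hv1) (Or.inl (map_one _))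
    · exact hfin v tI.1 hv1 (Or.inr (Or.inl (E.F_ι tI)))
  · rw [← hX] at hv2
    have key : ∀ (w : Fin 2), (X.1 = tMat v * (ad 1 1 * (if w = 0 then 1 else tI.1.1)) ∨
        X.1 = -(tMat v * (ad 1 1 * (if w = 0 then 1 else tI.1.1)))) → ∃ (i j : ℕ) (e : G),
        (e = 1 ∨ e = E.ι tI ∨ e = E.F sSW ∨ e = E.F sSW * E.ι tI) ∧
        E.F X = E.ι (tEl ![1, 1]) ^ i * E.ι (tEl ![1, 2]) ^ j * e := by
      intro w hw
      fin_cases w <;> simp at hw
      · exact hfin v sSW hw (Or.inr (Or.inr (Or.inl rfl)))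
      · exact hfin v (sSW * tI.1) hw (Or.inr (Or.inr (Or.inr (by rw [map_mul, E.F_ι]))))
    rcases hv2 with h | h | h | h
    · exact key i (Or.inl h)
    · exact key i (Or.inr h)
    · exact key (if i = 0 then 1 else 0) (Or.inl (by fin_cases i <;> simpa using h))
    · exact key (if i = 0 then 1 else 0) (Or.inr (by fin_cases i <;> simpa using h))

theorem cent_y_shape {g : G} (hg : g ∈ E.R) (ht : Commute g (E.ι tI)) (hy : Commute g (E.ι (tEl ![1, 2]))) :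
    ∃ (i j : ℕ) (e : G), (e = 1 ∨ e = E.ι tI ∨ e = E.ι tS * E.F sSW ∨ e = E.ι tS * E.F sSW * E.ι tI) ∧
      g = E.ι (tEl ![1, 1]) ^ i * E.ι (tEl ![1, 2]) ^ j * e := by
  obtain ⟨X, A, B, rfl, hX, hd⟩ := E.shape_of_mem hg ht
  have h := E.lift_T hy.eq
  have hA : A.det ≠ 0 := left_ne_zero_of_mul (by rw [hd]; exact one_ne_zero)
  have hB : B.det ≠ 0 := right_ne_zero_of_mul (by rw [hd]; exact one_ne_zero)
  have hfin : ∀ (v : Fin 2 → ZMod 3) (Y : SL44), (X.1 = tMat v * Y.1 ∨ X.1 = -(tMat v * Y.1)) →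
      (E.F Y = 1 ∨ E.F Y = E.ι tI ∨ E.F Y = E.ι tS * E.F sSW ∨ E.F Y = E.ι tS * E.F sSW * E.ι tI) →
      ∃ (i j : ℕ) (e : G),
      (e = 1 ∨ e = E.ι tI ∨ e = E.ι tS * E.F sSW ∨ e = E.ι tS * E.F sSW * E.ι tI) ∧
      E.F X = E.ι (tEl ![1, 1]) ^ i * E.ι (tEl ![1, 2]) ^ j * e := by
    intro v Y hXY he
    obtain ⟨i, j, hij⟩ := E.tEl_pow v
    exact ⟨i, j, E.F Y, he, by rw [← hij, ← E.F_ι, ← map_mul, E.F_eq]; exact hXY⟩
  have hu : tMat ![1, 2] = dg !![1, 1; 0, 1] !![1, 2; 0, 1] := by rw [tMat_dg]; simp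
  rw [hu] at h
  rcases hX with hX | hX
  · rw [hX, dg_dg, dg_dg] at h
    obtain ⟨hP, hQ⟩ := dg_inj h
    obtain ⟨-, a, b, ha, e, -⟩ := tri_of hA (Or.inl rfl) (Or.inl rfl) hP
    obtain ⟨-, a', b', ha', e', -⟩ := tri_of hB (Or.inr rfl) (Or.inr rfl) hQ
    obtain ⟨v, i, hv1, -⟩ := tri_check a b a' b' ha ha'
    rw [← e rfl, ← e' rfl, ← hX] at hv1
    fin_cases i <;> simp at hv1
    · exact hfin v 1 (by simpa using hv1) (Or.inl (map_one _))
    · exact hfin v tI.1 hv1 (Or.inr (Or.inl (E.F_ι tI)))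
  · rw [hX, ad_dg, dg_ad] at h
    obtain ⟨hP, hQ⟩ := ad_inj h
    obtain ⟨-, a, b, ha, -, e⟩ := tri_of hA (Or.inr rfl) (Or.inl rfl) hP
    obtain ⟨-, a', b', ha', -, e'⟩ := tri_of hB (Or.inl rfl) (Or.inr rfl) hQ
    obtain ⟨v, i, hv⟩ := tri_check' a b a' b' ha ha'
    rw [← e (by decide), ← e' (by decide), ← hX, Bool.or_eq_true, eq4_iff, eq4_iff] at hv
    fin_cases i <;> simp at hv
    · exact hfin v (tS.1 * sSW) hv (Or.inr (Or.inr (Or.inl (by rw [map_mul, E.F_ι]))))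
    · exact hfin v (tS.1 * sSW * tI.1) hv (Or.inr (Or.inr (Or.inr (by rw [map_mul, map_mul, E.F_ι, E.F_ι]))))

theorem conj_x_shape {g : G} (hg : g ∈ E.R) (ht : Commute g (E.ι tI)) {v : Fin 2 → ZMod 3}
    (h : g * E.ι (tEl ![1, 1]) = E.ι (tEl v) * g) : v = ![1, 1] ∨ v = ![2, 2] := by
  obtain ⟨X, A, B, rfl, hX, hd⟩ := E.shape_of_mem hg ht
  have h' := E.lift_T h
  rw [tMat_dg, tMat_dg] at h'
  have hflip : ∀ {C : Mat2} {k : ZMod 3}, C.det ≠ 0 → C * !![1, 1; 0, 1] = !![1, k; 0, 1] * C → k = C.det := by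
    intro C k hC h
    obtain ⟨a, b, c, d, rfl⟩ := m2_surj C
    rw [det_m2] at hC ⊢
    exact flip_blk a b c d k hC h
  have hA : A.det ≠ 0 := left_ne_zero_of_mul (by rw [hd]; exact one_ne_zero)
  have hB : B.det ≠ 0 := right_ne_zero_of_mul (by rw [hd]; exact one_ne_zero)
  have hv : v 0 = A.det ∧ v 1 = B.det := by
    rcases hX with hX | hX <;> rw [hX] at h'
    · rw [dg_dg, dg_dg] at h'
      exact ⟨hflip hA (by simpa using (dg_inj h').1), hflip hB (by simpa using (dg_inj h').2)⟩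
    · rw [ad_dg, dg_ad] at h'
      exact ⟨hflip hA (by simpa using (ad_inj h').1), hflip hB (by simpa using (ad_inj h').2)⟩
  rcases det_cases hd with ⟨e1, e2⟩ | ⟨e1, e2⟩
  · left; funext i; fin_cases i <;> simp [hv, e1, e2]
  · right; funext i; fin_cases i <;> simp [hv, e1, e2] <;> decide

theorem invol_shape {u : G} (hu : u ∈ E.R) (ht : Commute u (E.ι tI)) (hn : u ∉ E.MSub) (h2 : u * u = 1) :
    (∃ c ∈ E.R, Commute c (E.ι tI) ∧ c * E.ι tS * c⁻¹ = u) ∨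
      ∃ h ∈ E.R, Commute h (E.ι tI) ∧ orderOf h = 3 ∧ Commute u h := by
  obtain ⟨X, A, B, rfl, hX, hd⟩ := E.shape_of_mem hu ht
  obtain ⟨hA, hB⟩ : A.det = -1 ∧ B.det = -1 := by
    rcases det_cases hd with h | h
    · exact absurd ⟨X, ⟨A, B, h.1, h.2, hX⟩, rfl⟩ hn
    · exact h
  have hsq : (X * X).1 = 1 ∨ (X * X).1 = -1 := by
    rw [← map_mul, ← map_one E.F] at h2
    exact E.F_eq.1 h2
  have hconj : ∀ {c : SL44} {Y : SL44}, X.1 * c.1 = c.1 * Y.1 → E.F X * E.F c = E.F c * E.F Y := fun h => by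
    rw [← map_mul, ← map_mul]; exact congrArg E.F (Subtype.ext h)
  rcases hX with hX | hX
  · left
    obtain ⟨e, he, hP, hQ⟩ := sq_blk (X := (X * X).1)
      (show X.1 * X.1 = dg (A * A) (B * B) by rw [hX, dg_dg]) hsq
    have hone : ∀ {C : Mat2}, C.det = -1 → C * C = e • 1 → e = 1 ∧ ∃ D : Mat2, D.det = 1 ∧ D * dOne = C * D := by
      intro C hC hC2
      obtain ⟨a, b, c, d, rfl⟩ := m2_surj C
      rw [det_m2, show (-1 : ZMod 3) = 2 by decide] at hC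
      obtain ⟨h1, h2⟩ := invol_blk a b c d hC
      have key : ∀ x : ZMod 3, x ≠ 0 → x = 1 ∨ x = -1 := by decide
      have : e = 1 ∨ e = -1 := key e he
      rcases this with rfl | rfl
      · rw [one_smul] at hC2
        obtain ⟨x, y, z, w, hd', h⟩ := h2 hC2
        exact ⟨rfl, m2 x y z w, by rw [det_m2, hd'], h⟩
      · rw [neg_smul, one_smul] at hC2
        exact absurd hC2 h1
    obtain ⟨-, C, hC, hCA⟩ := hone hA hP.symm.symm
    obtain ⟨-, D, hD, hDB⟩ := hone hB hQ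
    obtain ⟨-, -, -, -, -, -, -, -, hneg, hW, hWd⟩ := misc_facts
    let c : SL44 := ⟨dg C (D * !![0, 1; 2, 0]), by rw [det_dg, det_mul, hC, hD, hWd]; ring⟩
    refine ⟨E.F c, E.F_mem c, E.shape_comm_tI (A := C) (B := D * !![0, 1; 2, 0]) (Or.inl rfl), ?_⟩
    rw [mul_inv_eq_iff_eq_mul, ← E.F_ι]
    refine (hconj (c := c) (Y := tS.1) ?_).symm
    show X.1 * dg C (D * !![0, 1; 2, 0]) = dg C (D * !![0, 1; 2, 0]) * tS.1.1
    rw [hX, tS_dg, dg_dg, dg_dg, ← hCA, ← mul_assoc, ← hDB, mul_assoc, mul_assoc, hW]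
  · right
    obtain ⟨e, he, hP, hQ⟩ := sq_blk (X := (X * X).1)
      (show X.1 * X.1 = dg (A * B) (B * A) by rw [hX, ad_ad]) hsq
    obtain ⟨h1, -, hd1, -⟩ := d_facts
    let c : SL44 := ⟨dg (A * dOne) 1, by rw [det_dg, det_mul, hA, h1, det_one]; ring⟩
    let w : SL44 := ⟨ad dOne (e • dOne), by
      have key : ∀ x : ZMod 3, x ≠ 0 → -1 * (x ^ 2 * -1) = (1 : ZMod 3) := by decide
      rw [det_ad, Matrix.det_smul, h1, Fintype.card_fin]
      exact key e he⟩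
    have hXc : E.F X * E.F c = E.F c * E.F w := hconj (by
      show X.1 * dg (A * dOne) 1 = dg (A * dOne) 1 * ad dOne (e • dOne)
      rw [hX, ad_dg, dg_ad, mul_one, one_mul, mul_assoc, hd1, mul_one, ← mul_assoc, hQ, smul_mul_assoc, one_mul])
    have hwy : Commute (E.F w) (E.ι (tEl ![1, 2])) := by
      show _ = _
      rw [← E.F_ι, ← map_mul, ← map_mul]
      exact congrArg E.F (Subtype.ext (anti_facts e he))
    have hy3 : orderOf (E.ι (tEl ![1, 2])) = 3 := by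
      haveI : Fact (Nat.Prime 3) := ⟨Nat.prime_three⟩
      refine orderOf_eq_prime ?_ fun h => ?_
      · rw [← map_pow, ← map_one E.ι]
        refine congrArg E.ι (Stab_ext ?_)
        rw [pow_three, ← mul_assoc]
        exact tEl_cube ![1, 2]
      · rw [← map_one E.ι] at h
        exact absurd (congrArg (fun M : Stab => M.1.1 0 3) (E.inj h)) (by decide)
    refine ⟨E.F c * E.ι (tEl ![1, 2]) * (E.F c)⁻¹, mul_mem (mul_mem (E.F_mem c) (E.le ⟨_, rfl⟩)) (inv_mem (E.F_mem c)),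
      ?_, ?_, ?_⟩
    · have hc := E.shape_comm_tI (X := c) (A := A * dOne) (B := 1) (Or.inl rfl)
      exact (hc.mul_left (E.ι_commute.2 (Stab_ext (tEl_comm _)))).mul_left hc.inv_left
    · exact (MulEquiv.orderOf_eq (MulAut.conj (E.F c)) _).trans hy3
    · have e1 : E.F X = E.F c * E.F w * (E.F c)⁻¹ := eq_mul_inv_iff_mul_eq.2 hXc
      rw [e1]
      show _ = _
      calc E.F c * E.F w * (E.F c)⁻¹ * (E.F c * E.ι (tEl ![1, 2]) * (E.F c)⁻¹) =
            E.F c * (E.F w * E.ι (tEl ![1, 2])) * (E.F c)⁻¹ := by group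
        _ = E.F c * (E.ι (tEl ![1, 2]) * E.F w) * (E.F c)⁻¹ := by rw [hwy.eq]
        _ = _ := by group

theorem F_twisted (X : SL44) : E.twistedFull.F X = E.F (twist4 X) := rfl

theorem twisted_tI : E.twistedFull.ι tI = E.ι tI :=
  congrArg E.ι (Stab_ext (by decide +kernel) : twist tI = tI)

theorem twisted_tS : E.twistedFull.ι tS = E.ι tS :=
  congrArg E.ι (Stab_ext (by decide +kernel) : twist tS = tS)

end Full

end Cfsg.Agent.Spor.L43Three
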