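import Cfsg.Agent.Lib.Spor.L43Three.Two.CentInvol

/-!
The centraliser of the involution in the second case.
-/

set_option autoImplicit false
set_option linter.unusedSectionVars false
set_option linter.style.haveILetI false
set_option maxRecDepth 100000
set_option maxHeartbeats 1000000

namespace Cfsg.Agent.Spor.L43Three

open Subgroup Matrix

universe u

/-- A character of order three of the integers modulo three. -/
theorem exists_char : ∃ χ : Multiplicative (ZMod 3) →* ℂˣ,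
    (∀ v, χ v ^ 3 = 1) ∧ χ (Multiplicative.ofAdd 2) ≠ 1 := by
  obtain ⟨w, hw3, hw1⟩ : ∃ w : ℂˣ, w ^ 3 = 1 ∧ w ≠ 1 := by
    have h := Complex.isPrimitiveRoot_exp 3 (by norm_num)
    refine ⟨Units.mk0 _ (h.ne_zero (by norm_num)), Units.ext (by simpa using h.pow_eq_one),
      fun e => h.ne_one (by norm_num) (by simpa using congrArg Units.val e)⟩
  refine ⟨AddMonoidHom.toMultiplicativeLeft (Invol.zmodPow w hw3), fun v => ?_, ?_⟩
  · have key : ∀ i : Multiplicative (ZMod 3), i ^ 3 = 1 := by decide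
    rw [← map_pow, key, map_one]
  · show Additive.toMul (Invol.zmodPow w hw3 (((2 : ℤ) : ZMod 3))) ≠ 1
    rw [Invol.zmodPow_intCast, show (2 : ℤ) = ((2 : ℕ) : ℤ) from rfl, zpow_natCast]
    intro h
    refine hw1 ?_
    rw [pow_succ, h, one_mul] at hw3
    exact hw3

theorem cfg_facts : (∀ k : ZMod 3, (!![1, k; 0, 1] : Mat2).det = 1) ∧ ((-1 : Mat2).det = 1) ∧
    tI.1.1 = dg 1 (-1) ∧ (tEl 0).1.1 = 1 := by decide +kernel

namespace Full

variable {G : Type u} [Group G] [Finite G] (E : Full G)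

theorem ι_eq_one {M : Stab} (h : M.1.1 = 1) : E.ι M = 1 := by
  rw [show M = 1 from Stab_ext h, map_one]

theorem ι_cube_one (v : Fin 2 → ZMod 3) : E.ι (tEl v) ^ 3 = 1 := by
  rw [← map_pow]
  refine E.ι_eq_one ?_
  rw [pow_three, ← mul_assoc]
  exact tEl_cube v

theorem tEl_ne_one {v : Fin 2 → ZMod 3} (hv : v ≠ 0) : E.ι (tEl v) ≠ 1 := fun h => hv (tEl_inj (by
  rw [show tEl 0 = 1 from Stab_ext (by decide +kernel)]
  exact E.inj (h.trans (map_one _).symm)))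

/-- The character on the subgroup of index two. -/
theorem exists_lin : ∃ lG : E.MSub →* ℂˣ, (∀ m, lG m ^ 3 = 1) ∧
    (∀ (X : SL44) (hX : InM X.1), lF X.1 = 2 → lG ⟨E.F X, ⟨X, hX, rfl⟩⟩ ≠ 1) ∧
    ∀ (X Z : SL44) (hX : InM X.1) (hZ : InM Z.1), lF Z.1 = -lF X.1 →
      lG ⟨E.F Z, ⟨Z, hZ, rfl⟩⟩ = (lG ⟨E.F X, ⟨X, hX, rfl⟩⟩)⁻¹ := by
  classical
  obtain ⟨χ, hχ3, hχ2⟩ := exists_char
  have hwell : ∀ {X Z : SL44}, InM X.1 → E.F X = E.F Z → lF X.1 = lF Z.1 := by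
    intro X Z hX h
    rcases E.F_eq.1 h with e | e
    · rw [e]
    · rw [show Z.1 = -X.1 by rw [e, neg_neg], hX.neg.2]
  have hex : ∀ g : E.MSub, ∃ X : SL44, InM X.1 ∧ E.F X = g := fun g => g.2
  choose r hr1 hr2 using hex
  let l0 : E.MSub → Multiplicative (ZMod 3) := fun g => Multiplicative.ofAdd (lF (r g).1)
  have hl0 : ∀ (X : SL44) (hX : InM X.1) (h : E.F X ∈ E.MSub), l0 ⟨E.F X, h⟩ = Multiplicative.ofAdd (lF X.1) :=
    fun X hX h => congrArg Multiplicative.ofAdd (hwell (X := r ⟨E.F X, h⟩) (Z := X) (hr1 _) (hr2 _))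
  have hmul : ∀ a b, l0 (a * b) = l0 a * l0 b := by
    rintro ⟨_, X, hX, rfl⟩ ⟨_, Z, hZ, rfl⟩
    have h1 : E.F X * E.F Z = E.F (X * Z) := (map_mul _ _ _).symm
    have h2 : (⟨E.F X, X, hX, rfl⟩ * ⟨E.F Z, Z, hZ, rfl⟩ : E.MSub) = ⟨E.F (X * Z), X * Z, (hX.mul hZ).1, rfl⟩ :=
      Subtype.ext h1
    rw [h2]
    refine (hl0 (X * Z) (hX.mul hZ).1 _).trans ?_
    refine Eq.trans ?_ (congrArg₂ (· * ·) (hl0 X hX _) (hl0 Z hZ _)).symm
    exact congrArg Multiplicative.ofAdd (hX.mul hZ).2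
  have hval : ∀ (X : SL44) (hX : InM X.1) (h : E.F X ∈ E.MSub),
      χ.comp (MonoidHom.mk' l0 hmul) ⟨E.F X, h⟩ = χ (Multiplicative.ofAdd (lF X.1)) :=
    fun X hX h => congrArg χ (hl0 X hX h)
  refine ⟨χ.comp (MonoidHom.mk' l0 hmul), fun m => hχ3 _, fun X hX h => ?_, fun X Z hX hZ h => ?_⟩
  · exact fun e => hχ2 ((congrArg (fun v => χ (Multiplicative.ofAdd v)) h).symm.trans ((hval X hX _).symm.trans e))
  · refine (hval Z hZ _).trans ?_
    refine Eq.trans ?_ (congrArg (·⁻¹) (hval X hX _)).symm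
    exact (congrArg (fun v => χ (Multiplicative.ofAdd v)) h).trans (map_inv χ (Multiplicative.ofAdd (lF X.1)))

/-- The configuration in the centraliser of the involution. -/
theorem exists_config : ∃ D : NineTwo (centralizer ({E.ι tI} : Set G)),
    (∀ g, g ∈ D.R ↔ (g : G) ∈ E.R) ∧ (D.b : G) = E.ι tS ∧ (D.s : G) = E.F sSW ∧
    (∀ g, g ∈ D.M ↔ (g : G) ∈ E.MSub) := by
  classical
  set Y := centralizer ({E.ι tI} : Set G) with hYdef
  have hY : ∀ {g : G}, g ∈ Y ↔ Commute g (E.ι tI) := Subgroup.mem_centralizer_singleton_iff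
  have hMR : E.MSub ≤ E.R := by rintro _ ⟨X, -, rfl⟩; exact E.F_mem X
  have hMT : ∀ {X : SL44} {A B : Mat2}, Shape X.1 A B → E.F X ∈ Y := fun h => hY.2 (E.shape_comm_tI h)
  have hu : tMat ![1, 1] = dg !![1, 1; 0, 1] !![1, 1; 0, 1] := by rw [tMat_dg]; simp
  have hu' : tMat ![1, 2] = dg !![1, 1; 0, 1] !![1, 2; 0, 1] := by rw [tMat_dg]; simp
  obtain ⟨hd, hdneg, htIdg, htE0⟩ := cfg_facts
  have hxM : InM (tEl ![1, 1]).1.1 := ⟨_, _, hd 1, hd 1, Or.inl hu⟩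
  have hyM : InM (tEl ![1, 2]).1.1 := ⟨_, _, hd 1, hd 2, Or.inl hu'⟩
  have htM : InM tI.1.1 := ⟨1, -1, det_one, hdneg, Or.inl htIdg⟩
  have hsM : InM sSW.1 := ⟨1, 1, det_one, det_one, Or.inr rfl⟩
  have hιM : ∀ {N : Stab}, InM N.1.1 → E.ι N ∈ E.MSub := fun h => ⟨_, h, E.F_ι _⟩
  have hbY : E.ι tS ∈ Y := hY.2 (E.ι_commute.2 (Stab_ext tI_tS.symm))
  have hxY : ∀ v, E.ι (tEl v) ∈ Y := fun v => hY.2 (E.ι_commute.2 (Stab_ext (tEl_comm v)))
  obtain ⟨hs2, hbx, hsx, hsy, hx2, hy2, hlx, hxy, -, -, -⟩ := misc_facts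
  obtain ⟨lG, hlG⟩ := E.exists_lin
  let lY : E.MSub.subgroupOf Y →* ℂˣ := lG.comp
    { toFun := fun m => ⟨((m : Y) : G), m.2⟩, map_one' := rfl, map_mul' := fun _ _ => rfl }
  have hlY : ∀ (X : SL44) (hX : InM X.1) (m : E.MSub.subgroupOf Y), ((m : Y) : G) = E.F X →
      lY m = lG ⟨E.F X, ⟨X, hX, rfl⟩⟩ := fun X hX m hm => congrArg lG (Subtype.ext hm)
  have hidx : ∀ g : G, g ∈ E.R → Commute g (E.ι tI) → g ∈ E.MSub ∨ E.ι tS * g ∈ E.MSub := by
    intro g hg ht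
    obtain ⟨X, A, B, rfl, hX, hd⟩ := E.shape_of_mem hg ht
    rcases det_cases hd with ⟨hA, hB⟩ | ⟨hA, hB⟩
    · exact Or.inl ⟨X, ⟨A, B, hA, hB, hX⟩, rfl⟩
    · exact Or.inr ⟨tS.1 * X, b_facts hX hA hB, by rw [map_mul, E.F_ι]⟩
  have hb2 : E.ι tS * E.ι tS = 1 := by rw [← map_mul, tS_sq, map_one]
  have hconjb : ∀ X : SL44, InM X.1 → ∃ Z : SL44, InM Z.1 ∧ lF Z.1 = -lF X.1 ∧
      E.F Z = E.ι tS * E.F X * E.ι tS := fun X hX =>
    ⟨tS.1 * X * tS.1, (tS_lF hX).1, (tS_lF hX).2, by rw [map_mul, map_mul, E.F_ι]⟩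
  have hnorm : ∀ g : G, g ∈ E.R → Commute g (E.ι tI) → ∀ m ∈ E.MSub, g * m * g⁻¹ ∈ E.MSub := by
    intro g hg ht m hm
    rcases hidx g hg ht with h | h
    · exact mul_mem (mul_mem h hm) (inv_mem h)
    · obtain ⟨X, hX, hXe⟩ := mul_mem (mul_mem h hm) (inv_mem h)
      obtain ⟨Z, hZ, -, hZe⟩ := hconjb X hX
      refine ⟨Z, hZ, ?_⟩
      rw [hZe, hXe, _root_.mul_inv_rev, inv_eq_of_mul_eq_one_right hb2]
      calc E.ι tS * (E.ι tS * g * m * (g⁻¹ * E.ι tS)) * E.ι tS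
          = E.ι tS * E.ι tS * g * m * g⁻¹ * (E.ι tS * E.ι tS) := by group
        _ = g * m * g⁻¹ := by rw [hb2, one_mul, mul_one]
  have hpow : ∀ v : Fin 2 → ZMod 3, E.ι (tEl v) ^ 3 = 1 := E.ι_cube_one
  have horder : ∀ {a : Y}, orderOf a = orderOf (a : G) := fun {a} => (Subgroup.orderOf_coe a).symm
  have hinvX : (E.ι (tEl ![1, 1]))⁻¹ = E.ι (tEl ![2, 2]) := inv_eq_of_mul_eq_one_right (by
    rw [← map_mul]; exact E.ι_eq_one hx2)
  let D : NineTwo Y :=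
  { R := E.R.subgroupOf Y
    M := E.MSub.subgroupOf Y
    l := lY
    t := ⟨E.ι tI, hY.2 (Commute.refl _)⟩
    b := ⟨E.ι tS, hbY⟩
    s := ⟨E.F sSW, hMT (A := 1) (B := 1) (Or.inr rfl)⟩
    x := ⟨E.ι (tEl ![1, 1]), hxY _⟩
    y := ⟨E.ι (tEl ![1, 2]), hxY _⟩
    le := fun g hg => hMR hg
    b_R := E.le ⟨_, rfl⟩
    b_not := by
      intro h
      rw [mem_subgroupOf] at h
      refine E.not_InM (X := tS.1) (A := dOne) (B := dTwo) (Or.inl tS_dg) d_facts.1 ?_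
      rw [E.F_ι]; exact h
    x_M := hιM hxM
    y_M := hιM hyM
    s_M := ⟨_, hsM, rfl⟩
    t_M := hιM htM
    idx := fun g hg => by
      rcases hidx g hg (hY.1 g.2) with h | h
      · exact Or.inl h
      · right
        show (E.ι tS)⁻¹ * (g : G) ∈ E.MSub
        rwa [inv_eq_of_mul_eq_one_right hb2]
    norm := fun g hg m hm => hnorm g hg (hY.1 g.2) m hm
    l3 := fun m => hlG.1 _
    l_b := fun m h => by
      obtain ⟨X, hX, hXe⟩ := m.2
      obtain ⟨Z, hZ, hZl, hZe⟩ := hconjb X hX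
      rw [hlY Z hZ ⟨_, h⟩ ?_, hlY X hX m hXe.symm, hlG.2.2 X Z hX hZ hZl]
      show (E.ι tS)⁻¹ * ((m : Y) : G) * E.ι tS = E.F Z
      rw [hZe, hXe, inv_eq_of_mul_eq_one_right hb2]; rfl
    l_x := by
      rw [hlY (tEl ![1, 1]).1 hxM _ (E.F_ι _).symm]
      exact hlG.2.1 _ hxM hlx
    t_cen := fun g => Subtype.ext (hY.1 g.2).eq
    t_sq := Subtype.ext (by show E.ι tI * E.ι tI = 1; rw [← map_mul, tI_sq, map_one])
    t_ne := fun h => tI_ne (E.inj ((congrArg Subtype.val h).trans (map_one _).symm))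
    t_sqrt := by
      let w : SL44 := ⟨dg !![0, 1; 2, 0] 1, sq_root.2⟩
      refine ⟨⟨E.F w, hMT (A := !![0, 1; 2, 0]) (B := 1) (Or.inl rfl)⟩, Subtype.ext ?_⟩
      show E.F w * E.F w = E.ι tI
      rw [← map_mul, ← E.F_ι, E.F_eq]
      exact Or.inr sq_root.1
    s_sq := Subtype.ext (by
      show E.F sSW * E.F sSW = 1
      rw [← map_mul, ← map_one E.F, E.F_eq]
      exact Or.inl hs2)
    x_cube := Subtype.ext (by rw [SubmonoidClass.coe_pow]; exact hpow _)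
    y_cube := Subtype.ext (by rw [SubmonoidClass.coe_pow]; exact hpow _)
    x_ne := fun h => E.tEl_ne_one (v := ![1, 1]) (by decide) (congrArg Subtype.val h)
    y_ne := fun h => E.tEl_ne_one (v := ![1, 2]) (by decide) (congrArg Subtype.val h)
    xy := Subtype.ext (E.ι_commute.2 (Stab_ext hxy)).eq
    sx := Subtype.ext (by
      show E.F sSW * E.ι (tEl ![1, 1]) = E.ι (tEl ![1, 1]) * E.F sSW
      rw [← E.F_ι, ← map_mul, ← map_mul]
      exact congrArg E.F (Subtype.ext hsx))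
    sy := Subtype.ext (by
      show E.F sSW * E.ι (tEl ![1, 2]) * (E.F sSW)⁻¹ = (E.ι (tEl ![1, 2]))⁻¹
      rw [mul_inv_eq_iff_eq_mul, show (E.ι (tEl ![1, 2]))⁻¹ = E.ι (tEl ![2, 1]) from
        inv_eq_of_mul_eq_one_right (by rw [← map_mul]; exact E.ι_eq_one hy2), ← E.F_ι, ← E.F_ι, ← map_mul, ← map_mul]
      exact congrArg E.F (Subtype.ext hsy))
    bx := Subtype.ext (by
      show E.ι tS * E.ι (tEl ![1, 1]) * (E.ι tS)⁻¹ = (E.ι (tEl ![1, 1]))⁻¹
      rw [hinvX, inv_eq_of_mul_eq_one_right hb2, ← map_mul, ← map_mul]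
      exact congrArg E.ι (Stab_ext hbx))
    emb := fun h hh ho g hg => E.strong hh (horder ▸ ho) hg
    cx := fun g hg hc => by
      obtain ⟨i, j, e, he, heq⟩ := E.cent_x_shape hg (hY.1 g.2) (congrArg Subtype.val hc.eq)
      have heY : e ∈ Y := by
        rcases he with rfl | rfl | rfl | rfl
        exacts [one_mem Y, hY.2 (Commute.refl _), hMT (A := 1) (B := 1) (Or.inr rfl),
          mul_mem (hMT (A := 1) (B := 1) (Or.inr rfl)) (hY.2 (Commute.refl _))]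
      refine ⟨i, j, ⟨e, heY⟩, ?_, Subtype.ext heq⟩
      rcases he with rfl | rfl | rfl | rfl
      exacts [Or.inl rfl, Or.inr (Or.inl rfl), Or.inr (Or.inr (Or.inl rfl)), Or.inr (Or.inr (Or.inr rfl))]
    cy := fun g hg hc => by
      obtain ⟨i, j, e, he, heq⟩ := E.cent_y_shape hg (hY.1 g.2) (congrArg Subtype.val hc.eq)
      have hbs := mul_mem hbY (hMT (X := sSW) (A := 1) (B := 1) (Or.inr rfl))
      have heY : e ∈ Y := by
        rcases he with rfl | rfl | rfl | rfl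
        exacts [one_mem Y, hY.2 (Commute.refl _), hbs, mul_mem hbs (hY.2 (Commute.refl _))]
      refine ⟨i, j, ⟨e, heY⟩, ?_, Subtype.ext heq⟩
      rcases he with rfl | rfl | rfl | rfl
      exacts [Or.inl rfl, Or.inr (Or.inl rfl), Or.inr (Or.inr (Or.inl rfl)), Or.inr (Or.inr (Or.inr rfl))]
    conj_x := fun g hg i j h => by
      have h' := congrArg Subtype.val h
      simp only [Subgroup.coe_mul, InvMemClass.coe_inv, SubmonoidClass.coe_pow] at h'
      obtain ⟨v, hv⟩ : ∃ v, tEl v = tEl ![1, 1] ^ i * tEl ![1, 2] ^ j := by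
        have hp : ∀ (n : ℕ) (a : Fin 2 → ZMod 3), ∃ v, tEl v = tEl a ^ n := by
          intro n a
          induction n with
          | zero => exact ⟨0, Stab_ext htE0⟩
          | succ n ih => obtain ⟨v, hv⟩ := ih; exact ⟨v + a, by rw [← tEl_mul, hv, pow_succ]⟩
        obtain ⟨v, hv⟩ := hp i ![1, 1]
        obtain ⟨w, hw⟩ := hp j ![1, 2]
        exact ⟨v + w, by rw [← tEl_mul, hv, hw]⟩
      rw [← map_pow, ← map_pow, ← map_mul, ← hv, mul_inv_eq_iff_eq_mul] at h'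
      rcases E.conj_x_shape hg (hY.1 g.2) h' with rfl | rfl
      · left; refine Subtype.ext ?_
        show (g : G) * E.ι (tEl ![1, 1]) * (g : G)⁻¹ = E.ι (tEl ![1, 1])
        rw [h', mul_inv_cancel_right]
      · right; refine Subtype.ext ?_
        show (g : G) * E.ι (tEl ![1, 1]) * (g : G)⁻¹ = (E.ι (tEl ![1, 1]))⁻¹
        rw [h', mul_inv_cancel_right, hinvX]
    invol := fun u hu hn h2 => by
      rcases E.invol_shape hu (hY.1 u.2) hn (congrArg Subtype.val h2) with ⟨c, hc, hct, hcu⟩ | ⟨h, hh, hht, ho, hcom⟩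
      · exact Or.inl (isConj_iff.2 ⟨⟨c, hY.2 hct⟩, Subtype.ext hcu⟩)
      · exact Or.inr ⟨⟨h, hY.2 hht⟩, hh, horder.trans ho, Subtype.ext hcom.eq⟩
    no7 := by
      intro h
      have h2 := Subgroup.card_comap_dvd_of_injective E.R Y.subtype Y.subtype_injective
      have h3 : Nat.card E.R = 6065280 := by
        rw [E.R_eq, ← Nat.card_congr (MonoidHom.ofInjective E.f_inj).toEquiv, card_PSL44]
      rw [h3] at h2
      exact absurd (h.trans h2) (by norm_num) }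
  exact ⟨D, fun g => Iff.rfl, rfl, rfl, fun g => Iff.rfl⟩

theorem cent_tI_of (D : NineTwo (centralizer ({E.ι tI} : Set G)))
    (hR : ∀ g, g ∈ D.R ↔ (g : G) ∈ E.R) (h : ¬ IsConj D.s D.b) {g : G} (hg : Commute g (E.ι tI)) : g ∈ E.R :=
  (hR ⟨g, Subgroup.mem_centralizer_singleton_iff.2 hg⟩).1 (D.eq_top h ▸ mem_top _)

theorem twisted_sSW : ∃ (A B : Mat2), A.det = -1 ∧ Shape (twist4 sSW).1 A B ∧
    (twist4 sSW).1 * tMat ![1, 2] = tMat ![1, 2] * (twist4 sSW).1 := by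
  have h : (twist4 sSW).1 = ad (-dOne) (-dOne) ∨ (twist4 sSW).1 = ad dOne dOne := by decide +kernel
  have key : (-dOne).det = -1 ∧ dOne.det = -1 ∧ ad (-dOne) (-dOne) * tMat ![1, 2] = tMat ![1, 2] * ad (-dOne) (-dOne) ∧
      ad dOne dOne * tMat ![1, 2] = tMat ![1, 2] * ad dOne dOne := by decide +kernel
  rcases h with h | h <;> rw [h]
  · exact ⟨_, _, key.1, Or.inr rfl, key.2.2.1⟩
  · exact ⟨_, _, key.2.1, Or.inr rfl, key.2.2.2⟩

/-- The centraliser of the involution lies in the subgroup isomorphic to `PSL(4, 3)`. -/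
theorem cent_tI {g : G} (hg : Commute g (E.ι tI)) : g ∈ E.R := by
  obtain ⟨D, hR, hb, hs, hM⟩ := E.exists_config
  by_cases hsb : IsConj D.s D.b
  · -- pass to the twisted data
    obtain ⟨D', hR', hb', hs', -⟩ := E.twistedFull.exists_config
    rw [← E.twisted_tI] at hg
    refine cent_tI_of E.twistedFull D' hR' (fun hsb' => ?_) hg
    obtain ⟨c, hc⟩ := isConj_iff.1 hsb'
    have hc' : (c : G) * E.twistedFull.F sSW * (c : G)⁻¹ = E.ι tS := by
      have := congrArg Subtype.val hc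
      simp only [Subgroup.coe_mul, InvMemClass.coe_inv] at this
      rwa [hs', hb', E.twisted_tS] at this
    obtain ⟨A, B, hA, hsh, hy⟩ := twisted_sSW
    set u : centralizer ({E.ι tI} : Set G) := ⟨E.F (twist4 sSW),
      Subgroup.mem_centralizer_singleton_iff.2 (E.shape_comm_tI hsh)⟩
    have hcY : (c : G) ∈ centralizer ({E.ι tI} : Set G) := Subgroup.mem_centralizer_singleton_iff.2 (by
      have := Subgroup.mem_centralizer_singleton_iff.1 c.2
      exact (congrArg ((c : G) * ·) E.twisted_tI).symm.trans (this.trans (congrArg (· * (c : G)) E.twisted_tI)))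
    have hub : IsConj u D.b := isConj_iff.2 ⟨⟨_, hcY⟩, Subtype.ext (by
      show (c : G) * E.F (twist4 sSW) * (c : G)⁻¹ = D.b
      rw [hb, ← F_twisted]; exact hc')⟩
    refine D.not_conj_out (u := u) (h := ⟨E.ι (tEl ![1, 2]),
      Subgroup.mem_centralizer_singleton_iff.2 (E.ι_commute.2 (Stab_ext (tEl_comm _)))⟩)
      ((hR u).2 (E.F_mem _)) (fun h => E.not_InM hsh hA ((hM u).1 h)) ((hR _).2 (E.le ⟨_, rfl⟩)) ?_ ?_
      (hsb.trans hub.symm)
    · haveI : Fact (Nat.Prime 3) := ⟨Nat.prime_three⟩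
      rw [Subgroup.orderOf_mk]
      exact orderOf_eq_prime (E.ι_cube_one _) (E.tEl_ne_one (by decide))
    · refine Subtype.ext ?_
      show E.F (twist4 sSW) * E.ι (tEl ![1, 2]) = E.ι (tEl ![1, 2]) * E.F (twist4 sSW)
      rw [← E.F_ι, ← map_mul, ← map_mul]
      exact congrArg E.F (Subtype.ext hy)
  · exact E.cent_tI_of D hR hsb hg

end Full

end Cfsg.Agent.Spor.L43Three
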