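import Cfsg.Agent.Lib.Spor.L43Three.Classes
import Cfsg.Agent.Lib.Spor.L43Three.Trans
import Cfsg.Agent.Lib.Recog.AltNine.Top
import Cfsg.Agent.Lib.Recog.AltNine.Constrained

/-!
The centraliser of an element of type `x` in `PSL(4, 3)` and the code group `3³:S₄`.
-/

set_option autoImplicit false
set_option linter.unusedSectionVars false
set_option maxRecDepth 100000
set_option maxHeartbeats 1000000

namespace Cfsg.Agent.Spor.L43Three

open Matrix Cfsg.Agent.Recog.MonoCube Cfsg.Agent.Recog.MonoCube.W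

/-- Two by two matrices. -/
abbrev Mat2 := Matrix (Fin 2) (Fin 2) (ZMod 3)

/-- The matrix with diagonal blocks `A` and upper block `B`. -/
def blkG (A B : Mat2) : M4 :=
  !![A 0 0, A 0 1, B 0 0, B 0 1; A 1 0, A 1 1, B 1 0, B 1 1; 0, 0, A 0 0, A 0 1; 0, 0, A 1 0, A 1 1]

theorem blkG_mul (A A' B B' : Mat2) : blkG A B * blkG A' B' = blkG (A * A') (A * B' + B * A') := by
  ext i j
  fin_cases i <;> fin_cases j <;>
    simp [blkG, Matrix.mul_apply, Fin.sum_univ_four, Fin.sum_univ_two] <;> ring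

theorem blkG_neg (A B : Mat2) : blkG (-A) (-B) = -blkG A B := by
  ext i j
  fin_cases i <;> fin_cases j <;> simp [blkG]

theorem blkG_inj {A A' B B' : Mat2} (h : blkG A B = blkG A' B') : A = A' ∧ B = B' := by
  constructor <;> ext i j <;> fin_cases i <;> fin_cases j
  · simpa [blkG] using congrFun (congrFun h 0) 0
  · simpa [blkG] using congrFun (congrFun h 0) 1
  · simpa [blkG] using congrFun (congrFun h 1) 0
  · simpa [blkG] using congrFun (congrFun h 1) 1
  · simpa [blkG] using congrFun (congrFun h 0) 2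
  · simpa [blkG] using congrFun (congrFun h 0) 3
  · simpa [blkG] using congrFun (congrFun h 1) 2
  · simpa [blkG] using congrFun (congrFun h 1) 3

theorem det_blkG (A B : Mat2) : (blkG A B).det = A.det * A.det := by
  rw [Matrix.det_fin_two]
  simp [blkG, Matrix.det_succ_row_zero, Fin.sum_univ_succ, Fin.succAbove]
  ring

theorem blkG_one : blkG 1 0 = 1 := by decide +kernel

theorem repM_two : repM 2 = blkG 1 1 := by decide +kernel

/-- Representatives of the top group. -/
def aTab : Fin 6 → Fin 4 → Mat2 := ![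
  ![!![1, 0; 0, 1], !![1, 1; 1, 2], !![0, 1; 2, 0], !![1, 2; 2, 2]],
  ![!![0, 1; 2, 2], !![1, 2; 1, 0], !![1, 0; 2, 1], !![1, 1; 0, 1]],
  ![!![1, 1; 2, 0], !![1, 0; 1, 1], !![1, 2; 0, 1], !![0, 1; 2, 1]],
  ![!![1, 2; 0, 2], !![0, 1; 1, 2], !![1, 1; 1, 0], !![1, 0; 2, 2]],
  ![!![0, 1; 1, 1], !![1, 2; 2, 0], !![1, 0; 1, 2], !![1, 1; 0, 2]],
  ![!![1, 1; 2, 1], !![1, 0; 0, 2], !![1, 2; 1, 1], !![0, 1; 1, 0]]]

theorem aTab_det : ∀ p e, (aTab p e).det * (aTab p e).det = 1 := by decide +kernel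

/-- The combination of the three orthogonal lines. -/
def xMat (x y z : ZMod 3) : Mat2 := !![y + z, x + y - z; -x + y - z, -y - z]

theorem xMat_add (x y z x' y' z' : ZMod 3) : xMat (x + x') (y + y') (z + z') = xMat x y z + xMat x' y' z' := by
  ext i j
  fin_cases i <;> fin_cases j <;> simp [xMat] <;> ring

/-- The shifts as field elements. -/
def fz (a : Fin 3) : ZMod 3 := a

theorem fz_add : ∀ a b : Fin 3, fz (a + b) = fz a + fz b := by decide +kernel

/-- The matrix of an element of the code group. -/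
def codeM4 (w : W) : M4 :=
  blkG (aTab w.p w.e) (xMat (fz w.x) (fz w.y) (fz w.z) * aTab w.p w.e)

theorem det_codeM4 (w : W) : (codeM4 w).det = 1 := by rw [codeM4, det_blkG, aTab_det]

/-- The element of the code group. -/
def codeSL (w : W) : SL44 := ⟨codeM4 w, det_codeM4 w⟩

theorem aTab_mul : ∀ p e q f, aTab p e * aTab q f = aTab (pm p q) (em p e q f) ∨
    aTab p e * aTab q f = -aTab (pm p q) (em p e q f) := by decide +kernel

/-- The shift transported by the top element. -/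
def tsh (p : Fin 6) (e : Fin 4) (x y z : Fin 3) (c : Fin 3) : Fin 3 :=
  ap (neg p e (P (pinv p) c)) ((![x, y, z] : Fin 3 → Fin 3) (P (pinv p) c))

theorem aTab_conj : ∀ (p : Fin 6) (e : Fin 4) (x y z : Fin 3),
    aTab p e * xMat (fz x) (fz y) (fz z) =
      xMat (fz (tsh p e x y z 0)) (fz (tsh p e x y z 1)) (fz (tsh p e x y z 2)) * aTab p e := by
  decide +kernel

theorem tsh_eq (v : W) (p : Fin 6) (e : Fin 4) (c : Fin 3) :
    tsh p e v.x v.y v.z c = ap (neg p e (P (pinv p) c)) (v.sh (P (pinv p) c)) := by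
  have key : ∀ d : Fin 3, (![v.x, v.y, v.z] : Fin 3 → Fin 3) d = v.sh d := fun d => by fin_cases d <;> rfl
  rw [tsh, key]

theorem codeM4_mul (w v : W) : codeM4 w * codeM4 v = codeM4 (w * v) ∨ codeM4 w * codeM4 v = -codeM4 (w * v) := by
  have hx : (w * v).x = w.x + tsh w.p w.e v.x v.y v.z 0 := by rw [tsh_eq]; rfl
  have hy : (w * v).y = w.y + tsh w.p w.e v.x v.y v.z 1 := by rw [tsh_eq]; rfl
  have hz : (w * v).z = w.z + tsh w.p w.e v.x v.y v.z 2 := by rw [tsh_eq]; rfl
  have hp : (w * v).p = pm w.p v.p := rfl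
  have he : (w * v).e = em w.p w.e v.p v.e := rfl
  have hB : aTab w.p w.e * (xMat (fz v.x) (fz v.y) (fz v.z) * aTab v.p v.e) +
      xMat (fz w.x) (fz w.y) (fz w.z) * aTab w.p w.e * aTab v.p v.e =
      xMat (fz (w * v).x) (fz (w * v).y) (fz (w * v).z) * (aTab w.p w.e * aTab v.p v.e) := by
    rw [← mul_assoc, aTab_conj, hx, hy, hz, fz_add, fz_add, fz_add, xMat_add, add_mul, mul_assoc, mul_assoc, add_comm]
  rw [codeM4, codeM4, codeM4, blkG_mul, hB, hp, he]
  rcases aTab_mul w.p w.e v.p v.e with h | h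
  · exact Or.inl (by rw [h])
  · exact Or.inr (by rw [h, mul_neg, blkG_neg])

theorem codeM4_trivial : ∀ (w : W) (k : ZMod 3),
    eq4 (codeM4 w) (blkG 1 (k • 1)) = true ∨ eq4 (codeM4 w) (blkG (-1) (-(k • 1))) = true → w = 1 := by
  decide +kernel

theorem aTab_surj : ∀ a b c d : ZMod 3, a * d - b * c ≠ 0 →
    ∃ p e, !![a, b; c, d] = aTab p e ∨ !![a, b; c, d] = -aTab p e := by decide +kernel

theorem xMat_surj : ∀ a b c d : ZMod 3, ∃ x y z : Fin 3, ∃ k : ZMod 3,
    !![a, b; c, d] = xMat (fz x) (fz y) (fz z) + k • 1 := by decide +kernel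

theorem blk_shape {g : SL44} (h : g.1 * repM 2 = repM 2 * g.1) : ∃ A B, g.1 = blkG A B := by
  have k : ∀ i j, (g.1 * repM 2) i j = (repM 2 * g.1) i j := fun i j => by rw [h]
  have b02 := k 0 2
  have b03 := k 0 3
  have b12 := k 1 2
  have b13 := k 1 3
  have b00 := k 0 0
  have b01 := k 0 1
  have b10 := k 1 0
  have b11 := k 1 1
  simp [repM, Matrix.mul_apply, Fin.sum_univ_four] at b02 b03 b12 b13 b00 b01 b10 b11
  refine ⟨!![g.1 0 0, g.1 0 1; g.1 1 0, g.1 1 1], !![g.1 0 2, g.1 0 3; g.1 1 2, g.1 1 3], ?_⟩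
  have e20 : g.1 2 0 = 0 := by linear_combination b00
  have e21 : g.1 2 1 = 0 := by linear_combination b01
  have e30 : g.1 3 0 = 0 := by linear_combination b10
  have e31 : g.1 3 1 = 0 := by linear_combination b11
  have e22 : g.1 2 2 = g.1 0 0 := by linear_combination -b02
  have e23 : g.1 2 3 = g.1 0 1 := by linear_combination -b03
  have e32 : g.1 3 2 = g.1 1 0 := by linear_combination -b12
  have e33 : g.1 3 3 = g.1 1 1 := by linear_combination -b13
  ext i j
  fin_cases i <;> fin_cases j <;> simp [blkG, e20, e21, e30, e31, e22, e23, e32, e33]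

/-- Every element of the centraliser is a code element times a power of the representative, up to sign. -/
theorem code_surj {g : SL44} (h : g.1 * repM 2 = repM 2 * g.1) :
    ∃ (w : W) (k : ZMod 3), g.1 = blkG 1 (k • 1) * codeM4 w ∨ g.1 = -(blkG 1 (k • 1) * codeM4 w) := by
  obtain ⟨A, B, hg⟩ := blk_shape h
  have hA : A.det ≠ 0 := by
    intro h0
    have := g.2
    rw [hg, det_blkG, h0, mul_zero] at this
    exact zero_ne_one this
  have hAd : A 0 0 * A 1 1 - A 0 1 * A 1 0 ≠ 0 := by rwa [← Matrix.det_fin_two]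
  obtain ⟨p, e, hpe⟩ := aTab_surj _ _ _ _ hAd
  rw [← Matrix.eta_fin_two A] at hpe
  set T := aTab p e
  have hT : IsUnit T.det := by
    refine isUnit_iff_ne_zero.2 fun h0 => ?_
    have := aTab_det p e
    rw [h0, mul_zero] at this
    exact zero_ne_one this
  have key : ∀ C : Mat2, ∃ (x y z : Fin 3) (k : ZMod 3), C = (xMat (fz x) (fz y) (fz z) + k • 1) * T := fun C => by
    obtain ⟨x, y, z, k, hk⟩ := xMat_surj ((C * T⁻¹) 0 0) ((C * T⁻¹) 0 1) ((C * T⁻¹) 1 0) ((C * T⁻¹) 1 1)
    rw [← Matrix.eta_fin_two] at hk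
    exact ⟨x, y, z, k, by rw [← hk, Matrix.nonsing_inv_mul_cancel_right _ _ hT]⟩
  have hprod : ∀ (x y z : Fin 3) (k : ZMod 3),
      blkG 1 (k • 1) * codeM4 ⟨p, e, x, y, z⟩ = blkG T ((xMat (fz x) (fz y) (fz z) + k • 1) * T) := fun x y z k => by
    rw [codeM4, blkG_mul, one_mul, one_mul, add_mul, smul_mul_assoc, one_mul]
  rcases hpe with hpe | hpe
  · obtain ⟨x, y, z, k, hk⟩ := key B
    exact ⟨⟨p, e, x, y, z⟩, k, Or.inl (by rw [hprod, hg, hpe, ← hk])⟩
  · obtain ⟨x, y, z, k, hk⟩ := key (-B)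
    exact ⟨⟨p, e, x, y, z⟩, k, Or.inr (by rw [hprod, ← blkG_neg, hg, hpe, ← hk, neg_neg])⟩

/-- The representative of the other class of order three. -/
def uW : W := ⟨1, 3, 0, 0, 0⟩

theorem order_three_cases : ∀ w : W, w * w * w = 1 → inJ w = false → ∃ c : W, c * uW * c⁻¹ = w := by
  decide +kernel

theorem uW_cent : (Finset.univ.filter fun w : W => decide (w * uW = uW * w) = true).card = 9 := by decide +kernel

theorem inJ_xMat : ∀ w : W, inJ w = true → w.p = 0 ∧ w.e = 0 := by decide +kernel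

end Cfsg.Agent.Spor.L43Three
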