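import Mathlib

/-!
Centralisers of elements of order three in the alternating group of degree nine.
-/

set_option autoImplicit false

namespace Cfsg.Agent.Spor.L43Three

open Equiv Equiv.Perm

/-- They have order at least 27. -/
theorem nine_cent_large (σ : alternatingGroup (Fin 9)) (h3 : orderOf σ = 3) :
    27 ≤ Nat.card (Subgroup.centralizer ({σ} : Set (alternatingGroup (Fin 9)))) := by
  set g : Perm (Fin 9) := σ.1
  have hg : orderOf g = 3 := by rw [Subgroup.orderOf_coe, h3]
  obtain ⟨n, hn⟩ := Equiv.Perm.cycleType_prime_order (σ := g) (hg ▸ Nat.prime_three)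
  rw [hg] at hn
  have hsum : g.cycleType.sum ≤ 9 := by
    rw [Equiv.Perm.sum_cycleType]
    simpa using Finset.card_le_univ g.support
  have hn2 : n ≤ 2 := by
    rw [hn, Multiset.sum_replicate, smul_eq_mul] at hsum
    omega
  have hbig : 108 ≤ Nat.card (Subgroup.centralizer ({g} : Set (Perm (Fin 9)))) := by
    rw [Equiv.Perm.nat_card_centralizer, hn]
    interval_cases n <;> decide +kernel
  set C := Subgroup.centralizer ({g} : Set (Perm (Fin 9)))
  set D := Subgroup.centralizer ({σ} : Set (alternatingGroup (Fin 9)))
  let s : C →* ℤˣ := Equiv.Perm.sign.comp C.subtype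
  have hker : Nat.card s.ker ≤ Nat.card D := by
    refine Nat.card_le_card_of_injective (fun c => (⟨⟨c.1.1, Equiv.Perm.mem_alternatingGroup.2 c.2⟩, ?_⟩ : D))
      fun a b h => Subtype.ext (Subtype.ext (congrArg (fun x : D => x.1.1) h))
    exact Subgroup.mem_centralizer_singleton_iff.2 (Subtype.ext (Subgroup.mem_centralizer_singleton_iff.1 c.1.2))
  have hidx : Nat.card s.range ≤ 2 := by
    refine (Subgroup.card_le_card_group s.range).trans ?_
    simp
  have h := s.ker.card_mul_index
  rw [Subgroup.index_ker] at h
  have h2 : Nat.card s.ker * Nat.card s.range ≤ Nat.card D * 2 := Nat.mul_le_mul hker hidx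
  omega

end Cfsg.Agent.Spor.L43Three
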