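import Cfsg.Agent.Lib.Spor.L43Three.Two.Lift
import Cfsg.Agent.Lib.Spor.L43Three.Two.Code
import Cfsg.Agent.Lib.Spor.L43Three.Two.NineCent
import Cfsg.Agent.Lib.Spor.L43Three.One.CentX

/-!
The centraliser of an element of type `x` lies in the subgroup isomorphic to `PSL(4, 3)`.
-/

set_option autoImplicit false
set_option linter.unusedSectionVars false
set_option maxRecDepth 10000
set_option maxHeartbeats 1000000

namespace Cfsg.Agent.Spor.L43Three

open Subgroup Matrix Cfsg.Agent.Recog.MonoCube Cfsg.Agent.Recog.MonoCube.W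

universe u

theorem rep_two_pow : ∀ k : ZMod 3, (rep 2 ^ k.val).1.1 = blkG 1 (k • 1) := by decide +kernel

theorem code_comm_x (w : W) : codeM4 w * repM 2 = repM 2 * codeM4 w := by
  rw [repM_two, codeM4, blkG_mul, blkG_mul]
  simp [add_comm]

theorem codeM4_uW : codeM4 uW = (xT ![1, 0, 0, 0]).1.1 := by decide +kernel

theorem u_conjugator : (mk4 !![1, 0, 0, 0; 0, 2, 1, 0; 0, 2, 2, 1; 0, 0, 0, 2]).1.1 * aS.1.1 =
    (rep 2 * xT ![1, 0, 0, 0]).1.1 * (mk4 !![1, 0, 0, 0; 0, 2, 1, 0; 0, 2, 2, 1; 0, 0, 0, 2]).1.1 := by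
  decide +kernel

theorem u_involution : (xT ![1, 0, 0, 0] * (tI * tS)).1.1 = (tI * tS * xT ![1, 0, 0, 0]).1.1 ∧
    (tI * tS * (tI * tS)).1.1 = 1 ∧ (tI * tS).1.1 ≠ 1 := by decide +kernel

theorem plane_shape : ∀ a b : ZMod 3, ∃ c d e g : ZMod 3,
    (vS ![0, a, b]).1.1 = blkG 1 !![c, d; e, g] := by
  intro a b
  refine ⟨a, b, 0, 0, ?_⟩
  revert a b
  decide +kernel

namespace Full

variable {G : Type u} [Group G] [Finite G] (E : Full G)

/-- The code group in `R`. -/
noncomputable def codeHom : W →* G :=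
  MonoidHom.mk' (fun w => E.f ((codeSL w : SL44) : Matrix.ProjectiveSpecialLinearGroup (Fin 4) (ZMod 3)))
    fun w v => by
      rw [← map_mul, ← QuotientGroup.mk_mul]
      refine congrArg E.f ?_
      rcases codeM4_mul w v with h | h
      · exact congrArg _ (Subtype.ext h.symm)
      · refine QuotientGroup.eq.2 ?_
        rw [show codeSL w * codeSL v = codeSL (w * v) * negS from Subtype.ext (by
          show codeM4 w * codeM4 v = codeM4 (w * v) * (-1 : M4)
          rw [h, mul_neg, mul_one]), inv_mul_cancel_left]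
        exact negS_center

theorem codeHom_apply (w : W) :
    E.codeHom w = E.f ((codeSL w : SL44) : Matrix.ProjectiveSpecialLinearGroup (Fin 4) (ZMod 3)) := rfl

theorem codeHom_comm (w : W) : Commute (E.codeHom w) (E.ι (rep 2)) := by
  rw [codeHom_apply, ← E.f_ι]
  refine Commute.map ?_ E.f
  exact congrArg (fun X : SL44 => (X : Matrix.ProjectiveSpecialLinearGroup (Fin 4) (ZMod 3)))
    (Subtype.ext (code_comm_x w) : codeSL w * (rep 2).1 = (rep 2).1 * codeSL w)

theorem code_of_mem {g : G} (hg : g ∈ E.R) (hc : Commute g (E.ι (rep 2))) :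
    ∃ (w : W) (k : ZMod 3), g = E.ι (rep 2 ^ k.val) * E.codeHom w := by
  obtain ⟨X, rfl⟩ := E.R_eq.le hg
  obtain ⟨X, rfl⟩ := QuotientGroup.mk'_surjective (center SL44) X
  have h3 : (rep 2).1.1 * (rep 2).1.1 * (rep 2).1.1 = 1 := by decide +kernel
  obtain ⟨w, k, h⟩ := code_surj (E.lift h3 hc)
  refine ⟨w, k, ?_⟩
  rw [codeHom_apply, ← E.f_ι, ← map_mul, ← QuotientGroup.mk_mul]
  refine congrArg E.f ?_
  rcases h with h | h
  · refine congrArg _ (Subtype.ext ?_)
    show X.1 = (rep 2 ^ k.val).1.1 * codeM4 w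
    rw [rep_two_pow, h]
  · refine QuotientGroup.eq.2 ?_
    rw [show (rep 2 ^ k.val).1 * codeSL w = X * negS from Subtype.ext (by
      show (rep 2 ^ k.val).1.1 * codeM4 w = X.1 * (-1 : M4)
      rw [rep_two_pow, mul_neg, mul_one, h, neg_neg]), inv_mul_cancel_left]
    exact negS_center

theorem code_mem (w : W) : E.codeHom w ∈ E.R := E.R_eq.symm.le ⟨_, rfl⟩

theorem j_code {M : Stab} {a b c d : ZMod 3} (h : M.1.1 = blkG 1 !![a, b; c, d]) :
    ∃ w, inJ w = true ∧ ∃ k : ZMod 3, E.ι M = E.ι (rep 2 ^ k.val) * E.codeHom w := by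
  obtain ⟨x, y, z, k, hk⟩ := xMat_surj a b c d
  refine ⟨⟨0, 0, x, y, z⟩, rfl, k, ?_⟩
  rw [codeHom_apply, ← E.f_ι, ← E.f_ι, ← map_mul, ← QuotientGroup.mk_mul]
  refine congrArg E.f (congrArg _ (Subtype.ext ?_))
  show M.1.1 = (rep 2 ^ k.val).1.1 * codeM4 _
  rw [rep_two_pow, h, hk, codeM4, blkG_mul, one_mul, one_mul, show aTab 0 0 = 1 by decide +kernel, mul_one, mul_one,
    add_comm]

theorem codeHom_uW : E.codeHom uW = E.ι (xT ![1, 0, 0, 0]) := by
  rw [codeHom_apply, ← E.f_ι]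
  exact congrArg E.f (congrArg _ (Subtype.ext codeM4_uW))

/-- An element centralising `x` and a lift of `u'` modulo `x`. -/
theorem cent_pair {k : G} (hk : Commute k (E.ι (rep 2))) {i : ℤ}
    (hu : k * E.codeHom uW * k⁻¹ = E.codeHom uW * E.ι (rep 2) ^ i) : k ∈ E.R ∧ k ^ 3 = 1 ∧ Commute k (E.codeHom uW) := by
  rw [E.codeHom_uW] at hu ⊢
  set u := E.ι (xT ![1, 0, 0, 0])
  set x := E.ι (rep 2)
  set M0 : Stab := mk4 !![1, 0, 0, 0; 0, 2, 1, 0; 0, 2, 2, 1; 0, 0, 0, 2]
  have ha : E.ι M0 * E.ι aS * (E.ι M0)⁻¹ = x * u := by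
    rw [mul_inv_eq_iff_eq_mul, ← map_mul, ← map_mul, ← map_mul]
    exact congrArg E.ι (Stab_ext (by simpa only [Stab_mul_val] using u_conjugator))
  have hca : ∀ g : G, Commute g (x * u) → g ∈ E.R ∧ g ^ 3 = 1 := by
    intro g hg
    have h1 : Commute ((E.ι M0)⁻¹ * g * E.ι M0) (E.ι aS) := by
      show _ = _
      calc (E.ι M0)⁻¹ * g * E.ι M0 * E.ι aS = (E.ι M0)⁻¹ * (g * (E.ι M0 * E.ι aS * (E.ι M0)⁻¹)) * E.ι M0 := by group
        _ = (E.ι M0)⁻¹ * ((E.ι M0 * E.ι aS * (E.ι M0)⁻¹) * g) * E.ι M0 := by rw [ha, hg.eq]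
        _ = E.ι aS * ((E.ι M0)⁻¹ * g * E.ι M0) := by group
    obtain ⟨M, hM⟩ := E.cent_aS h1
    obtain ⟨v, a, b, rfl⟩ := cent_a_shape (E.toEmb.ι_commute.1 (hM ▸ h1))
    have hg' : g = E.ι (M0 * el v (cA a b) * M0⁻¹) := by rw [map_mul, map_mul, map_inv, hM]; group
    refine ⟨hg' ▸ E.le ⟨_, rfl⟩, ?_⟩
    rw [hg', ← map_pow, conj_pow, show el v (cA a b) ^ 3 = 1 by rw [pow_three, ← mul_assoc]; exact (facts_a v a b).1,
      mul_one, mul_inv_cancel, map_one]
  have hxu : Commute x u := E.toEmb.ι_commute.2 (Stab_ext (by decide +kernel))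
  have hx3 : x ^ (3 : ℕ) = 1 := by rw [← map_pow, show rep 2 ^ 3 = 1 from Stab_ext (by decide +kernel), map_one]
  obtain ⟨n, hn, hxi⟩ : ∃ n : ℕ, n < 3 ∧ x ^ i = x ^ n := ⟨(i % 3).toNat, by omega, by
    rw [zpow_eq_zpow_emod' i hx3, show i % (3 : ℕ) = ((i % 3).toNat : ℤ) by omega, zpow_natCast]⟩
  rw [hxi] at hu
  have hnot : ∀ d : G, d * u * d⁻¹ ≠ x * u := by
    intro d hd
    set τ := E.ι (tI * tS)
    have hτu : Commute τ u := E.toEmb.ι_commute.2 (Stab_ext u_involution.1.symm)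
    have hc : Commute (d * τ * d⁻¹) (x * u) := by
      rw [← hd]
      exact hτu.map (MulAut.conj d).toMonoidHom
    have h3 := (hca _ hc).2
    rw [conj_pow, mul_inv_eq_one, mul_eq_left] at h3
    have h2 : τ * τ = 1 := by rw [← map_mul, show tI * tS * (tI * tS) = 1 from Stab_ext u_involution.2.1, map_one]
    rw [pow_three, h2, mul_one] at h3
    exact u_involution.2.2 (congrArg (fun M : Stab => M.1.1) (E.inj (h3.trans (map_one E.ι).symm)))
  interval_cases n
  · rw [pow_zero, mul_one] at hu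
    have hku : Commute k u := mul_inv_eq_iff_eq_mul.1 hu
    exact ⟨(hca k (hk.mul_right hku)).1, (hca k (hk.mul_right hku)).2, hku⟩
  · exact absurd (hu.trans (by rw [pow_one, hxu.eq])) (hnot k)
  · refine absurd ?_ (hnot k⁻¹)
    have hkx : k⁻¹ * x * k = x := by rw [mul_assoc, ← hk.eq, inv_mul_cancel_left]
    have h1 : u = k⁻¹ * u * k * x ^ 2 := by
      calc u = k⁻¹ * (k * u * k⁻¹) * k := by group
        _ = k⁻¹ * (u * x ^ 2) * k := by rw [hu]
        _ = k⁻¹ * u * k * ((k⁻¹ * x * k) * (k⁻¹ * x * k)) := by rw [pow_two]; group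
        _ = _ := by rw [hkx, pow_two]
    calc k⁻¹ * u * k⁻¹⁻¹ = k⁻¹ * u * k * x ^ 2 * x := by
          rw [inv_inv, mul_assoc _ (x ^ 2) x, ← pow_succ, hx3, mul_one]
      _ = u * x := by rw [← h1]
      _ = x * u := hxu.eq.symm

/-- The centraliser of the element of type `x`. -/
theorem cent_x {g : G} (hg : Commute g (E.ι (rep 2))) : g ∈ E.R := by
  set K := centralizer ({E.ι (rep 2)} : Set G)
  have hK : ∀ {a : G}, a ∈ K ↔ Commute a (E.ι (rep 2)) := Subgroup.mem_centralizer_singleton_iff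
  let xK : K := ⟨E.ι (rep 2), hK.2 (Commute.refl _)⟩
  set Z := zpowers xK
  have hxc : ∀ k : K, Commute k xK := fun k => Subtype.ext (hK.1 k.2).eq
  haveI hZn : Z.Normal := ⟨fun a ha k => by
    obtain ⟨i, rfl⟩ := mem_zpowers_iff.1 ha
    rw [((hxc k).zpow_right i).eq, mul_inv_cancel_right]
    exact zpow_mem (mem_zpowers _) i⟩
  set π := QuotientGroup.mk' Z
  let c' : W →* K := E.codeHom.codRestrict K fun w => hK.2 (E.codeHom_comm w)
  let θ : W →* K ⧸ Z := π.comp c'
  have hpow : ∀ k : ZMod 3, ((xK ^ k.val : K) : G) = E.ι (rep 2 ^ k.val) := fun k => by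
    rw [map_pow]; rfl
  have hπx : ∀ n : ℕ, π (xK ^ n) = 1 := fun n => (QuotientGroup.eq_one_iff _).2 (pow_mem (mem_zpowers _) n)
  have hθ : ∀ (k : K) (w : W) (i : ZMod 3), (k : G) = E.ι (rep 2 ^ i.val) * E.codeHom w → π k = θ w := by
    intro k w i h
    rw [show k = xK ^ i.val * c' w from Subtype.ext (by
      show (k : G) = ((xK ^ i.val : K) : G) * E.codeHom w
      rw [hpow, h]), map_mul, hπx, one_mul]
    rfl
  have hRθ : ∀ k : K, (k : G) ∈ E.R → ∃ w, θ w = π k := by
    intro k hk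
    obtain ⟨w, i, h⟩ := E.code_of_mem hk (hK.1 k.2)
    exact ⟨w, (hθ k w i h).symm⟩
  have hθR : ∀ (k : K) w, π k = θ w → (k : G) ∈ E.R := by
    intro k w h
    obtain ⟨i, hi⟩ := mem_zpowers_iff.1 (QuotientGroup.eq.1 h.symm)
    have e : (k : G) = E.codeHom w * E.ι (rep 2) ^ i := by
      have := congrArg Subtype.val hi
      rw [SubgroupClass.coe_zpow] at this
      show (k : G) = E.codeHom w * (xK : G) ^ i
      rw [this]
      show (k : G) = E.codeHom w * ((E.codeHom w)⁻¹ * k)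
      group
    rw [e]
    exact mul_mem (E.code_mem w) (zpow_mem (E.le ⟨_, rfl⟩) i)
  have hinj : Function.Injective θ := (injective_iff_map_eq_one θ).2 fun w hw => by
    obtain ⟨i, hi⟩ := mem_zpowers_iff.1 ((QuotientGroup.eq_one_iff (c' w)).1 hw)
    have h3 : rep 2 ^ 3 = 1 := Stab_ext (by decide +kernel)
    have he : E.codeHom w = E.ι (rep 2 ^ (((i % 3).toNat : ℕ))) := by
      have := congrArg Subtype.val hi
      rw [SubgroupClass.coe_zpow] at this
      rw [map_pow, show E.codeHom w = ((c' w : K) : G) from rfl, ← this]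
      show E.ι (rep 2) ^ i = _
      rw [← map_zpow, ← map_pow, zpow_eq_zpow_emod' i h3, show i % (3 : ℕ) = ((i % 3).toNat : ℤ) by omega, zpow_natCast]
    set k : ZMod 3 := (((i % 3).toNat : ℕ) : ZMod 3)
    rw [show (i % 3).toNat = k.val by rw [ZMod.val_natCast]; omega, codeHom_apply, ← E.f_ι] at he
    obtain ⟨r, hr4, hr⟩ := center_SL44.1 (QuotientGroup.eq.1 (E.f_inj he))
    refine codeM4_trivial w k ?_
    have h' : (rep 2 ^ k.val).1.1 = codeM4 w * Matrix.scalar (Fin 4) r := by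
      rw [hr]
      exact congrArg (fun X : SL44 => X.1) (mul_inv_cancel_left (codeSL w) (rep 2 ^ k.val).1).symm
    rw [rep_two_pow] at h'
    have key : ∀ r : ZMod 3, r ^ 4 = 1 → r = 1 ∨ r = 2 := by decide
    rcases key r hr4 with rfl | rfl
    · left; rw [eq4_iff, h', map_one, mul_one]
    · right
      rw [eq4_iff, blkG_neg, h', show (2 : ZMod 3) = -1 by decide, map_neg, map_one, mul_neg, mul_one, neg_neg]
  set J := jGrp.map θ
  have hJ : ∀ {M : Stab} {a b c d : ZMod 3} (hM : Commute M (rep 2)), M.1.1 = blkG 1 !![a, b; c, d] →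
      π ⟨E.ι M, hK.2 (E.toEmb.ι_commute.2 hM)⟩ ∈ J := by
    intro M a b c d hM h
    obtain ⟨w, hw, i, hi⟩ := E.j_code h
    exact ⟨w, hw, (hθ _ w i hi).symm⟩
  have hplane : ∀ a b : ZMod 3, Commute (vS ![0, a, b]) (rep 2) := by
    intro a b
    exact Stab_ext (by revert a b; decide +kernel)
  have hzx : Commute zS (rep 2) := hplane 0 1
  have hzJ : π ⟨E.ι zS, hK.2 (E.toEmb.ι_commute.2 hzx)⟩ ∈ J := by
    obtain ⟨a, b, c, d, h⟩ := plane_shape 0 1
    exact hJ hzx h
  have hyx : Commute yS (rep 2) := hplane 1 0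
  have hyJ : π ⟨E.ι yS, hK.2 (E.toEmb.ι_commute.2 hyx)⟩ ∈ J := by
    obtain ⟨a, b, c, d, h⟩ := plane_shape 1 0
    exact hJ hyx h
  have hnorm : normalizer (J : Set (K ⧸ Z)) = θ.range := by
    refine le_antisymm (fun q hq => ?_) ?_
    · obtain ⟨k, rfl⟩ := QuotientGroup.mk'_surjective Z q
      obtain ⟨w, -, hw⟩ := Inverted.mem_normalizer_conj hq hzJ
      have hkz : (k : G) * E.ι zS * (k : G)⁻¹ ∈ E.R := hθR (k * ⟨E.ι zS, _⟩ * k⁻¹) w
        (by rw [map_mul, map_mul, map_inv]; exact hw.symm)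
      exact hRθ k (E.iso k hkz)
    · rintro _ ⟨c, rfl⟩
      refine mem_normalizer_fintype ?_
      rintro _ ⟨w, hw, rfl⟩
      exact ⟨c * w * c⁻¹, inJ_conj w hw c, by rw [map_mul, map_mul, map_inv]⟩
  -- the centraliser of the lift of `u'`
  have hu : ∀ q : K ⧸ Z, Commute q (θ uW) → q ^ 3 = 1 ∧ ∃ w, Commute w uW ∧ θ w = q := by
    intro q hq
    obtain ⟨k, rfl⟩ := QuotientGroup.mk'_surjective Z q
    have h1 : π (k * c' uW * k⁻¹) = π (c' uW) := by
      rw [map_mul, map_mul, map_inv]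
      exact mul_inv_eq_iff_eq_mul.2 hq.eq
    obtain ⟨i, hi⟩ := mem_zpowers_iff.1 (QuotientGroup.eq.1 h1.symm)
    have hconj : (k : G) * E.codeHom uW * (k : G)⁻¹ = E.codeHom uW * E.ι (rep 2) ^ i := by
      have := congrArg Subtype.val hi
      rw [SubgroupClass.coe_zpow] at this
      show _ = E.codeHom uW * (xK : G) ^ i
      rw [this]
      show _ = E.codeHom uW * ((E.codeHom uW)⁻¹ * ((k : G) * E.codeHom uW * (k : G)⁻¹))
      group
    obtain ⟨hR, h3, hcomm⟩ := E.cent_pair (hK.1 k.2) hconj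
    refine ⟨?_, ?_⟩
    · rw [← map_pow, show k ^ 3 = 1 from Subtype.ext h3, map_one]
    · obtain ⟨w, hw⟩ := hRθ k hR
      exact ⟨w, hinj (by rw [map_mul, map_mul, hw]; exact hq.eq), hw⟩
  have hcore : ∀ q ∈ θ.range, orderOf q = 3 → Cfsg.pPrimeCore 3 (centralizer ({q} : Set (K ⧸ Z))) = ⊥ := by
    rintro _ ⟨w, rfl⟩ hord
    set C := centralizer ({θ w} : Set (K ⧸ Z))
    set O := Cfsg.pPrimeCore 3 C
    have hO3 : (Nat.card O).Coprime 3 := Grp.pPrimeCore_coprime
    rw [eq_bot_iff]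
    rcases Bool.eq_false_or_eq_true (inJ w) with hw | hw
    · -- a signalizer
      haveI hOn : O.Normal := Grp.pPrimeCore_isNormal
      set T := (O.map C.subtype).comap π
      have hZT : Z ≤ T := fun a ha => by
        show π a ∈ O.map C.subtype
        rw [show π a = 1 from (QuotientGroup.eq_one_iff a).2 ha]; exact one_mem _
      haveI : Fact (Nat.Prime 3) := ⟨Nat.prime_three⟩
      have hidx : ¬ 3 ∣ (Z.subgroupOf T).index := by
        have h' := Subgroup.relIndex_ker (f := π) T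
        rw [QuotientGroup.ker_mk', map_comap_eq_self_of_surjective (QuotientGroup.mk'_surjective Z),
          card_map_of_injective C.subtype_injective] at h'
        rw [← relIndex, h']
        exact Nat.prime_three.coprime_iff_not_dvd.1 hO3.symm
      have hZ3 : IsPGroup 3 Z := fun a => ⟨1, by
        obtain ⟨i, hi⟩ := mem_zpowers_iff.1 a.2
        refine Subtype.ext ?_
        rw [pow_one, SubmonoidClass.coe_pow, ← hi, ← zpow_natCast (xK ^ i) 3, ← _root_.zpow_mul, mul_comm,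
          _root_.zpow_mul, zpow_natCast,
          show xK ^ 3 = 1 from Subtype.ext (by
            show E.ι (rep 2) ^ 3 = 1
            rw [← map_pow, show rep 2 ^ 3 = 1 from Stab_ext (by decide +kernel), map_one]), _root_.one_zpow]
        rfl⟩
      let S : Sylow 3 T := (hZ3.comap_subtype (K := T)).toSylow hidx
      obtain ⟨Y, -, hY3, hYdec, hYall⟩ := Inverted.burnside S fun a _ => mem_centralizer_iff.2 fun b hb => by
        obtain ⟨i, hi⟩ := mem_zpowers_iff.1 (show (b : K) ∈ Z from hb)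
        refine Subtype.ext ?_
        show (b : K) * a = a * b
        rw [← hi]
        exact ((hxc a).zpow_right i).eq.symm
      have hnormY : ∀ (y : Stab) (hy : Commute y (rep 2)), π ⟨E.ι y, hK.2 (E.toEmb.ι_commute.2 hy)⟩ ∈ J →
          ∀ a ∈ (Y.map T.subtype).map K.subtype,
            E.ι y * a * (E.ι y)⁻¹ ∈ (Y.map T.subtype).map K.subtype := by
        rintro y hy hyJ _ ⟨_, ⟨o, ho, rfl⟩, rfl⟩
        set k : K := ⟨E.ι y, hK.2 (E.toEmb.ι_commute.2 hy)⟩
        have hkC : π k ∈ C := by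
          obtain ⟨v, hv, hv'⟩ := hyJ
          refine mem_centralizer_singleton_iff.2 ?_
          rw [← hv', ← map_mul, ← map_mul, (inJ_mul v hv w hw).2.1]
        have hmem : k * (o : K) * k⁻¹ ∈ T := by
          show π (k * (o : K) * k⁻¹) ∈ O.map C.subtype
          obtain ⟨b, hb, hb'⟩ := (show π (o : K) ∈ O.map C.subtype from o.2)
          refine ⟨⟨π k, hkC⟩ * b * ⟨π k, hkC⟩⁻¹, hOn.conj_mem b hb _, ?_⟩
          rw [map_mul, map_mul, map_inv, map_mul, map_mul, map_inv, hb']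
          rfl
        refine ⟨_, ⟨⟨k * (o : K) * k⁻¹, hmem⟩, hYall _ ?_, rfl⟩, rfl⟩
        rw [← Subgroup.orderOf_coe]
        show (orderOf (k * (o : K) * k⁻¹)).Coprime 3
        rw [show k * (o : K) * k⁻¹ = MulAut.conj k o from rfl, MulEquiv.orderOf_eq, Subgroup.orderOf_coe]
        exact hY3.coprime_dvd_left (Subgroup.orderOf_dvd_natCard Y ho)
      have hW : (Y.map T.subtype).map K.subtype = ⊥ := E.toEmb.signalizer
        (by rw [card_map_of_injective K.subtype_injective, card_map_of_injective T.subtype_injective]; exact hY3)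
        (hnormY yS hyx hyJ) (hnormY zS hzx hzJ)
      rw [map_eq_bot_iff_of_injective _ K.subtype_injective, map_eq_bot_iff_of_injective _ T.subtype_injective] at hW
      intro o ho
      obtain ⟨k, hk⟩ := QuotientGroup.mk'_surjective Z (o : K ⧸ Z)
      have hkT : k ∈ T := by
        show π k ∈ O.map C.subtype
        rw [hk]; exact ⟨o, ho, rfl⟩
      obtain ⟨y, hy, p, hp, e⟩ := hYdec ⟨k, hkT⟩
      rw [hW, mem_bot] at hy
      subst hy
      rw [one_mul] at e
      refine mem_bot.2 (Subtype.ext ?_)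
      rw [← hk]
      have : k ∈ Z := by rw [show k = (p : K) from congrArg Subtype.val e]; exact hp
      exact (QuotientGroup.eq_one_iff k).2 this
    · have hw3 : w * w * w = 1 := hinj (by
        rw [map_mul, map_mul, map_one, ← pow_three', ← hord, pow_orderOf_eq_one])
      obtain ⟨c, hc⟩ := order_three_cases w hw3 hw
      intro o ho
      have ho' : Commute ((θ c)⁻¹ * o * θ c) (θ uW) := by
        have hoc : Commute (o : K ⧸ Z) (θ w) := mem_centralizer_singleton_iff.1 o.2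
        rw [← hc, map_mul, map_mul, map_inv] at hoc
        show _ = _
        calc (θ c)⁻¹ * o * θ c * θ uW = (θ c)⁻¹ * ((o : K ⧸ Z) * (θ c * θ uW * (θ c)⁻¹)) * θ c := by group
          _ = (θ c)⁻¹ * ((θ c * θ uW * (θ c)⁻¹) * o) * θ c := by rw [hoc.eq]
          _ = θ uW * ((θ c)⁻¹ * o * θ c) := by group
      have h3 := (hu _ ho').1
      have hcp := conj_pow (i := 3) (a := (θ c)⁻¹) (b := (o : K ⧸ Z))
      rw [inv_inv] at hcp
      rw [hcp, mul_eq_one_iff_eq_inv, mul_eq_left] at h3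
      refine mem_bot.2 (orderOf_eq_one_iff.1 (Nat.eq_one_of_dvd_coprimes hO3
        (Subgroup.orderOf_dvd_natCard O ho) (orderOf_dvd_of_pow_eq_one (Subtype.ext ?_))))
      rw [SubmonoidClass.coe_pow]
      exact h3
  let C : Recog.AltNine.Ctx (K ⧸ Z) := { θ := θ, inj := hinj, norm := hnorm, core := hcore }
  have htop : θ.range = ⊤ := by
    rcases C.cent_A_cases with hA | h
    · exact C.eq_top_of_cent_le hA
    · exfalso
      obtain ⟨φ⟩ := C.iso_of_quot h
      have hord : orderOf (φ (θ uW)) = 3 := by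
        rw [MulEquiv.orderOf_eq, orderOf_injective θ hinj]
        haveI : Fact (Nat.Prime 3) := ⟨Nat.prime_three⟩
        exact orderOf_eq_prime (by decide +kernel) (by decide +kernel)
      have hle : Nat.card (centralizer ({φ (θ uW)} : Set (alternatingGroup (Fin 9)))) ≤ 9 := by
        refine le_trans ?_ uW_cent.le
        rw [← Nat.card_eq_finsetCard]
        have hex : ∀ s : centralizer ({φ (θ uW)} : Set (alternatingGroup (Fin 9))),
            ∃ w, Commute w uW ∧ θ w = φ.symm s := fun s => (hu _ (by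
          show _ = _
          apply φ.injective
          rw [map_mul, map_mul, MulEquiv.apply_symm_apply]
          exact mem_centralizer_singleton_iff.1 s.2)).2
        choose wf hw1 hw2 using hex
        refine Nat.card_le_card_of_injective (fun s => (⟨wf s, Finset.mem_filter.2 ⟨Finset.mem_univ _,
          decide_eq_true (hw1 s).eq⟩⟩ : {w // w ∈ Finset.univ.filter fun w : W => decide (w * uW = uW * w) = true}))
          fun a b h => Subtype.ext (φ.symm.injective ?_)
        rw [← hw2 a, ← hw2 b, show wf a = wf b from congrArg Subtype.val h]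
      have := nine_cent_large _ hord
      omega
  obtain ⟨w, hw⟩ := (htop.symm ▸ mem_top _ : π ⟨g, hK.2 hg⟩ ∈ θ.range)
  exact hθR ⟨g, hK.2 hg⟩ w hw.symm

end Full

end Cfsg.Agent.Spor.L43Three
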