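import Cfsg.Agent.Lib.Spor.L43Three.Two.Extend
import Cfsg.Agent.Lib.Spor.L43Three.Parabolic
import Cfsg.Agent.Lib.Lie.CurtisTitsTypeA
import Cfsg.Agent.Lib.Classical.SLGroup

/-!
The chain of three copies of `SL(2, 3)` and the resulting subgroup isomorphic to `PSL(4, 3)`.
-/

set_option autoImplicit false
set_option linter.unusedSectionVars false
set_option maxRecDepth 10000
set_option maxHeartbeats 1000000

namespace Cfsg.Agent.Spor.L43Three

open Subgroup Matrix Cfsg.Agent.Lie.Chev Cfsg.Agent.Lie.CurtisTitsA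

universe u

/-- The abelian group of order 81, by coordinates. -/
def jM (w : Fin 4 → ZMod 3) : M4 := !![1, 0, w 0, w 1; 0, 1, w 2, w 3; 0, 0, 1, 0; 0, 0, 0, 1]

theorem jM_det : ∀ w, (jM w).det = 1 ∧ ∀ i, jM w i 0 = if i = 0 then 1 else 0 := by decide +kernel

/-- An element of the abelian group. -/
def jS (w : Fin 4 → ZMod 3) : Stab := mk4 (jM w) (jM_det w).1 (jM_det w).2

/-- The part seen in the second `SL(3, 3)`. -/
def jA (p r : ZMod 3) : SL33 := rootA 1 ^ p.val * rootA 2 ^ r.val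

theorem jA_facts : ∀ p r : ZMod 3, (jA p r).1 = !![1, 0, p; 0, 1, r; 0, 0, 1] ∧
    (rtS 1 ^ p.val * rtS 2 ^ r.val).1.1 = jM ![p, 0, r, 0] := by decide +kernel

theorem jS_split : ∀ p q r s : ZMod 3,
    (cS ![q, s, 0] * jS ![p, 0, r, 0]).1.1 = jM ![p, q, r, s] := by decide +kernel

theorem jS_mul (w x : Fin 4 → ZMod 3) : jS w * jS x = jS (w + x) := by
  refine Stab_ext ?_
  rw [Stab_mul_val]
  show jM w * jM x = jM (w + x)
  ext i j
  fin_cases i <;> fin_cases j <;> simp [jM, Matrix.mul_apply, Fin.sum_univ_four, add_comm]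

theorem jS_inj {w x : Fin 4 → ZMod 3} (h : jS w = jS x) : w = x := by
  have h' : jM w = jM x := congrArg (fun M : Stab => M.1.1) h
  funext i
  fin_cases i
  · simpa [jM] using congrFun (congrFun h' 0) 2
  · simpa [jM] using congrFun (congrFun h' 0) 3
  · simpa [jM] using congrFun (congrFun h' 1) 2
  · simpa [jM] using congrFun (congrFun h' 1) 3

theorem jS_t : ∀ w : Fin 4 → ZMod 3, (tI * tS * jS w).1.1 = (jS (-w) * (tI * tS)).1.1 := by decide +kernel

theorem jS_z : jS ![0, 1, 0, 0] = zS := Stab_ext (by decide +kernel)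

theorem jS_cent {M : Stab} (h : ∀ w, Commute M (jS w)) : ∃ w, jS w = M := by
  obtain ⟨r1, r2, r3⟩ := z_rows (jS_z ▸ h ![0, 1, 0, 0])
  have a0 := M.2 0
  have a1 := M.2 1
  have a2 := M.2 2
  have a3 := M.2 3
  simp at a0 a1 a2 a3
  have k : ∀ w i j, (M.1.1 * jM w) i j = (jM w * M.1.1) i j := fun w i j => by
    have m := congrArg (fun B : Stab => B.1.1) (h w).eq
    simp only [Stab_mul_val] at m
    exact congrFun (congrFun m i) j
  have b21 := k ![1, 0, 0, 0] 0 1
  have b22 := k ![1, 0, 0, 0] 0 2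
  have b23 := k ![1, 0, 0, 0] 0 3
  have c01 := k ![0, 0, 1, 0] 0 2
  have c11 := k ![0, 0, 1, 0] 1 2
  simp [jM, Matrix.mul_apply, Fin.sum_univ_four, a0, a1, a2, a3] at b21 b22 b23 c01 c11
  have e21 : M.1.1 2 1 = 0 := by linear_combination b21
  have e22 : M.1.1 2 2 = 1 := by linear_combination -b22
  have e23 : M.1.1 2 3 = 0 := by linear_combination b23
  have e01 : M.1.1 0 1 = 0 := by linear_combination c01
  have e11 : M.1.1 1 1 = 1 := by linear_combination c11 + e22
  refine ⟨![M.1.1 0 2, M.1.1 0 3, M.1.1 1 2, M.1.1 1 3], Stab_ext ?_⟩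
  show jM _ = M.1.1
  ext i j
  fin_cases i <;> fin_cases j <;> simp [jM, r1, r2, r3, a0, a1, a2, a3, e01, e11, e21, e22, e23]

/-- The action of the first block. -/
def gL (g : Matrix.SpecialLinearGroup (Fin 2) (ZMod 3)) (w : Fin 4 → ZMod 3) : Fin 4 → ZMod 3 :=
  ![g.1 0 0 * w 0 + g.1 0 1 * w 2, g.1 0 0 * w 1 + g.1 0 1 * w 3, g.1 1 0 * w 0 + g.1 1 1 * w 2,
    g.1 1 0 * w 1 + g.1 1 1 * w 3]

/-- The action of the last block. -/
def gR (h : Matrix.SpecialLinearGroup (Fin 2) (ZMod 3)) (w : Fin 4 → ZMod 3) : Fin 4 → ZMod 3 :=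
  ![w 0 * h.1 1 1 - w 1 * h.1 1 0, -(w 0 * h.1 0 1) + w 1 * h.1 0 0, w 2 * h.1 1 1 - w 3 * h.1 1 0,
    -(w 2 * h.1 0 1) + w 3 * h.1 0 0]

theorem gL_gR (g h : Matrix.SpecialLinearGroup (Fin 2) (ZMod 3)) (w : Fin 4 → ZMod 3) :
    gL g (gR h w) = gR h (gL g w) := by
  funext i; fin_cases i <;> simp [gL, gR] <;> ring

theorem up3_jA (g : Matrix.SpecialLinearGroup (Fin 2) (ZMod 3)) (w : Fin 4 → ZMod 3) :
    up3 g * jA (w 0) (w 2) = jA (gL g w 0) (gL g w 2) * up3 g := by
  apply Subtype.ext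
  show (up3 g).1 * (jA (w 0) (w 2)).1 = (jA (gL g w 0) (gL g w 2)).1 * (up3 g).1
  rw [(jA_facts _ _).1, (jA_facts _ _).1, up3_val]
  ext i j
  fin_cases i <;> fin_cases j <;> simp [gL, Matrix.mul_apply, Fin.sum_univ_three]

/-- The lower block as a homomorphism into the stabiliser. -/
def elHom : SL33 →* Stab := MonoidHom.mk' (fun A => el 0 A) fun A B => by
  rw [el_mul, Matrix.zero_vecMul, add_zero]

theorem dn_jS (h : Matrix.SpecialLinearGroup (Fin 2) (ZMod 3)) (w : Fin 4 → ZMod 3) :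
    elHom (dn3 h) * jS w = jS (gR h w) * elHom (dn3 h) := by
  refine Stab_ext ?_
  show (el 0 (dn3 h)).1.1 * jM w = jM (gR h w) * (el 0 (dn3 h)).1.1
  rw [el_val, dn3_val]
  have hd := det_two h
  ext i j
  fin_cases i <;> fin_cases j <;> simp [jM, gR, aff, Matrix.mul_apply, Fin.sum_univ_four] <;>
    first
    | linear_combination (-w 0) * hd
    | linear_combination (-w 1) * hd
    | linear_combination (-w 2) * hd
    | linear_combination (-w 3) * hd
    | ring

theorem dn_comm_t (h : Matrix.SpecialLinearGroup (Fin 2) (ZMod 3)) : Commute (elHom (dn3 h)) (tI * tS) := by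
  refine Stab_ext ?_
  show (el 0 (dn3 h)).1.1 * (tI.1.1 * tS.1.1) = tI.1.1 * tS.1.1 * (el 0 (dn3 h)).1.1
  rw [el_val, dn3_val, show tI.1.1 * tS.1.1 = Matrix.diagonal ![1, 1, 2, 2] by decide +kernel]
  ext i j
  rw [Matrix.mul_diagonal, Matrix.diagonal_mul]
  fin_cases i <;> fin_cases j <;> simp [aff, mul_comm]

theorem up_comm_t (g : Matrix.SpecialLinearGroup (Fin 2) (ZMod 3)) : Commute (up3 g) (dA0 * dA1) := by
  apply Subtype.ext
  show (up3 g).1 * (dA0 * dA1).1 = (dA0 * dA1).1 * (up3 g).1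
  rw [up3_val, show (dA0 * dA1).1 = Matrix.diagonal ![2, 2, 1] by decide +kernel]
  ext i j
  rw [Matrix.mul_diagonal, Matrix.diagonal_mul]
  fin_cases i <;> fin_cases j <;> simp [mul_comm]

theorem up3_vec (g : Matrix.SpecialLinearGroup (Fin 2) (ZMod 3)) (w : Fin 4 → ZMod 3) :
    (up3 g).1 *ᵥ ![w 1, w 3, 0] = ![gL g w 1, gL g w 3, 0] := by
  rw [up3_val]
  funext i
  fin_cases i <;> simp [gL, Matrix.mulVec, dotProduct, Fin.sum_univ_three]

theorem el0_tv : ∀ (i j : Fin 3) (t : ZMod 3), i ≠ j →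
    aff 0 (Matrix.transvection i j t) = Matrix.transvection i.succ j.succ t := by decide +kernel

theorem vS_first : (vS ![1, 0, 0]).1.1 = Matrix.transvection (0 : Fin 4) 1 (1 : ZMod 3) := by decide +kernel

theorem first_row : ∃ A : SL33, (![1, 0, 0] : Fin 3 → ZMod 3) ᵥ* A.1 = ![0, 0, 1] :=
  ⟨⟨!![0, 0, 1; 1, 0, 0; 0, 1, 0], by decide +kernel⟩, by decide +kernel⟩

theorem fixed_zero : ∀ v : Fin 3 → ZMod 3, v ᵥ* (low tI).1 = v → v ᵥ* (low tS).1 = v → v = 0 := by decide +kernel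

namespace Loc

variable {G : Type u} [Group G] [Finite G] {H : Hyp G} (L : Loc H)

/-- The subgroup isomorphic to `PSL(4, 3)`. -/
theorem exists_psl (hu : IsConj H.z (L.ι (rep 1))) :
    ∃ f : Matrix.ProjectiveSpecialLinearGroup (Fin 4) (ZMod 3) →* G, Function.Injective f ∧
      ∀ M : Stab, f (M.1 : Matrix.ProjectiveSpecialLinearGroup (Fin 4) (ZMod 3)) = L.ι M := by
  obtain ⟨ψ, hact, hdn, h01, h02, hd⟩ := L.exists_extension hu
  -- the distant blocks commute
  have hfar : ∀ g h : Matrix.SpecialLinearGroup (Fin 2) (ZMod 3), Commute (ψ (up3 g)) (L.ι (elHom (dn3 h))) := by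
    intro g h
    have hr2 : ψ (rootA 2) = L.ι (rtS 2) := by
      rw [show rootA 2 = dn3 (upSL 1) from Subtype.ext el_up3_roots.2.2.1.symm, hdn]
      exact congrArg L.ι (Stab_ext el_up3_roots.1)
    have hjA : ∀ p r, ψ (jA p r) = L.ι (jS ![p, 0, r, 0]) := fun p r => by
      rw [jA, map_mul, map_pow, map_pow, hr2, show ψ (rootA 1) = L.ι (vS ![0, 1, 0]) from h02, ← rtS_one, ← map_pow,
        ← map_pow, ← map_mul]
      exact congrArg L.ι (Stab_ext (jA_facts p r).2)
    have hsplit : ∀ w : Fin 4 → ZMod 3, L.ι (jS w) = L.ι (cS ![w 1, w 3, 0]) * L.ι (jS ![w 0, 0, w 2, 0]) := fun w => by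
      rw [← map_mul]
      refine congrArg L.ι (Stab_ext ?_)
      rw [jS_split]
      show jM w = _
      congr 1
      funext i; fin_cases i <;> rfl
    have hg : ∀ w, ψ (up3 g) * L.ι (jS w) * (ψ (up3 g))⁻¹ = L.ι (jS (gL g w)) := fun w => by
      rw [hsplit w, hsplit (gL g w), ← hjA, ← hjA, ← up3_vec, ← hact]
      have e : ψ (up3 g) * ψ (jA (w 0) (w 2)) = ψ (jA (gL g w 0) (gL g w 2)) * ψ (up3 g) := by
        rw [← map_mul, up3_jA, map_mul]
      calc _ = ψ (up3 g) * L.ι (cS ![w 1, w 3, 0]) * (ψ (up3 g))⁻¹ *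
            (ψ (up3 g) * ψ (jA (w 0) (w 2))) * (ψ (up3 g))⁻¹ := by group
        _ = _ := by rw [e]; group
    have hh : ∀ w, L.ι (elHom (dn3 h)) * L.ι (jS w) * (L.ι (elHom (dn3 h)))⁻¹ = L.ι (jS (gR h w)) := fun w => by
      rw [← map_inv, ← map_mul, ← map_mul, dn_jS, mul_inv_cancel_right]
    set a := ψ (up3 g)
    set b := L.ι (elHom (dn3 h))
    set c := a⁻¹ * b⁻¹ * a * b with hc
    have hcJ : ∀ w, Commute c (L.ι (jS w)) := fun w => by
      have e : b * a * L.ι (jS w) * (b * a)⁻¹ = a * b * L.ι (jS w) * (a * b)⁻¹ := by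
        calc b * a * L.ι (jS w) * (b * a)⁻¹ = b * (a * L.ι (jS w) * a⁻¹) * b⁻¹ := by group
          _ = a * (b * L.ι (jS w) * b⁻¹) * a⁻¹ := by rw [hg, hh, hh, hg, gL_gR]
          _ = _ := by group
      show _ = _
      calc c * L.ι (jS w) = (b * a)⁻¹ * (a * b * L.ι (jS w) * (a * b)⁻¹) * (a * b) := by rw [hc]; group
        _ = (b * a)⁻¹ * (b * a * L.ι (jS w) * (b * a)⁻¹) * (a * b) := by rw [e]
        _ = L.ι (jS w) * c := by rw [hc]; group
    obtain ⟨M, hM⟩ := L.cz c (by rw [← L.z_eq, ← jS_z]; exact hcJ _)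
    obtain ⟨w, rfl⟩ := jS_cent (M := M) fun w => by
      have := hcJ w
      rw [← hM] at this
      exact L.inj (by rw [map_mul, map_mul]; exact this.eq)
    have hta : Commute a (L.ι (tI * tS)) := by rw [← hd]; exact (up_comm_t g).map ψ
    have htb : Commute b (L.ι (tI * tS)) := (dn_comm_t h).map L.ι
    have htc : Commute c (L.ι (tI * tS)) := ((hta.inv_left.mul_left htb.inv_left).mul_left hta).mul_left htb
    rw [← hM] at htc
    have h2 : jS w * (tI * tS) = tI * tS * jS w := L.inj (by rw [map_mul L.ι (jS w), map_mul L.ι (tI * tS) (jS w)]; exact htc.eq)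
    rw [show tI * tS * jS w = jS (-w) * (tI * tS) from Stab_ext (jS_t w)] at h2
    have hw := jS_inj (mul_right_cancel h2)
    have hw0 : w = 0 := by
      funext i
      have key : ∀ x : ZMod 3, x = -x → x = 0 := by intro x hx; linear_combination (2 : ZMod 3) * hx - x * (by decide : (3 : ZMod 3) = 0)
      exact key _ (congrFun hw i)
    have hc1 : c = 1 := by
      rw [← hM, hw0, show jS 0 = 1 from Stab_ext (by decide +kernel), map_one]
    show a * b = b * a
    calc a * b = b * a * c := by rw [hc]; group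
      _ = b * a := by rw [hc1, mul_one]
  -- the chain
  let φ : ℕ → Matrix.SpecialLinearGroup (Fin 2) (ZMod 3) →* G := fun k =>
    if k = 0 then ψ.comp up3 else if k = 1 then (L.ι.comp elHom).comp up3 else (L.ι.comp elHom).comp dn3
  obtain ⟨Ψ, hΨ⟩ := exists_chain φ 3 (by norm_num) (fun k hk => by
      rcases (show k = 0 ∨ k = 1 by omega) with rfl | rfl
      · exact ⟨ψ, fun g => rfl, fun g => hdn g⟩
      · exact ⟨L.ι.comp elHom, fun g => rfl, fun g => rfl⟩)
    (fun k l hkl hl g g' => by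
      obtain ⟨rfl, rfl⟩ : k = 0 ∧ l = 2 := ⟨by omega, by omega⟩
      exact hfar g g')
  -- agreement on the stabiliser
  let S : Subgroup Stab := (Ψ.comp Stab.subtype).eqLocus L.ι
  have hS : ∀ M : Stab, M ∈ S ↔ Ψ M.1 = L.ι M := fun M => Iff.rfl
  have hel : ∀ A, elHom A ∈ S := by
    let T := S.comap elHom
    have hadj : ∀ i j : Fin 3, (h : i ≠ j) → i.val < 3 → j.val < 3 →
        (j.val = i.val + 1 ∨ i.val = j.val + 1) → ∀ t, tvN i j h t ∈ T := by
      intro i j h _ _ hadj t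
      show elHom (tvN i j h t) ∈ S
      rw [hS]
      have e : (elHom (tvN i j h t)).1 = tvN i.succ j.succ (fun e => h (Fin.succ_injective _ e)) t :=
        Subtype.ext (el0_tv i j t h)
      rw [e]
      rcases hadj with hd' | hd'
      · rw [(hΨ i.succ j.succ (by simp [hd']) t).1]
        fin_cases i <;> fin_cases j <;> simp at hd' h ⊢
        · show L.ι (elHom (up3 (upSL t))) = _
          rw [up3_up]
        · show L.ι (elHom (dn3 (upSL t))) = _
          rw [dn3_up]
      · rw [(hΨ j.succ i.succ (by simp [hd']) t).2]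
        fin_cases i <;> fin_cases j <;> simp at hd' h ⊢
        · show L.ι (elHom (up3 (loSL t))) = _
          rw [up3_lo]
        · show L.ι (elHom (dn3 (loSL t))) = _
          rw [dn3_lo]
    have hall : T = ⊤ := by
      rw [eq_top_iff, ← Cfsg.Agent.Classical.SL_closure_transvections]
      refine (closure_le _).2 ?_
      rintro _ ⟨⟨i, j, hij, t⟩, rfl⟩
      exact tv_mem_of_adjacent T 3 hadj i j hij i.isLt j.isLt t
    exact fun A => (hall ▸ mem_top A : A ∈ T)
  have hfirst : vS ![1, 0, 0] ∈ S := by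
    rw [hS]
    have e : (vS ![1, 0, 0]).1 = tvN (0 : Fin 4) 1 (by decide) 1 := Subtype.ext vS_first
    rw [e, (hΨ 0 1 rfl 1).1]
    show ψ (up3 (upSL 1)) = _
    rw [up3_up, h01]
  have hvS : ∀ v, vS v ∈ S := by
    have hconj : ∀ (A : SL33) v, vS v ∈ S → vS (v ᵥ* A.1) ∈ S := fun A v hv => by
      have := mul_mem (mul_mem (inv_mem (hel A)) hv) (hel A)
      rwa [show elHom A = el 0 A from rfl, vS_conj, low_el] at this
    have hz : zS ∈ S := by
      obtain ⟨A, hA⟩ := first_row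
      have h := hconj A _ hfirst
      rwa [hA] at h
    intro v
    rcases eq_or_ne v 0 with rfl | hv
    · rw [vS_zero]; exact one_mem _
    · have := hconj ⟨toRow v, (toRow_spec v hv).1⟩ _ hz
      rwa [(toRow_spec v hv).2] at this
  have hagree : ∀ M : Stab, Ψ M.1 = L.ι M := fun M => by
    obtain ⟨v, A, rfl⟩ := el_surj M
    have : el v A = elHom A * vS v := by
      show el v A = el 0 A * el v 1
      rw [el_mul, mul_one]
      simp [one_val]
    exact (hS _).1 (this ▸ mul_mem (hel A) (hvS v))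
  -- the centre goes to one
  have hcen : center SL44 ≤ Ψ.ker := by
    intro x hx
    have hcx : ∀ M : Stab, Commute (Ψ x) (L.ι M) := fun M => by
      rw [← hagree]; exact (show Commute x M.1 from (mem_center_iff.1 hx M.1).symm).map Ψ
    obtain ⟨M, hM⟩ := L.cz (Ψ x) (L.z_eq ▸ hcx zS)
    have hMc : ∀ N, Commute M N := fun N => L.inj (by rw [map_mul, map_mul, hM]; exact (hcx N).eq)
    have hlow : low M = 1 := by
      refine Subtype.ext (Matrix.ext fun i j => ?_)
      have h := vS_conj (Pi.single i 1) M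
      rw [mul_assoc, ← (hMc (vS (Pi.single i 1))).eq, inv_mul_cancel_left] at h
      have h' := congrFun (el_inj h).1 j
      rw [Matrix.single_one_vecMul] at h'
      simpa [Matrix.one_apply, Pi.single_apply, eq_comm] using h'.symm
    obtain ⟨v, hv⟩ : ∃ v, vS v = M := ⟨topRow M.1.1, by rw [vS, ← hlow, el_parts]⟩
    have hfix : ∀ N, v ᵥ* (low N).1 = v := fun N => by
      have h := vS_conj v N
      rw [mul_assoc, hv, (hMc N).eq, inv_mul_cancel_left, ← hv] at h
      exact (el_inj h).1.symm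
    rw [MonoidHom.mem_ker, ← hM, ← hv, fixed_zero v (hfix tI) (hfix tS), vS_zero, map_one]
  let f : Matrix.ProjectiveSpecialLinearGroup (Fin 4) (ZMod 3) →* G := QuotientGroup.lift (center SL44) Ψ hcen
  have hf : ∀ M : Stab, f (M.1 : Matrix.ProjectiveSpecialLinearGroup (Fin 4) (ZMod 3)) = L.ι M := hagree
  refine ⟨f, ?_, hf⟩
  haveI : IsSimpleGroup (Matrix.ProjectiveSpecialLinearGroup (Fin 4) (ZMod 3)) :=
    Cfsg.Agent.Classical.PSL_simple_of_three_le (F := ZMod 3) (ι := Fin 4) (by simp)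
  rcases IsSimpleGroup.eq_bot_or_eq_top_of_normal f.ker inferInstance with h | h
  · exact (MonoidHom.ker_eq_bot_iff f).1 h
  · exfalso
    have := h ▸ mem_top (zS.1 : Matrix.ProjectiveSpecialLinearGroup (Fin 4) (ZMod 3))
    rw [MonoidHom.mem_ker, hf, L.z_eq] at this
    exact H.z_ne this

end Loc

end Cfsg.Agent.Spor.L43Three
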