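import Cfsg.Agent.Lib.Spor.L43Three.Two.Chain

/-!
`z` is isolated in the subgroup isomorphic to `PSL(4, 3)`.
-/

set_option autoImplicit false
set_option linter.unusedSectionVars false
set_option maxRecDepth 10000

namespace Cfsg.Agent.Spor.L43Three

open Subgroup Matrix

universe u

/-- The conjugator from `a` to the regular element. -/
def raConj : SL44 := ⟨!![0, 0, 1, 0; 1, 0, 0, 0; 0, 1, 0, 0; 0, 0, 0, 1], by decide +kernel⟩

theorem raConj_fact : raConj.1 * repM 4 = repM 5 * raConj.1 := by decide +kernel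

/-- The conjugator between the two planes. -/
def zuConj : SL44 := ⟨!![0, 1, 0, 0; 2, 0, 0, 0; 0, 0, 1, 0; 0, 0, 0, 1], by decide +kernel⟩

theorem zuConj_fact : (zS.1 * zuConj).1 = (zuConj * (rep 1).1).1 := by decide +kernel

/-- The data of the second case. -/
structure Full (G : Type u) [Group G] extends Emb G where
  f : Matrix.ProjectiveSpecialLinearGroup (Fin 4) (ZMod 3) →* G
  f_inj : Function.Injective f
  R_eq : R = f.range
  f_ι : ∀ M : Stab, f (M.1 : Matrix.ProjectiveSpecialLinearGroup (Fin 4) (ZMod 3)) = ι M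
  z_u : IsConj (ι zS) (ι (rep 1))
  not_z : ∀ k : Fin 6, 2 ≤ k → ¬ IsConj (ι zS) (ι (rep k))
  sylow : ∀ P : Sylow 3 G, Nat.card P = 729

namespace Loc

variable {G : Type u} [Group G] [Finite G] {H : Hyp G} (L : Loc H)

/-- The second case. -/
theorem exists_full (hu : IsConj H.z (L.ι (rep 1))) : ∃ E : Full G, E.ι = L.ι := by
  haveI : Fact (Nat.Prime 3) := ⟨Nat.prime_three⟩
  obtain ⟨f, hf, hfι⟩ := L.exists_psl hu
  let q : Stab →* Matrix.ProjectiveSpecialLinearGroup (Fin 4) (ZMod 3) :=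
    (QuotientGroup.mk' (center SL44)).comp Stab.subtype
  have hq : ∀ M, f (q M) = L.ι M := hfι
  have hra : IsConj (L.ι (rep 4)) (L.ι (rep 5)) := by
    rw [← hq, ← hq]
    refine f.map_isConj ((QuotientGroup.mk' (center SL44)).map_isConj ?_)
    refine isConj_iff.2 ⟨raConj, ?_⟩
    rw [mul_inv_eq_iff_eq_mul]
    exact Subtype.ext raConj_fact
  have hnot : ∀ k : Fin 6, 2 ≤ k → ¬ IsConj H.z (L.ι (rep k)) := by
    intro k hk
    rcases (show (k = 2 ∨ k = 3 ∨ k = 4) ∨ k = 5 by omega) with e | rfl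
    · exact L.not_conj_mid k e
    · exact fun h => L.not_conj_mid 4 (Or.inr (Or.inr rfl)) (h.trans hra.symm)
  have hrange : L.ι.range ≤ f.range := by rintro _ ⟨M, rfl⟩; exact ⟨_, hq M⟩
  -- the unitriangular group is a Sylow subgroup of the subgroup
  set U := U4.map q
  have hqinj : Function.Injective q := PStab_inj
  have hU3 : IsPGroup 3 U := (IsPGroup.of_card (n := 6) (by rw [card_U4]; norm_num) : IsPGroup 3 U4).map q
  obtain ⟨P, hP⟩ := hU3.exists_le_sylow
  have hPU : (P : Subgroup (Matrix.ProjectiveSpecialLinearGroup (Fin 4) (ZMod 3))) = U := by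
    refine (eq_of_le_of_card_ge hP ?_).symm
    obtain ⟨S, hS⟩ := (P.isPGroup'.map f).exists_le_sylow
    have h1 := Subgroup.card_dvd_of_le hS
    rw [card_map_of_injective hf, H.sylow S] at h1
    rw [show Nat.card U = 729 by rw [card_map_of_injective hqinj, card_U4]]
    exact Nat.le_of_dvd (by norm_num) h1
  have hiso : ∀ g : G, g * L.ι zS * g⁻¹ ∈ f.range → g ∈ f.range := by
    rintro g ⟨X, hX⟩
    have hz3 : L.ι zS ^ 3 = 1 := by rw [← map_pow, zS, vS_cube, map_one]
    have hX3 : X ^ 3 = 1 := hf (by rw [map_pow, hX, conj_pow, hz3, mul_one, mul_inv_cancel, map_one])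
    have hX1 : X ≠ 1 := fun e => H.z_ne (by
      rw [e, map_one, L.z_eq] at hX
      exact conj_eq_one_iff.1 hX.symm)
    obtain ⟨T, hT⟩ := (IsPGroup.of_card (p := 3) (n := 1) (G := zpowers X)
      (by rw [pow_one, Nat.card_zpowers, orderOf_eq_prime hX3 hX1])).exists_le_sylow
    obtain ⟨c, hc⟩ := MulAction.exists_smul_eq (Matrix.ProjectiveSpecialLinearGroup (Fin 4) (ZMod 3)) T P
    have hmem : c * X * c⁻¹ ∈ (P : Subgroup (Matrix.ProjectiveSpecialLinearGroup (Fin 4) (ZMod 3))) := by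
      rw [← hc, Sylow.coe_subgroup_smul]
      exact Subgroup.smul_mem_pointwise_smul _ (MulAut.conj c) _ (hT (mem_zpowers X))
    rw [hPU] at hmem
    obtain ⟨M, -, hM⟩ := hmem
    have hM3 : M ^ 3 = 1 := hqinj (by rw [map_pow, hM, conj_pow, hX3, mul_one, mul_inv_cancel, map_one])
    have hM1 : M ≠ 1 := fun e => hX1 (by rw [e, map_one] at hM; exact conj_eq_one_iff.1 hM.symm)
    obtain ⟨k, h, hk⟩ := exists_class hM3 hM1
    set d := (L.ι h)⁻¹ * f c * g with hd
    have hdz : d * L.ι zS * d⁻¹ = L.ι (rep k) := by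
      calc d * L.ι zS * d⁻¹ = (L.ι h)⁻¹ * (f c * (g * L.ι zS * g⁻¹) * (f c)⁻¹) * L.ι h := by rw [hd]; group
        _ = (L.ι h)⁻¹ * L.ι M * L.ι h := by rw [← hX, ← map_inv f, ← map_mul, ← map_mul, ← hM, hq]
        _ = L.ι (rep k) := by rw [← hk, map_mul, map_mul, map_inv]; group
    have hck : IsConj H.z (L.ι (rep k)) := isConj_iff.2 ⟨d, by rw [← L.z_eq]; exact hdz⟩
    have hd' : d ∈ f.range := by
      have : k = 0 ∨ k = 1 := by
        by_contra hne
        exact hnot k (by omega) hck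
      obtain ⟨e, he⟩ : ∃ e ∈ f.range, e * L.ι zS * e⁻¹ = L.ι (rep k) := by
        rcases this with rfl | rfl
        · exact ⟨1, one_mem _, by rw [one_mul, inv_one, mul_one, show rep 0 = zS from Stab_ext (by decide +kernel)]⟩
        · let w : SL44 := zuConj
          refine ⟨f (w : Matrix.ProjectiveSpecialLinearGroup (Fin 4) (ZMod 3))⁻¹, ⟨_, rfl⟩, ?_⟩
          rw [← hq, ← hq, map_inv, inv_inv, ← map_inv, ← map_mul, ← map_mul]
          refine congrArg f ?_
          show QuotientGroup.mk' (center SL44) w⁻¹ * QuotientGroup.mk' (center SL44) zS.1 *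
            QuotientGroup.mk' (center SL44) w = QuotientGroup.mk' (center SL44) (rep 1).1
          rw [← map_mul, ← map_mul, mul_assoc]
          refine congrArg _ ?_
          rw [inv_mul_eq_iff_eq_mul]
          exact Subtype.ext zuConj_fact
      obtain ⟨heR, he'⟩ := he
      have hcz : e⁻¹ * d ∈ L.ι.range := L.cz _ (by
        rw [← L.z_eq]
        show _ = _
        calc e⁻¹ * d * L.ι zS = e⁻¹ * (d * L.ι zS * d⁻¹) * d := by group
          _ = e⁻¹ * (e * L.ι zS * e⁻¹) * d := by rw [hdz, he']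
          _ = L.ι zS * (e⁻¹ * d) := by group)
      have := mul_mem heR (hrange hcz)
      rwa [mul_inv_cancel_left] at this
    have := mul_mem (mul_mem (show (f c)⁻¹ ∈ f.range from inv_mem ⟨c, rfl⟩) (hrange ⟨h, rfl⟩)) hd'
    rwa [hd, show (f c)⁻¹ * L.ι h * ((L.ι h)⁻¹ * f c * g) = g by group] at this
  refine ⟨{ ι := L.ι, inj := L.inj, R := f.range, le := hrange, cz := fun g hg => L.cz g (L.z_eq ▸ hg), iso := hiso,
            f := f, f_inj := hf, R_eq := rfl, f_ι := hq, z_u := ?_, not_z := fun k hk h => hnot k hk (L.z_eq ▸ h),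
            sylow := H.sylow }, rfl⟩
  rw [L.z_eq]; exact hu

end Loc

end Cfsg.Agent.Spor.L43Three
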