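import Cfsg.Agent.Lib.Spor.L43Three.Two.Plane
import Cfsg.Agent.Lib.Spor.L43Three.One.CentT

/-!
The second `SL(3, 3)` chosen to agree with the embedded stabiliser.
-/

set_option autoImplicit false
set_option linter.unusedSectionVars false
set_option maxRecDepth 10000
set_option maxHeartbeats 1000000

namespace Cfsg.Agent.Spor.L43Three

open Subgroup Matrix Cfsg.Agent.Lie.Chev Cfsg.Agent.Lie.CurtisTitsA

universe u

/-- The first torus element. -/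
def dA0 : SL33 := ⟨!![1, 0, 0; 0, 2, 0; 0, 0, 2], by decide +kernel⟩

/-- The second torus element. -/
def dA1 : SL33 := ⟨!![2, 0, 0; 0, 1, 0; 0, 0, 2], by decide +kernel⟩

theorem dA_facts : dA0 * dA0 = 1 ∧ dA1 * dA1 = 1 ∧ dA0 * dA1 = dA1 * dA0 := by
  refine ⟨?_, ?_, ?_⟩ <;> exact Subtype.ext (by decide +kernel)

theorem act_tI : ∀ c : Fin 3 → ZMod 3, (tI * cS c).1.1 = (cS (dA0.1 *ᵥ c) * tI).1.1 := by decide +kernel

theorem act_tS : ∀ c : Fin 3 → ZMod 3, (tS * cS c).1.1 = (cS (dA1.1 *ᵥ c) * tS).1.1 := by decide +kernel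

/-- The root elements in the stabiliser. -/
def rootS : Fin 4 → M4 := ![!![1, 1, 0, 0; 0, 1, 0, 0; 0, 0, 1, 0; 0, 0, 0, 1], !![1, 0, 1, 0; 0, 1, 0, 0; 0, 0, 1, 0; 0, 0, 0, 1],
  !![1, 0, 0, 0; 0, 1, 1, 0; 0, 0, 1, 0; 0, 0, 0, 1], !![1, 0, 0, 0; 0, 1, 0, 0; 0, 1, 1, 0; 0, 0, 0, 1]]

theorem rootS_spec : ∀ k, (rootS k).det = 1 ∧ ∀ i, rootS k i 0 = if i = 0 then 1 else 0 := by decide +kernel

/-- A root element of the stabiliser. -/
def rtS (k : Fin 4) : Stab := mk4 (rootS k) (rootS_spec k).1 (rootS_spec k).2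

/-- The matching root elements. -/
def rootA : Fin 4 → SL33 := ![tvN 0 1 (by decide) 1, tvN 0 2 (by decide) 1, tvN 1 2 (by decide) 1, tvN 2 1 (by decide) 1]

theorem rootA_act : ∀ (k : Fin 4) (c : Fin 3 → ZMod 3), colAct (rtS k) c = (rootA k).1 *ᵥ c ∧
    (rtS k).1.1 3 1 = 0 ∧ (rtS k).1.1 3 2 = 0 ∧ (rtS k).1.1 3 3 = 1 := by decide +kernel

/-- The torus element fixing a root. -/
def rootT : Fin 4 → SL33 × Stab := ![(dA0 * dA1, tI * tS), (dA1, tS), (dA0, tI), (dA0, tI)]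

theorem rootT_facts : ∀ k, ((rootT k).1 * rootA k).1 = (rootA k * (rootT k).1).1 ∧
    ((rootT k).2 * rtS k).1.1 = (rtS k * (rootT k).2).1.1 := by decide +kernel

theorem rootT_act : ∀ (k : Fin 4) (c : Fin 3 → ZMod 3),
    ((rootT k).2 * cS c).1.1 = (cS ((rootT k).1.1 *ᵥ c) * (rootT k).2).1.1 := by decide +kernel

theorem rootT_fixed : ∀ c : Fin 3 → ZMod 3, ((rootT 0).1.1 *ᵥ c = c → c = ![0, 0, c 2]) ∧
    ((rootT 1).1.1 *ᵥ c = c → c = ![0, c 1, 0]) ∧ ((rootT 2).1.1 *ᵥ c = c → c = ![c 0, 0, 0]) := by decide +kernel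

theorem relations_force : ∀ a b c : ZMod 3,
    (cS ![0, 0, a] * rtS 0 * (cS ![0, c, 0] * rtS 1)).1.1 = (cS ![0, c, 0] * rtS 1 * (cS ![0, 0, a] * rtS 0)).1.1 →
    (cS ![0, 0, a] * rtS 0 * (cS ![b, 0, 0] * rtS 2)).1.1 =
      (cS ![0, c, 0] * rtS 1 * (cS ![b, 0, 0] * rtS 2) * (cS ![0, 0, a] * rtS 0)).1.1 →
    a = 0 ∧ c = 0 := by decide +kernel

theorem root_rels : (rootA 0 * rootA 1).1 = (rootA 1 * rootA 0).1 ∧
    (rootA 0 * rootA 2).1 = (rootA 1 * rootA 2 * rootA 0).1 := by decide +kernel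

/-- Conjugators between roots. -/
def rootC : Fin 4 → M3 := ![1, 1, !![0, 0, 1; 1, 0, 0; 0, 1, 0], !![0, 0, 2; 0, 1, 0; 1, 0, 0]]

theorem rootC_facts : ∀ k, (rootC k).det = 1 ∧ (k = 2 ∨ k = 3 → rootC k * (rootA 0).1 = (rootA k).1 * rootC k) := by
  decide +kernel

/-- The swap of the middle indices. -/
def swapMid : Stab := mk4 !![1, 0, 0, 0; 0, 0, 1, 0; 0, 2, 0, 0; 0, 0, 0, 1]

theorem middle_shapes : ∀ b : ZMod 3, (cS ![b, 0, 0] * rtS 2).1.1 = tMat ![b, 1] ∧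
    swapMid.1.1 * (cS ![b, 0, 0] * rtS 3).1.1 = tMat ![b, 2] * swapMid.1.1 := by decide +kernel

theorem rtS_zero : rtS 0 = vS ![1, 0, 0] := Stab_ext (by decide +kernel)

theorem rtS_one : rtS 1 = vS ![0, 1, 0] := Stab_ext (by decide +kernel)

theorem cS_zero : cS 0 = 1 := Stab_ext (by decide +kernel)

theorem cS_neg (c : Fin 3 → ZMod 3) : cS (-c) = (cS c)⁻¹ :=
  eq_inv_of_mul_eq_one_left (by rw [← cS_add, neg_add_cancel, cS_zero])

theorem torus_shift : ∀ r p q q' : ZMod 3, q + 2 * q' = q' + 2 * q →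
    q = q' ∧ (![-r, -p, -q] : Fin 3 → ZMod 3) + -(dA0.1 *ᵥ ![-r, -p, -q]) = ![0, p, q] ∧
      (![-r, -p, -q] : Fin 3 → ZMod 3) + -(dA1.1 *ᵥ ![-r, -p, -q]) = ![r, 0, q'] := by decide +kernel

theorem torus_fix : ∀ c : Fin 3 → ZMod 3, (c + dA0.1 *ᵥ c = 0 → c = ![0, c 1, c 2]) ∧
    (c + dA1.1 *ᵥ c = 0 → c = ![c 0, 0, c 2]) := by decide +kernel

theorem torus_last : ∀ c0 c1 : Fin 3 → ZMod 3, c0 + dA0.1 *ᵥ c1 = c1 + dA1.1 *ᵥ c0 →
    c0 2 + 2 * c1 2 = c1 2 + 2 * c0 2 := by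
  intro c0 c1 h
  have := congrFun h 2
  simp [dA0, dA1, Matrix.mulVec, dotProduct, Fin.sum_univ_three] at this
  exact this

theorem el_up3_roots : (el 0 (up3 (upSL (1 : ZMod 3)))).1.1 = rootS 2 ∧
    (el 0 (up3 (loSL (1 : ZMod 3)))).1.1 = rootS 3 ∧ (dn3 (upSL (1 : ZMod 3))).1 = (rootA 2).1 ∧
    (dn3 (loSL (1 : ZMod 3))).1 = (rootA 3).1 := by decide +kernel

theorem sl2_gens : ∀ t : ZMod 3, ((upSL t).1 = 1 ∨ (upSL t).1 = (upSL (1 : ZMod 3)).1 ∨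
      (upSL t).1 = (upSL (1 : ZMod 3)).1 * (upSL (1 : ZMod 3)).1) ∧
    ((loSL t).1 = 1 ∨ (loSL t).1 = (loSL (1 : ZMod 3)).1 ∨
      (loSL t).1 = (loSL (1 : ZMod 3)).1 * (loSL (1 : ZMod 3)).1) := by decide +kernel

namespace Loc

variable {G : Type u} [Group G] [Finite G] {H : Hyp G} (L : Loc H)

/-- The second `SL(3, 3)`. -/
theorem exists_extension (hu : IsConj H.z (L.ι (rep 1))) :
    ∃ ψ : SL33 →* G, (∀ A c, ψ A * L.ι (cS c) * (ψ A)⁻¹ = L.ι (cS (A.1 *ᵥ c))) ∧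
      (∀ g : Matrix.SpecialLinearGroup (Fin 2) (ZMod 3), ψ (dn3 g) = L.ι (el 0 (up3 g))) ∧
      ψ (tvN 0 1 (by decide) 1) = L.ι (vS ![1, 0, 0]) ∧ ψ (tvN 0 2 (by decide) 1) = L.ι (vS ![0, 1, 0]) ∧
      ψ (dA0 * dA1) = L.ι (tI * tS) := by
  obtain ⟨ψ', hact, hself⟩ := L.exists_second hu
  -- translations
  have hshift : ∀ (A : SL33) (M : Stab), (∀ c, M * cS c = cS (A.1 *ᵥ c) * M) →
      ∃ a, L.ι M = L.ι (cS a) * ψ' A := by
    intro A M hM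
    obtain ⟨a, ha⟩ := hself (L.ι M * (ψ' A)⁻¹) fun c => by
      have h := hact A ((A⁻¹).1 *ᵥ c)
      rw [Matrix.mulVec_mulVec, show A.1 * (A⁻¹).1 = 1 from congrArg Subtype.val (mul_inv_cancel A),
        Matrix.one_mulVec] at h
      show _ = _
      have h2 : L.ι M * L.ι (cS ((A⁻¹).1 *ᵥ c)) = L.ι (cS c) * L.ι M := by
        rw [← map_mul, ← map_mul, hM, Matrix.mulVec_mulVec,
          show A.1 * (A⁻¹).1 = 1 from congrArg Subtype.val (mul_inv_cancel A), Matrix.one_mulVec]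
      calc L.ι M * (ψ' A)⁻¹ * L.ι (cS c) = L.ι M * L.ι (cS ((A⁻¹).1 *ᵥ c)) * (ψ' A)⁻¹ := by rw [← h]; group
        _ = L.ι (cS c) * (L.ι M * (ψ' A)⁻¹) := by rw [h2, mul_assoc]
    exact ⟨a, by rw [ha, inv_mul_cancel_right]⟩
  obtain ⟨c0, hc0⟩ := hshift dA0 tI fun c => Stab_ext (act_tI c)
  obtain ⟨c1, hc1⟩ := hshift dA1 tS fun c => Stab_ext (act_tS c)
  have hψc : ∀ A c, ψ' A * L.ι (cS c) = L.ι (cS (A.1 *ᵥ c)) * ψ' A := fun A c => by
    rw [← hact, inv_mul_cancel_right]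
  have hprod : ∀ (A B : SL33) a b, L.ι (cS a) * ψ' A * (L.ι (cS b) * ψ' B) =
      L.ι (cS (a + A.1 *ᵥ b)) * ψ' (A * B) := fun A B a b => by
    rw [cS_add, map_mul, map_mul]
    calc L.ι (cS a) * ψ' A * (L.ι (cS b) * ψ' B) = L.ι (cS a) * (ψ' A * L.ι (cS b)) * ψ' B := by group
      _ = _ := by rw [hψc]; group
  have hcancel : ∀ a b (A : SL33), L.ι (cS a) * ψ' A = L.ι (cS b) * ψ' A → a = b := fun a b A h =>
    cS_inj (L.inj (mul_right_cancel h))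
  have hone : ∀ (A : SL33) a b, A * A = 1 → L.ι (cS a) * ψ' A * (L.ι (cS b) * ψ' A) = 1 →
      a + A.1 *ᵥ b = 0 := fun A a b hA h => by
    rw [hprod, hA, map_one, mul_one, map_eq_one_iff L.ι L.inj] at h
    exact cS_inj (h.trans cS_zero.symm)
  have h00 : c0 + dA0.1 *ᵥ c0 = 0 := hone _ _ _ dA_facts.1 (by rw [← hc0, ← map_mul, tI_sq, map_one])
  have h11 : c1 + dA1.1 *ᵥ c1 = 0 := hone _ _ _ dA_facts.2.1 (by rw [← hc1, ← map_mul, tS_sq, map_one])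
  have h01 : c0 + dA0.1 *ᵥ c1 = c1 + dA1.1 *ᵥ c0 := hcancel _ _ (dA0 * dA1) (by
    rw [← hprod, ← hc0, ← hc1, dA_facts.2.2, ← hprod, ← hc0, ← hc1, ← map_mul, ← map_mul]
    exact congrArg L.ι (Stab_ext tI_tS))
  set v : Fin 3 → ZMod 3 := ![-c1 0, -c0 1, -c0 2]
  obtain ⟨-, ts0, ts1⟩ := torus_shift (c1 0) (c0 1) (c0 2) (c1 2) (torus_last c0 c1 h01)
  rw [← (torus_fix c0).1 h00] at ts0
  rw [← (torus_fix c1).2 h11] at ts1
  let ψ : SL33 →* G := (MulAut.conj (L.ι (cS v))).toMonoidHom.comp ψ'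
  have hψ : ∀ A, ψ A = L.ι (cS (v + -(A.1 *ᵥ v))) * ψ' A := fun A => by
    show L.ι (cS v) * ψ' A * (L.ι (cS v))⁻¹ = _
    rw [← map_inv, ← cS_neg, mul_assoc, hψc, Matrix.mulVec_neg, cS_add, map_mul, mul_assoc]
  have hψact : ∀ A c, ψ A * L.ι (cS c) * (ψ A)⁻¹ = L.ι (cS (A.1 *ᵥ c)) := fun A c => by
    have hcm : ∀ x y, L.ι (cS x) * L.ι (cS y) * (L.ι (cS x))⁻¹ = L.ι (cS y) := fun x y => by
      rw [← map_mul, ← cS_add, add_comm, cS_add, map_mul, mul_inv_cancel_right]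
    rw [hψ]
    calc _ = L.ι (cS (v + -(A.1 *ᵥ v))) * (ψ' A * L.ι (cS c) * (ψ' A)⁻¹) * (L.ι (cS (v + -(A.1 *ᵥ v))))⁻¹ := by group
      _ = _ := by rw [hact, hcm]
  have hd0 : ψ dA0 = L.ι tI := by rw [hψ, ts0, hc0]
  have hd1 : ψ dA1 = L.ι tS := by rw [hψ, ts1, hc1]
  -- the roots
  have hroot : ∀ k : Fin 4, ∃ a, ψ (rootA k) = L.ι (cS a * rtS k) ∧ (rootT k).1.1 *ᵥ a = a := by
    intro k
    obtain ⟨a, ha⟩ := hshift (rootA k) (rtS k) fun c => by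
      obtain ⟨e, r1, r2, r3⟩ := rootA_act k c
      rw [cS_conj r1 r2 r3, e]
    have he : ψ (rootA k) = L.ι (cS (v + -((rootA k).1 *ᵥ v) + -a) * rtS k) := by
      rw [hψ, cS_add _ (-a), map_mul, map_mul, ha, cS_neg, map_inv, mul_assoc, inv_mul_cancel_left]
    refine ⟨_, he, ?_⟩
    set b := v + -((rootA k).1 *ᵥ v) + -a
    have hT : ψ (rootT k).1 = L.ι (rootT k).2 := by
      fin_cases k <;> simp [rootT, hd0, hd1, map_mul]
    have h := congrArg ψ (show (rootT k).1 * rootA k = rootA k * (rootT k).1 from Subtype.ext (rootT_facts k).1)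
    rw [map_mul, map_mul, hT, he, ← map_mul, ← map_mul] at h
    have h' := L.inj h
    rw [← mul_assoc, show (rootT k).2 * cS b = cS ((rootT k).1.1 *ᵥ b) * (rootT k).2 from Stab_ext (rootT_act k b),
      mul_assoc, show (rootT k).2 * rtS k = rtS k * (rootT k).2 from Stab_ext (rootT_facts k).2, ← mul_assoc] at h'
    exact cS_inj (mul_right_cancel (mul_right_cancel h'))
  obtain ⟨a, ha, ha'⟩ := hroot 0
  obtain ⟨c, hc, hc'⟩ := hroot 1
  obtain ⟨b, hb, hb'⟩ := hroot 2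
  obtain ⟨b2, hb2, hb2'⟩ := hroot 3
  rw [(rootT_fixed a).1 ha'] at ha
  rw [(rootT_fixed c).2.1 hc'] at hc
  rw [(rootT_fixed b).2.2 hb'] at hb
  rw [(rootT_fixed b2).2.2 hb2'] at hb2
  have hr1 := congrArg ψ (show rootA 0 * rootA 1 = rootA 1 * rootA 0 from Subtype.ext root_rels.1)
  have hr2 := congrArg ψ (show rootA 0 * rootA 2 = rootA 1 * rootA 2 * rootA 0 from Subtype.ext root_rels.2)
  rw [map_mul, map_mul, ha, hc, ← map_mul, ← map_mul] at hr1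
  rw [map_mul, map_mul, map_mul, ha, hc, hb, ← map_mul, ← map_mul, ← map_mul] at hr2
  obtain ⟨ha0, hc0'⟩ := relations_force (a 2) (b 0) (c 1) (congrArg (fun M : Stab => M.1.1) (L.inj hr1))
    (congrArg (fun M : Stab => M.1.1) (L.inj hr2))
  have hzero : (![0, 0, 0] : Fin 3 → ZMod 3) = 0 := by funext i; fin_cases i <;> rfl
  rw [ha0, hzero, cS_zero, one_mul] at ha
  rw [hc0', hzero, cS_zero, one_mul] at hc
  -- the middle roots are conjugates of `z`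
  have hz0 : IsConj H.z (ψ (rootA 0)) := by
    rw [ha, rtS_zero, ← L.z_eq]
    obtain ⟨M, hM⟩ := vS_trans (v := ![1, 0, 0]) (by decide)
    exact L.ι_conj (isConj_iff.2 ⟨M, hM⟩)
  have hzk : ∀ k : Fin 4, k = 2 ∨ k = 3 → IsConj H.z (ψ (rootA k)) := fun k hk => by
    obtain ⟨Cc, hCc⟩ : ∃ Cc : SL33, Cc.1 = rootC k := ⟨⟨rootC k, (rootC_facts k).1⟩, rfl⟩
    refine hz0.trans (MonoidHom.map_isConj ψ (isConj_iff.2 ⟨Cc, ?_⟩))
    rw [mul_inv_eq_iff_eq_mul]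
    refine Subtype.ext ?_
    show Cc.1 * (rootA 0).1 = (rootA k).1 * Cc.1
    rw [hCc]
    exact (rootC_facts k).2 hk
  have hzi : IsConj H.z H.z⁻¹ := by
    obtain ⟨M, hM⟩ := vS_trans (v := -![0, 0, 1]) (by decide)
    rw [← L.z_eq, ← map_inv, zS, ← vS_neg]
    exact L.ι_conj (isConj_iff.2 ⟨M, hM⟩)
  have hnot : ∀ w : Fin 2 → ZMod 3, w 0 ≠ 0 → w 1 ≠ 0 → ¬ IsConj H.z (L.ι (tEl w)) := by
    have hbase : ∀ w : Fin 2 → ZMod 3, w = ![1, 1] ∨ w = ![1, 2] → ¬ IsConj H.z (L.ι (tEl w)) := by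
      rintro w (rfl | rfl) h
      · refine L.not_conj_mid 3 (Or.inr (Or.inl rfl)) (h.trans (L.ι_conj (isConj_iff.2 ⟨tPerm, ?_⟩)).symm)
        rw [mul_inv_eq_iff_eq_mul]; exact Stab_ext tPerm_facts.1
      · refine L.not_conj_mid 2 (Or.inl rfl) (h.trans (L.ι_conj (isConj_iff.2 ⟨tPerm, ?_⟩)).symm)
        rw [mul_inv_eq_iff_eq_mul]; exact Stab_ext tPerm_facts.2
    intro w h0 h1 h
    have key : ∀ w : Fin 2 → ZMod 3, w 0 ≠ 0 → w 1 ≠ 0 → w = ![1, 1] ∨ w = ![1, 2] ∨ -w = ![1, 1] ∨ -w = ![1, 2] := by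
      decide +kernel
    have hneg : IsConj H.z (L.ι (tEl (-w))) := by
      obtain ⟨g, hg⟩ := isConj_iff.1 h
      have e : tEl (-w) = (tEl w)⁻¹ := eq_inv_of_mul_eq_one_left (by
        rw [tEl_mul, neg_add_cancel]; exact Stab_ext (by decide +kernel))
      refine hzi.trans (isConj_iff.2 ⟨g, ?_⟩)
      rw [e, map_inv, ← hg]; group
    rcases key w h0 h1 with e | e | e | e
    · exact hbase w (Or.inl e) h
    · exact hbase w (Or.inr e) h
    · exact hbase _ (Or.inl e) hneg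
    · exact hbase _ (Or.inr e) hneg
  have hb0 : b 0 = 0 := by
    by_contra hne
    have h := hzk 2 (Or.inl rfl)
    rw [hb, show cS ![b 0, 0, 0] * rtS 2 = tEl ![b 0, 1] from Stab_ext (middle_shapes (b 0)).1] at h
    exact hnot _ hne (by simp) h
  have hb20 : b2 0 = 0 := by
    by_contra hne
    have h := hzk 3 (Or.inr rfl)
    rw [hb2] at h
    refine hnot ![b2 0, 2] hne (by simp; decide) (h.trans (L.ι_conj (isConj_iff.2 ⟨swapMid, ?_⟩)))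
    rw [mul_inv_eq_iff_eq_mul]
    exact Stab_ext (middle_shapes (b2 0)).2
  rw [hb0, hzero, cS_zero, one_mul] at hb
  rw [hb20, hzero, cS_zero, one_mul] at hb2
  refine ⟨ψ, hψact, ?_, by rw [← rtS_zero]; exact ha, by rw [← rtS_one]; exact hc,
    by rw [map_mul, hd0, hd1, map_mul]⟩
  let f1 : Matrix.SpecialLinearGroup (Fin 2) (ZMod 3) →* G := ψ.comp dn3
  let elh : SL33 →* Stab := MonoidHom.mk' (fun A => el 0 A) fun A B => by
    rw [el_mul, Matrix.zero_vecMul, add_zero]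
  let f2 : Matrix.SpecialLinearGroup (Fin 2) (ZMod 3) →* G := (L.ι.comp elh).comp up3
  have e1 : f1 (upSL 1) = f2 (upSL 1) := by
    show ψ (dn3 (upSL 1)) = L.ι (el 0 (up3 (upSL 1)))
    rw [show dn3 (upSL (1 : ZMod 3)) = rootA 2 from Subtype.ext el_up3_roots.2.2.1, hb]
    exact congrArg L.ι (Stab_ext el_up3_roots.1).symm
  have e2 : f1 (loSL 1) = f2 (loSL 1) := by
    show ψ (dn3 (loSL 1)) = L.ι (el 0 (up3 (loSL 1)))
    rw [show dn3 (loSL (1 : ZMod 3)) = rootA 3 from Subtype.ext el_up3_roots.2.2.2, hb2]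
    exact congrArg L.ι (Stab_ext el_up3_roots.2.1).symm
  have heq : f1 = f2 := by
    refine hom_ext2 (fun t => ?_) (fun t => ?_)
    · rcases (sl2_gens t).1 with e | e | e
      · rw [show upSL t = 1 from Subtype.ext e, map_one, map_one]
      · rw [show upSL t = upSL 1 from Subtype.ext e, e1]
      · rw [show upSL t = upSL 1 * upSL 1 from Subtype.ext e, map_mul, map_mul, e1]
    · rcases (sl2_gens t).2 with e | e | e
      · rw [show loSL t = 1 from Subtype.ext e, map_one, map_one]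
      · rw [show loSL t = loSL 1 from Subtype.ext e, e2]
      · rw [show loSL t = loSL 1 * loSL 1 from Subtype.ext e, map_mul, map_mul, e2]
  exact fun g => DFunLike.congr_fun heq g

end Loc

end Cfsg.Agent.Spor.L43Three
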