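import Cfsg.Agent.Lib.Spor.L43Three.Two.CentTwo
import Cfsg.Agent.Lib.Spor.L43Three.Count

/-!
In the second case the subgroup isomorphic to `PSL(4, 3)` is the whole group.
-/

set_option autoImplicit false
set_option linter.unusedSectionVars false
set_option linter.style.haveILetI false
set_option maxRecDepth 100000
set_option maxHeartbeats 1000000

namespace Cfsg.Agent.Spor.L43Three

open Subgroup Matrix

universe u

/-- A square root of minus one. -/
def jFour : M4 := !![0, 2, 0, 0; 1, 0, 0, 0; 0, 0, 0, 2; 0, 0, 1, 0]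

/-- An element of order five commuting with it. -/
def yFive : M4 := !![0, 0, 0, 2; 0, 0, 1, 0; 0, 2, 1, 2; 1, 0, 1, 1]

theorem five_facts : jFour * yFive = yFive * jFour ∧ yFive.det = 1 ∧
    yFive * yFive * yFive * yFive * yFive = 1 ∧ yFive ≠ 1 ∧ yFive ≠ -1 := by decide +kernel

/-- A matrix with given first column. -/
def colFour (v : Fin 4 → ZMod 3) : M4 :=
  if v 0 ≠ 0 then !![v 0, 0, 0, 0; v 1, v 0, 0, 0; v 2, 0, 1, 0; v 3, 0, 0, 1]
  else if v 1 ≠ 0 then !![0, -v 1, 0, 0; v 1, 0, 0, 0; v 2, 0, 1, 0; v 3, 0, 0, 1]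
  else if v 2 ≠ 0 then !![0, 0, -v 2, 0; 0, 1, 0, 0; v 2, 0, 0, 0; v 3, 0, 0, 1]
  else !![0, 0, 0, -v 3; 0, 1, 0, 0; 0, 0, 1, 0; v 3, 0, 0, 0]

theorem colFour_spec : ∀ v : Fin 4 → ZMod 3, v ≠ 0 → (colFour v).det = 1 ∧ ∀ i, colFour v i 0 = v i := by
  decide +kernel

theorem exp_blk : ∀ a b c d : ZMod 3, a * d - b * c = 1 →
    (m2 a b c d * m2 a b c d * (m2 a b c d * m2 a b c d)) * (m2 a b c d * m2 a b c d * (m2 a b c d * m2 a b c d)) *
      (m2 a b c d * m2 a b c d * (m2 a b c d * m2 a b c d)) = 1 := by decide +kernel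

theorem exp_mat {A : Mat2} (h : A.det = 1) : A ^ 12 = 1 := by
  obtain ⟨a, b, c, d, rfl⟩ := m2_surj A
  rw [det_m2] at h
  have e := exp_blk a b c d h
  rw [show (12 : ℕ) = 4 + 4 + 4 by norm_num, pow_add, pow_add,
    show m2 a b c d ^ 4 = m2 a b c d * m2 a b c d * (m2 a b c d * m2 a b c d) by
      rw [show (4 : ℕ) = 2 + 2 by norm_num, pow_add, pow_two]]
  exact e

theorem Shape.sq {X : M4} {A B : Mat2} (h : Shape X A B) (hd : A.det * B.det = 1) :
    ∃ P Q : Mat2, P.det = 1 ∧ Q.det = 1 ∧ X * X = dg P Q := by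
  have key : ∀ a b : ZMod 3, a * b = 1 → a * a = 1 ∧ b * b = 1 ∧ b * a = 1 := by decide
  obtain ⟨k1, k2, k3⟩ := key _ _ hd
  rcases h with h | h <;> rw [h]
  · exact ⟨_, _, by rw [det_mul]; exact k1, by rw [det_mul]; exact k2, dg_dg A B A B⟩
  · exact ⟨_, _, by rw [det_mul]; exact hd, by rw [det_mul]; exact k3, ad_ad A B A B⟩

theorem dg_pow (P Q : Mat2) : ∀ n : ℕ, dg P Q ^ n = dg (P ^ n) (Q ^ n)
  | 0 => by rw [pow_zero, pow_zero, pow_zero, dg_one]
  | n + 1 => by rw [pow_succ, dg_pow P Q n, dg_dg, pow_succ, pow_succ]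

/-- The determinant of a two by two matrix given by its entries. -/
def det2 (p : Fin 4 → ZMod 3) : ZMod 3 := p 0 * p 3 - p 1 * p 2

theorem card_pairs : (Finset.univ.filter fun p : Bool × (Fin 4 → ZMod 3) × (Fin 4 → ZMod 3) =>
    det2 p.2.1 * det2 p.2.2 = 1).card = 2304 := by decide +kernel

/-- The entries of a two by two matrix. -/
def ent (A : Mat2) : Fin 4 → ZMod 3 := ![A 0 0, A 0 1, A 1 0, A 1 1]

theorem det2_ent (A : Mat2) : det2 (ent A) = A.det := by
  rw [Matrix.det_fin_two]; rfl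

theorem ent_inj {A B : Mat2} (h : ent A = ent B) : A = B := by
  ext i j
  fin_cases i <;> fin_cases j
  · exact congrFun h 0
  · exact congrFun h 1
  · exact congrFun h 2
  · exact congrFun h 3

namespace Full

variable {G : Type u} [Group G] [Finite G] (E : Full G)

theorem card_cent_le : Nat.card (centralizer ({E.ι tI} : Set G)) * 2 ≤ 2304 := by
  classical
  have hsh := fun g : centralizer ({E.ι tI} : Set G) =>
    E.shape_of_mem (E.cent_tI (mem_centralizer_singleton_iff.1 g.2)) (mem_centralizer_singleton_iff.1 g.2)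
  choose X A B hX hS hd using hsh
  let S := Finset.univ.filter fun p : Bool × (Fin 4 → ZMod 3) × (Fin 4 → ZMod 3) => det2 p.2.1 * det2 p.2.2 = 1
  let f : centralizer ({E.ι tI} : Set G) × Fin 2 → Bool × (Fin 4 → ZMod 3) × (Fin 4 → ZMod 3) := fun q =>
    (decide ((X q.1).1 = dg (A q.1) (B q.1)),
      ent (if q.2 = 0 then A q.1 else -A q.1), ent (if q.2 = 0 then B q.1 else -B q.1))
  have hf : ∀ q, f q ∈ S := fun q => Finset.mem_filter.2 ⟨Finset.mem_univ _, by
    show det2 (ent _) * det2 (ent _) = 1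
    rw [det2_ent, det2_ent]
    split_ifs
    · exact hd q.1
    · rw [det_neg, det_neg, Fintype.card_fin]; linear_combination hd q.1⟩
  have hmat : ∀ q, (if q.2 = 0 then (X q.1).1 else -(X q.1).1) =
      (if (f q).1 = true then dg (if q.2 = 0 then A q.1 else -A q.1) (if q.2 = 0 then B q.1 else -B q.1)
        else ad (if q.2 = 0 then A q.1 else -A q.1) (if q.2 = 0 then B q.1 else -B q.1)) := by
    intro q
    by_cases h : (X q.1).1 = dg (A q.1) (B q.1)
    · simp only [f, decide_eq_true_eq, if_pos h]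
      split_ifs
      · exact h
      · rw [h, dg_neg]
    · simp only [f, decide_eq_true_eq, if_neg h]
      have h' := (hS q.1).resolve_left h
      split_ifs
      · exact h'
      · rw [h', ad_neg]
  have hinj : Function.Injective f := by
    intro q r h
    have e := hmat q
    rw [h, ent_inj (congrArg (fun p => p.2.1) h : _), ent_inj (congrArg (fun p => p.2.2) h : _), ← hmat r] at e
    obtain ⟨g, i⟩ := q
    obtain ⟨g', i'⟩ := r
    have hg : g = g' := Subtype.ext (by
      rw [← hX g, ← hX g', E.F_eq]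
      dsimp only at e
      split_ifs at e with h1 h2
      · exact Or.inl e
      · exact Or.inr e
      · exact Or.inr (neg_eq_iff_eq_neg.1 e)
      · exact Or.inl (neg_inj.1 e))
    subst hg
    have hne : (X g).1 ≠ -(X g).1 := fun hh => by
      have key : ∀ x : ZMod 3, x = -x → x = 0 := by decide
      have h0 : (X g).1 = 0 := by ext a b; exact key _ (congrFun (congrFun hh a) b)
      have := (X g).2
      rw [h0, Matrix.det_zero] at this
      exact zero_ne_one this
    refine Prod.ext rfl ?_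
    show i = i'
    fin_cases i <;> fin_cases i' <;> simp at e ⊢
    · exact hne e
    · exact hne e.symm
  have hle : Nat.card (centralizer ({E.ι tI} : Set G) × Fin 2) ≤ Nat.card S :=
    Nat.card_le_card_of_injective (fun q => (⟨f q, hf q⟩ : S)) fun q r h => hinj (congrArg Subtype.val h)
  rw [Nat.card_prod, Nat.card_eq_finsetCard, card_pairs, Nat.card_eq_fintype_card (α := Fin 2), Fintype.card_fin] at hle
  exact hle

theorem cent_exp {g : G} (hg : Commute g (E.ι tI)) : g ^ 24 = 1 := by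
  obtain ⟨X, A, B, rfl, hS, hd⟩ := E.shape_of_mem (E.cent_tI hg) hg
  obtain ⟨P, Q, hP, hQ, h⟩ := hS.sq hd
  rw [show (24 : ℕ) = 2 * 12 by norm_num, pow_mul, pow_two, ← map_mul, ← map_pow, ← map_one E.F, E.F_eq]
  left
  show ((X * X) ^ 12).1 = (1 : M4)
  rw [show ((X * X) ^ 12).1 = (X.1 * X.1) ^ 12 from rfl, h, dg_pow, exp_mat hP, exp_mat hQ, dg_one]

/-- Involutions of `R` are conjugate to `t` in `R` or centralise an element of order five. -/
theorem invol_cases {r : G} (hr : r ∈ E.R) (h2 : r * r = 1) (h1 : r ≠ 1) :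
    (∃ c ∈ E.R, c * E.ι tI * c⁻¹ = r) ∨ ∃ y ∈ E.R, y ^ 5 = 1 ∧ y ≠ 1 ∧ Commute r y := by
  obtain ⟨X, rfl⟩ := E.F_surj hr
  have hX1 : X.1 ≠ 1 ∧ X.1 ≠ -1 := by
    refine ⟨fun h => h1 ?_, fun h => h1 ?_⟩
    · rw [← map_one E.F, E.F_eq]; exact Or.inl h
    · rw [← map_one E.F, E.F_eq]; exact Or.inr h
  have hsq : X.1 * X.1 = 1 ∨ X.1 * X.1 = -1 := by
    rw [← map_mul, ← map_one E.F, E.F_eq] at h2
    exact h2
  rcases hsq with hsq | hsq
  · left
    obtain ⟨w, hw⟩ : ∃ w : Fin 4 → ZMod 3, X.1 *ᵥ w + w ≠ 0 := by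
      by_contra hcon
      push Not at hcon
      refine hX1.2 (Matrix.toLin'.injective (LinearMap.ext fun w => ?_))
      rw [Matrix.toLin'_apply, Matrix.toLin'_apply, Matrix.neg_mulVec, Matrix.one_mulVec]
      exact eq_neg_of_add_eq_zero_left (hcon w)
    set v := X.1 *ᵥ w + w
    have hv : X.1 *ᵥ v = v := by
      show X.1 *ᵥ (X.1 *ᵥ w + w) = v
      rw [Matrix.mulVec_add, Matrix.mulVec_mulVec, hsq, Matrix.one_mulVec, add_comm]
    obtain ⟨hd, hcol⟩ := colFour_spec v hw
    let c : SL44 := ⟨colFour v, hd⟩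
    have hcv : c.1 *ᵥ Pi.single 0 1 = v := by
      funext i
      rw [Matrix.mulVec_single_one]
      exact hcol i
    have hfix : ((c⁻¹ * X * c : SL44)).1 *ᵥ Pi.single 0 1 = Pi.single 0 1 := by
      show ((c⁻¹).1 * X.1 * c.1) *ᵥ _ = _
      rw [← Matrix.mulVec_mulVec, hcv, ← Matrix.mulVec_mulVec, hv, ← hcv, Matrix.mulVec_mulVec,
        show (c⁻¹).1 * c.1 = 1 from congrArg (fun Z : SL44 => Z.1) (inv_mul_cancel c), Matrix.one_mulVec]
    have hmem : c⁻¹ * X * c ∈ Stab := fun i => by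
      have := congrFun hfix i
      rw [Matrix.mulVec_single_one] at this
      rw [show (c⁻¹ * X * c : SL44).1 i 0 = (Pi.single 0 1 : Fin 4 → ZMod 3) i from this, Pi.single_apply]
    have hXX : X * X = 1 := Subtype.ext hsq
    have hM2 : (⟨_, hmem⟩ : Stab) * ⟨_, hmem⟩ = 1 := Subtype.ext (by
      show c⁻¹ * X * c * (c⁻¹ * X * c) = 1
      calc c⁻¹ * X * c * (c⁻¹ * X * c) = c⁻¹ * (X * X) * c := by group
        _ = 1 := by rw [hXX]; group)
    have hM1 : (⟨_, hmem⟩ : Stab) ≠ 1 := fun e => hX1.1 (by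
      have e' : c⁻¹ * X * c = 1 := congrArg Subtype.val e
      have : X = 1 := by
        calc X = c * (c⁻¹ * X * c) * c⁻¹ := by group
          _ = 1 := by rw [e']; group
      rw [this]; rfl)
    obtain ⟨d, hd'⟩ := isConj_iff.1 (conj_tI hM2 hM1)
    refine ⟨E.F c * E.ι d, mul_mem (E.F_mem c) (E.le ⟨d, rfl⟩), ?_⟩
    calc E.F c * E.ι d * E.ι tI * (E.F c * E.ι d)⁻¹ = E.F c * E.ι (d * tI * d⁻¹) * (E.F c)⁻¹ := by
          rw [map_mul, map_mul, map_inv]; group
      _ = E.F c * E.F (c⁻¹ * X * c) * (E.F c)⁻¹ := by rw [hd', ← E.F_ι]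
      _ = E.F X := by rw [map_mul, map_mul, map_inv]; group
  · right
    -- a basis adapted to the square root of minus one
    have hXv : ∀ u, X.1 *ᵥ (X.1 *ᵥ u) = -u := fun u => by
      rw [Matrix.mulVec_mulVec, hsq, Matrix.neg_mulVec, Matrix.one_mulVec]
    set v : Fin 4 → ZMod 3 := Pi.single 0 1
    obtain ⟨w, hw⟩ : ∃ w : Fin 4 → ZMod 3, ∀ a b : ZMod 3, w ≠ a • v + b • (X.1 *ᵥ v) := by
      by_contra hcon
      push Not at hcon
      choose a b hab using hcon
      have hle : Nat.card (Fin 4 → ZMod 3) ≤ Nat.card (ZMod 3 × ZMod 3) :=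
        Nat.card_le_card_of_injective (fun w => (a w, b w)) fun w w' h => by
          rw [hab w, hab w', (Prod.mk.inj h).1, (Prod.mk.inj h).2]
      rw [Nat.card_fun, Nat.card_prod, Nat.card_zmod, Nat.card_eq_fintype_card (α := Fin 4), Fintype.card_fin] at hle
      norm_num at hle
    set x := X.1 *ᵥ v with hx
    set z := X.1 *ᵥ w with hz
    let g : M4 := Matrix.of fun i j => ![v i, x i, w i, z i] j
    have hg : g.det ≠ 0 := by
      intro h0
      obtain ⟨u, hu, hgu⟩ := Matrix.exists_mulVec_eq_zero_iff.2 h0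
      have e1 : u 0 • v + u 1 • x + u 2 • w + u 3 • z = 0 := by
        rw [← hgu]; funext i
        simp only [g, Matrix.mulVec, dotProduct, Fin.sum_univ_four, Matrix.of_apply, Pi.add_apply, Pi.smul_apply, smul_eq_mul]
        simp; ring
      have e2 : -(u 1 • v) + u 0 • x + -(u 3 • w) + u 2 • z = 0 := by
        have := congrArg (X.1 *ᵥ ·) e1
        simp only [Matrix.mulVec_add, Matrix.mulVec_smul, Matrix.mulVec_zero, ← hx, ← hz] at this
        rw [hx, hz, hXv, hXv, smul_neg, smul_neg] at this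
        rw [hx, hz, ← this]; abel
      have key : ∀ p q : ZMod 3, p * p + q * q = 0 → p = 0 ∧ q = 0 := by decide
      have hcd : u 2 = 0 ∧ u 3 = 0 := by
        by_contra hne
        have key2 : ∀ s : ZMod 3, s ≠ 0 → s * s = 1 := by decide
        obtain ⟨s, hs⟩ : ∃ s, s = u 2 * u 2 + u 3 * u 3 := ⟨_, rfl⟩
        have hss : s * s = 1 := key2 s fun e => hne (key _ _ (hs ▸ e))
        refine hw (-(s * (u 2 * u 0 + u 3 * u 1))) (-(s * (u 2 * u 1 - u 3 * u 0))) (funext fun i => ?_)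
        have a1 := congrFun e1 i
        have a2 := congrFun e2 i
        simp only [Pi.add_apply, Pi.smul_apply, Pi.neg_apply, Pi.zero_apply, smul_eq_mul] at a1 a2 ⊢
        linear_combination s * (u 2 * a1 - u 3 * a2) - w i * hss + s * w i * hs
      have hab : u 0 = 0 ∧ u 1 = 0 := by
        refine key _ _ ?_
        have a1 := congrFun e1 0
        have a2 := congrFun e2 0
        have hv0 : v 0 = 1 := Pi.single_eq_same 0 1
        simp only [Pi.add_apply, Pi.smul_apply, Pi.neg_apply, Pi.zero_apply, smul_eq_mul, hcd.1, hcd.2, hv0] at a1 a2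
        linear_combination u 0 * a1 - u 1 * a2
      refine hu (funext fun i => ?_)
      fin_cases i
      exacts [hab.1, hab.2, hcd.1, hcd.2]
    have hgj : X.1 * g = g * jFour := by
      ext i j
      have hv' := congrFun (hXv v) i
      have hw' := congrFun (hXv w) i
      rw [← hx, Pi.neg_apply] at hv'
      rw [← hz, Pi.neg_apply] at hw'
      have hdot : ∀ u : Fin 4 → ZMod 3, (X.1 *ᵥ u) i = X.1 i 0 * u 0 + X.1 i 1 * u 1 + X.1 i 2 * u 2 + X.1 i 3 * u 3 :=
        fun u => by simp [Matrix.mulVec, dotProduct, Fin.sum_univ_four]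
      rw [hdot] at hv' hw'
      have hxi := congrFun hx i
      have hzi := congrFun hz i
      rw [hdot] at hxi hzi
      have two : (2 : ZMod 3) = -1 := by decide
      fin_cases j <;> simp [g, jFour, Matrix.mul_apply, Fin.sum_univ_four, two]
      · exact hxi.symm
      · exact hv'
      · exact hzi.symm
      · exact hw'
    have hu' : IsUnit g.det := isUnit_iff_ne_zero.2 hg
    obtain ⟨hjy, hyd, hy5, hy1, hy1'⟩ := five_facts
    have hdet : (g * yFive * g⁻¹).det = 1 := by
      rw [det_mul, det_mul, hyd, mul_one, ← det_mul, Matrix.mul_nonsing_inv g hu', det_one]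
    let Y : SL44 := ⟨g * yFive * g⁻¹, hdet⟩
    have hback : ∀ {U V : M4}, g * U * g⁻¹ = V → U = g⁻¹ * V * g := fun h => by
      rw [← h, ← Matrix.mul_assoc, ← Matrix.mul_assoc, Matrix.nonsing_inv_mul g hu', Matrix.one_mul,
        Matrix.mul_assoc, Matrix.nonsing_inv_mul g hu', Matrix.mul_one]
    refine ⟨E.F Y, E.F_mem Y, ?_, ?_, ?_⟩
    · rw [← map_pow, ← map_one E.F, E.F_eq]
      left
      show (Y ^ 5).1 = (1 : M4)
      rw [show (Y ^ 5).1 = Y.1 ^ 5 from rfl]
      show (g * yFive * g⁻¹) ^ 5 = 1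
      simp only [pow_succ, pow_zero, Matrix.one_mul]
      have hgg : ∀ U : M4, g⁻¹ * (g * U) = U := fun U => by
        rw [← Matrix.mul_assoc, Matrix.nonsing_inv_mul g hu', Matrix.one_mul]
      simp only [Matrix.mul_assoc, hgg]
      rw [← Matrix.mul_assoc yFive, ← Matrix.mul_assoc (yFive * yFive), ← Matrix.mul_assoc (yFive * yFive * yFive),
        ← Matrix.mul_assoc (yFive * yFive * yFive * yFive), hy5, Matrix.one_mul, Matrix.mul_nonsing_inv g hu']
    · intro h
      rw [← map_one E.F, E.F_eq] at h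
      rcases h with h | h
      · exact hy1 (by
          rw [hback (show g * yFive * g⁻¹ = 1 from h), Matrix.mul_one, Matrix.nonsing_inv_mul g hu'])
      · exact hy1' (by
          rw [hback (show g * yFive * g⁻¹ = -1 from h), Matrix.mul_neg, Matrix.mul_one, Matrix.neg_mul,
            Matrix.nonsing_inv_mul g hu'])
    · show _ = _
      rw [← map_mul, ← map_mul, E.F_eq]
      left
      show X.1 * (g * yFive * g⁻¹) = g * yFive * g⁻¹ * X.1
      have hj : jFour * g⁻¹ = g⁻¹ * X.1 := by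
        calc jFour * g⁻¹ = g⁻¹ * (g * jFour) * g⁻¹ := by
              rw [← Matrix.mul_assoc, Matrix.nonsing_inv_mul g hu', Matrix.one_mul]
          _ = g⁻¹ * X.1 := by rw [← hgj, Matrix.mul_assoc, Matrix.mul_assoc, Matrix.mul_nonsing_inv g hu', Matrix.mul_one]
      rw [← Matrix.mul_assoc, ← Matrix.mul_assoc, hgj, Matrix.mul_assoc g, hjy, ← Matrix.mul_assoc, Matrix.mul_assoc _ jFour,
        hj, ← Matrix.mul_assoc]

theorem fus_tI {g : G} (hg : g * E.ι tI * g⁻¹ ∈ E.R) : g ∈ E.R := by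
  have h2 : g * E.ι tI * g⁻¹ * (g * E.ι tI * g⁻¹) = 1 := by
    calc g * E.ι tI * g⁻¹ * (g * E.ι tI * g⁻¹) = g * (E.ι tI * E.ι tI) * g⁻¹ := by group
      _ = 1 := by rw [← map_mul, tI_sq, map_one]; group
  have h1 : g * E.ι tI * g⁻¹ ≠ 1 := fun e => tI_ne (E.inj ((conj_eq_one_iff.1 e).trans (map_one _).symm))
  rcases E.invol_cases hg h2 h1 with ⟨c, hc, hce⟩ | ⟨y, hy, hy5, hy1, hcom⟩
  · have h : c⁻¹ * g ∈ E.R := E.cent_tI (by
      show _ = _
      calc c⁻¹ * g * E.ι tI = c⁻¹ * (g * E.ι tI * g⁻¹) * g := by group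
        _ = c⁻¹ * (c * E.ι tI * c⁻¹) * g := by rw [hce]
        _ = E.ι tI * (c⁻¹ * g) := by group)
    have := mul_mem hc h
    rwa [mul_inv_cancel_left] at this
  · exfalso
    have hc : Commute (g⁻¹ * y * g) (E.ι tI) := by
      show _ = _
      calc g⁻¹ * y * g * E.ι tI = g⁻¹ * (y * (g * E.ι tI * g⁻¹)) * g := by group
        _ = g⁻¹ * (g * E.ι tI * g⁻¹ * y) * g := by rw [hcom.eq]
        _ = E.ι tI * (g⁻¹ * y * g) := by group
    have h24 := E.cent_exp hc
    have h5 : (g⁻¹ * y * g) ^ 5 = 1 := by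
      rw [show g⁻¹ * y * g = g⁻¹ * y * g⁻¹⁻¹ by rw [inv_inv], conj_pow, hy5]; group
    have h := pow_gcd_eq_one.2 ⟨h5, h24⟩
    rw [show Nat.gcd 5 24 = 1 from rfl, pow_one] at h
    refine hy1 ?_
    calc y = g * (g⁻¹ * y * g) * g⁻¹ := by group
      _ = 1 := by rw [h]; group

/-- The second case. -/
theorem R_eq_top : E.R = ⊤ := by
  have hcard : Nat.card E.R = 6065280 := by
    rw [E.R_eq, ← Nat.card_congr (MonoidHom.ofInjective E.f_inj).toEquiv, card_PSL44]
  refine eq_top_of_count E.R (E.ι tI) (E.le ⟨_, rfl⟩) (by rw [← map_mul, tI_sq, map_one]) (fun g => E.fus_tI) 4160 ?_ ?_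
  · have := E.card_cent_le
    rw [hcard]
    omega
  · intro j _ hjR
    set D := (E.R ⊓ E.R.map (MulAut.conj j).toMonoidHom : Subgroup G)
    have hback : ∀ d ∈ D, ∃ n ∈ E.R, j * n * j⁻¹ = d := fun d hd => hd.2
    have h3 : ¬ 3 ∣ Nat.card D := fun h => by
      haveI : Fact (Nat.Prime 3) := ⟨Nat.prime_three⟩
      obtain ⟨⟨d, hd⟩, ho⟩ := exists_prime_orderOf_dvd_card' 3 h
      rw [Subgroup.orderOf_mk] at ho
      obtain ⟨n, hn, hne⟩ := hback d hd
      refine hjR (E.strong hn ?_ (g := j) (hne ▸ hd.1))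
      rw [← ho, ← hne]; exact (MulEquiv.orderOf_eq (MulAut.conj j) n).symm
    have hdvd : Nat.card D ∣ 8320 := by
      have h := hcard ▸ Subgroup.card_dvd_of_le (inf_le_left : D ≤ E.R)
      have hc : (Nat.card D).Coprime 729 := by
        rw [show (729 : ℕ) = 3 ^ 6 by norm_num]
        exact ((Nat.prime_three.coprime_iff_not_dvd.2 h3).symm).pow_right 6
      exact hc.dvd_of_dvd_mul_left (show Nat.card D ∣ 729 * 8320 by norm_num; exact h)
    have hne : Nat.card D ≠ 8320 := by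
      intro hD
      haveI : Fact (Nat.Prime 2) := ⟨Nat.prime_two⟩
      obtain ⟨S, hS⟩ := Sylow.exists_subgroup_card_pow_prime 2 (n := 7) (show 2 ^ 7 ∣ Nat.card (D.subgroupOf E.R) by
        rw [Nat.card_congr (subgroupOfEquivOfLe (inf_le_left : D ≤ E.R)).toEquiv, hD]; norm_num)
      set T0 := S.map (D.subgroupOf E.R).subtype
      have hT0 : Nat.card T0 = 128 := by
        rw [card_map_of_injective (D.subgroupOf E.R).subtype_injective, hS]; norm_num
      let P : Sylow 2 E.R := (IsPGroup.of_card (p := 2) (n := 7) (G := T0) (by rw [hT0]; norm_num)).toSylow (by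
        have := T0.card_mul_index
        rw [hT0, hcard] at this
        rw [show T0.index = 47385 by omega]
        norm_num)
      have hto : E.ι tI * E.ι tI = 1 := by rw [← map_mul, tI_sq, map_one]
      obtain ⟨Q, hQ⟩ := (IsPGroup.of_card (p := 2) (n := 1) (G := zpowers (⟨E.ι tI, E.le ⟨_, rfl⟩⟩ : E.R)) (by
        rw [pow_one, Nat.card_zpowers, Subgroup.orderOf_mk,
          orderOf_eq_prime (by rw [pow_two, hto]) fun e => tI_ne (E.inj (e.trans (map_one _).symm))])).exists_le_sylow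
      obtain ⟨c, hc⟩ := MulAction.exists_smul_eq E.R Q P
      have hmem : c * ⟨E.ι tI, E.le ⟨_, rfl⟩⟩ * c⁻¹ ∈ (P : Subgroup E.R) := by
        rw [← hc, Sylow.coe_subgroup_smul]
        exact Subgroup.smul_mem_pointwise_smul _ (MulAut.conj c) _ (hQ (mem_zpowers _))
      obtain ⟨⟨d, hd⟩, -, hde⟩ := hmem
      have hd' : (c : G) * E.ι tI * (c : G)⁻¹ ∈ D := by
        have h : ((d : E.R) : G) ∈ D := hd
        rwa [show d = c * ⟨E.ι tI, E.le ⟨_, rfl⟩⟩ * c⁻¹ from hde] at h
      obtain ⟨n, hn, hne⟩ := hback _ hd'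
      refine hjR ?_
      have hg : (j⁻¹ * c) * E.ι tI * (j⁻¹ * (c : G))⁻¹ = n := by
        rw [show (j⁻¹ * c) * E.ι tI * (j⁻¹ * (c : G))⁻¹ = j⁻¹ * ((c : G) * E.ι tI * (c : G)⁻¹) * j by group, ← hne]
        group
      have := mul_mem (E.fus_tI (g := j⁻¹ * c) (hg ▸ hn)) (inv_mem c.2)
      rw [mul_inv_cancel_right] at this
      exact inv_mem_iff.1 this
    obtain ⟨k, hk⟩ := hdvd
    have hk2 : 2 ≤ k := by
      rcases k with _ | _ | k
      · rw [mul_zero] at hk; exact absurd hk (by norm_num)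
      · rw [zero_add, mul_one] at hk; exact absurd hk.symm hne
      · omega
    nlinarith

end Full

end Cfsg.Agent.Spor.L43Three
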