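import Cfsg.Agent.Lib.Spor.L43Three.Two.EmbTwo

/-!
Commutation in `PSL(4, 3)` lifted to `SL(4, 3)`, and the centraliser of `a`.
-/

set_option autoImplicit false
set_option linter.unusedSectionVars false
set_option maxRecDepth 10000

namespace Cfsg.Agent.Spor.L43Three

open Subgroup Matrix

universe u

/-- Commuting images of an element of cube one come from commuting elements. -/
theorem lift_comm {g a : SL44} (ha : a.1 * a.1 * a.1 = 1)
    (h : Commute (g : Matrix.ProjectiveSpecialLinearGroup (Fin 4) (ZMod 3))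
      (a : Matrix.ProjectiveSpecialLinearGroup (Fin 4) (ZMod 3))) : g.1 * a.1 = a.1 * g.1 := by
  have hm : (a * g)⁻¹ * (g * a) ∈ center SL44 := by
    refine (QuotientGroup.eq (s := center SL44)).1 ?_
    rw [QuotientGroup.mk_mul, QuotientGroup.mk_mul]
    exact h.eq.symm
  obtain ⟨r, hr4, hr⟩ := center_SL44.1 hm
  have he : g.1 * a.1 = a.1 * g.1 * Matrix.scalar (Fin 4) r := by
    rw [hr]
    exact congrArg (fun X : SL44 => X.1) (mul_inv_cancel_left (a * g) (g * a)).symm
  have key : ∀ r : ZMod 3, r ^ 4 = 1 → r = 1 ∨ r = 2 := by decide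
  rcases key r hr4 with rfl | rfl
  · rw [he, map_one, mul_one]
  · exfalso
    have hs : Matrix.scalar (Fin 4) (2 : ZMod 3) = -(1 : M4) := by
      rw [show (2 : ZMod 3) = -1 by decide, map_neg, map_one]
    rw [hs, mul_neg, mul_one] at he
    have e2 : g.1 * (a.1 * a.1) = a.1 * a.1 * g.1 := by
      rw [← mul_assoc, he, neg_mul, mul_assoc, he, mul_neg, neg_neg, ← mul_assoc]
    have h3 : g.1 * (a.1 * a.1 * a.1) = -(a.1 * a.1 * a.1 * g.1) := by
      rw [← mul_assoc g.1, e2, mul_assoc (a.1 * a.1) g.1, he, mul_neg, ← mul_assoc]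
    rw [ha, mul_one, one_mul] at h3
    have h0 : g.1 = 0 := by
      ext i j
      have := congrFun (congrFun h3 i) j
      have key : ∀ x : ZMod 3, x = -x → x = 0 := by intro x hx; linear_combination (2 : ZMod 3) * hx - x * (by decide : (3 : ZMod 3) = 0)
      exact key _ this
    have := g.2
    rw [h0, Matrix.det_zero] at this
    exact zero_ne_one this

theorem aS_cube : aS.1.1 * aS.1.1 * aS.1.1 = 1 := by decide +kernel

theorem aS_val : aS.1.1 = !![1, 1, 0, 0; 0, 1, 0, 1; 0, 0, 1, 0; 0, 0, 0, 1] := by decide +kernel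

/-- The centraliser of `a` fixes the first point. -/
theorem cent_aS_col {g : SL44} (h : g.1 * aS.1.1 = aS.1.1 * g.1) : ∀ i : Fin 4, i ≠ 0 → g.1 i 0 = 0 := by
  have k : ∀ i j, (g.1 * aS.1.1) i j = (aS.1.1 * g.1) i j := fun i j => by rw [h]
  have b01 := k 0 1
  have b11 := k 1 1
  have b21 := k 2 1
  have b31 := k 3 1
  have b13 := k 1 3
  have b03 := k 0 3
  have b33 := k 3 3
  have b23 := k 2 3
  simp [aS_val, Matrix.mul_apply, Fin.sum_univ_four] at b01 b11 b21 b31 b13 b03 b33 b23
  intro i hi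
  fin_cases i
  · exact absurd rfl hi
  · show g.1 1 0 = 0; linear_combination b11 + b33
  · exact b21
  · exact b31

namespace Full

variable {G : Type u} [Group G] [Finite G] (E : Full G)

theorem f_mk (M : Stab) : E.f (M.1 : Matrix.ProjectiveSpecialLinearGroup (Fin 4) (ZMod 3)) = E.ι M := E.f_ι M

/-- Lifting the commutation with an element of the stabiliser. -/
theorem lift {X : SL44} {M : Stab} (hM : M.1.1 * M.1.1 * M.1.1 = 1)
    (h : Commute (E.f (X : Matrix.ProjectiveSpecialLinearGroup (Fin 4) (ZMod 3))) (E.ι M)) :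
    X.1 * M.1.1 = M.1.1 * X.1 := by
  refine lift_comm hM (E.f_inj ?_)
  rw [map_mul, map_mul, E.f_ι]
  exact h.eq

theorem cent_aS_R {g : G} (hg : Commute g (E.ι aS)) (hR : g ∈ E.R) : g ∈ E.ι.range := by
  obtain ⟨X, rfl⟩ := E.R_eq.le hR
  obtain ⟨X, rfl⟩ := QuotientGroup.mk'_surjective (center SL44) X
  obtain ⟨M, hM, he⟩ := mem_comap_PStab (cent_aS_col (E.lift aS_cube hg))
  exact ⟨⟨M, hM⟩, by rw [← E.f_ι]; exact congrArg E.f he⟩

/-- The centraliser of `a` in the whole group. -/
theorem cent_aS {g : G} (hg : Commute g (E.ι aS)) : g ∈ E.ι.range :=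
  E.toEmb.cent_a (fun _ h1 h2 => E.cent_aS_R h1 h2) hg

end Full

end Cfsg.Agent.Spor.L43Three
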