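import Cfsg.Agent.Lib.Spor.L43Three.Emb
import Cfsg.Agent.Lib.Fus.NineFour.KernelTrick

/-!
A group with an elementary abelian Sylow three-subgroup of order nine, strongly embedded subgroup `R`, and a
subgroup `M` of index two in `R` with a linear character of order three: a normal subgroup of three-part three.
-/

set_option autoImplicit false
set_option linter.unusedSectionVars false
set_option maxRecDepth 10000

namespace Cfsg.Agent.Spor.L43Three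

open Subgroup

universe u

/-- The configuration. -/
structure NineTwo (Y : Type u) [Group Y] where
  R : Subgroup Y
  M : Subgroup Y
  l : M →* ℂˣ
  t : Y
  b : Y
  s : Y
  x : Y
  y : Y
  le : M ≤ R
  b_R : b ∈ R
  b_not : b ∉ M
  x_M : x ∈ M
  y_M : y ∈ M
  s_M : s ∈ M
  t_M : t ∈ M
  idx : ∀ g ∈ R, g ∈ M ∨ b⁻¹ * g ∈ M
  norm : ∀ g ∈ R, ∀ m ∈ M, g * m * g⁻¹ ∈ M
  l3 : ∀ m : M, l m ^ 3 = 1
  l_b : ∀ (m : M) (h : b⁻¹ * (m : Y) * b ∈ M), l ⟨_, h⟩ = (l m)⁻¹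
  l_x : l ⟨x, x_M⟩ ≠ 1
  t_cen : ∀ g : Y, Commute g t
  t_sq : t * t = 1
  t_ne : t ≠ 1
  t_sqrt : ∃ w : Y, w * w = t
  s_sq : s * s = 1
  x_cube : x ^ 3 = 1
  y_cube : y ^ 3 = 1
  x_ne : x ≠ 1
  y_ne : y ≠ 1
  xy : Commute x y
  sx : Commute s x
  sy : s * y * s⁻¹ = y⁻¹
  bx : b * x * b⁻¹ = x⁻¹
  emb : ∀ h ∈ R, orderOf h = 3 → ∀ g : Y, g * h * g⁻¹ ∈ R → g ∈ R
  cx : ∀ g ∈ R, Commute g x → ∃ (i j : ℕ) (e : Y), (e = 1 ∨ e = t ∨ e = s ∨ e = s * t) ∧ g = x ^ i * y ^ j * e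
  cy : ∀ g ∈ R, Commute g y →
    ∃ (i j : ℕ) (e : Y), (e = 1 ∨ e = t ∨ e = b * s ∨ e = b * s * t) ∧ g = x ^ i * y ^ j * e
  conj_x : ∀ g ∈ R, ∀ i j : ℕ, g * x * g⁻¹ = x ^ i * y ^ j → g * x * g⁻¹ = x ∨ g * x * g⁻¹ = x⁻¹
  invol : ∀ u ∈ R, u ∉ M → u * u = 1 → IsConj b u ∨ ∃ h ∈ R, orderOf h = 3 ∧ Commute u h
  no7 : ¬ 7 ∣ Nat.card R

/-- An element of odd order is a power of its square. -/
theorem exists_sq_pow {K : Type u} [Group K] {m : K} {k : ℕ} (h : m ^ 3 ^ k = 1) : ∃ j : ℕ, (m * m) ^ j = m := by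
  refine ⟨(3 ^ k + 1) / 2, ?_⟩
  have : 2 * ((3 ^ k + 1) / 2) = 3 ^ k + 1 := by
    have : 3 ^ k % 2 = 1 := by rw [Nat.pow_mod]; simp
    omega
  rw [← pow_two, ← pow_mul, this, pow_succ, h, one_mul]

/-- An element whose square is one in a three-group. -/
theorem eq_one_of_sq_pow {K : Type u} [Group K] {e : K} {k : ℕ} (h2 : e * e = 1) (h : e ^ 3 ^ k = 1) : e = 1 := by
  obtain ⟨j, hj⟩ := exists_sq_pow h
  rw [h2, one_pow] at hj
  exact hj.symm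

namespace NineTwo

variable {Y : Type u} [Group Y] [Finite Y] (D : NineTwo Y)

theorem x_order : orderOf D.x = 3 :=
  haveI : Fact (Nat.Prime 3) := ⟨Nat.prime_three⟩
  orderOf_eq_prime D.x_cube D.x_ne

theorem y_order : orderOf D.y = 3 :=
  haveI : Fact (Nat.Prime 3) := ⟨Nat.prime_three⟩
  orderOf_eq_prime D.y_cube D.y_ne

theorem x_R : D.x ∈ D.R := D.le D.x_M
theorem y_R : D.y ∈ D.R := D.le D.y_M
theorem s_R : D.s ∈ D.R := D.le D.s_M
theorem t_R : D.t ∈ D.R := D.le D.t_M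

theorem cent_mem {h g : Y} (hh : h ∈ D.R) (ho : orderOf h = 3) (hc : Commute g h) : g ∈ D.R :=
  D.emb h hh ho g (by rw [hc.eq, mul_inv_cancel_right]; exact hh)

theorem three_le {P : Subgroup Y} (hP : IsPGroup 3 P) {h : Y} (hh : h ∈ P) (hhR : h ∈ D.R) (ho : orderOf h = 3) :
    P ≤ D.R := by
  haveI : Fact (Nat.Prime 3) := ⟨Nat.prime_three⟩
  haveI : Nontrivial P := ⟨⟨⟨h, hh⟩, 1, fun e => by
    have := congrArg Subtype.val e
    rw [show h = 1 from this, orderOf_one] at ho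
    norm_num at ho⟩⟩
  haveI := hP.center_nontrivial
  obtain ⟨⟨c, hc⟩, hc1⟩ := exists_ne (1 : center P)
  obtain ⟨k, hk⟩ := (IsPGroup.iff_card).1 (hP.to_subgroup (center P))
  have hk0 : k ≠ 0 := fun e => by
    rw [e, pow_zero] at hk
    exact Finite.one_lt_card_iff_nontrivial.2 ‹Nontrivial (center P)› |>.ne' hk
  obtain ⟨⟨⟨d, hdP⟩, hdc⟩, hd⟩ := exists_prime_orderOf_dvd_card' (G := center P) 3 (hk ▸ dvd_pow_self 3 hk0)
  rw [Subgroup.orderOf_mk, Subgroup.orderOf_mk] at hd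
  have hcom : ∀ p ∈ P, Commute p d := fun p hp => congrArg Subtype.val (mem_center_iff.1 hdc ⟨p, hp⟩)
  intro p hp
  exact D.cent_mem (D.cent_mem hhR ho (hcom h hh).symm) hd (hcom p hp)

/-- An involution outside `M` centralising an element of order three is not conjugate to `s`. -/
theorem not_conj_out {u h : Y} (hu : u ∈ D.R) (hn : u ∉ D.M) (hh : h ∈ D.R) (ho : orderOf h = 3)
    (huh : Commute u h) : ¬ IsConj D.s u := by
  haveI : Fact (Nat.Prime 3) := ⟨Nat.prime_three⟩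
  intro hconj
  obtain ⟨c, hc⟩ := isConj_iff.1 hconj
  set C := centralizer ({u} : Set Y)
  have hC : ∀ {g : Y}, g ∈ C ↔ Commute g u := Subgroup.mem_centralizer_singleton_iff
  have hhC : h ∈ C := hC.2 huh.symm
  set x1 := c * D.x * c⁻¹
  have hx1 : x1 ∈ C := hC.2 (by
    rw [← hc]
    show _ = _
    calc x1 * (c * D.s * c⁻¹) = c * (D.x * D.s) * c⁻¹ := by simp only [x1]; group
      _ = c * (D.s * D.x) * c⁻¹ := by rw [D.sx.eq]
      _ = c * D.s * c⁻¹ * x1 := by simp only [x1]; group)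
  have hx1o : orderOf (⟨x1, hx1⟩ : C) = 3 := orderOf_eq_prime
    (Subtype.ext (by show x1 ^ 3 = 1; rw [conj_pow, D.x_cube, mul_one, mul_inv_cancel]))
    (fun e => D.x_ne (conj_eq_one_iff.1 (congrArg Subtype.val e)))
  obtain ⟨P, hP⟩ := (IsPGroup.of_card (p := 3) (n := 1) (G := zpowers (⟨h, hhC⟩ : C))
    (by rw [pow_one, Nat.card_zpowers, Subgroup.orderOf_mk, ho])).exists_le_sylow
  obtain ⟨Q, hQ⟩ := (IsPGroup.of_card (p := 3) (n := 1) (G := zpowers (⟨x1, hx1⟩ : C))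
    (by rw [pow_one, Nat.card_zpowers, hx1o])).exists_le_sylow
  obtain ⟨k, hk⟩ := MulAction.exists_smul_eq C Q P
  have hkx : k * ⟨x1, hx1⟩ * k⁻¹ ∈ (P : Subgroup C) := by
    rw [← hk, Sylow.coe_subgroup_smul]
    exact Subgroup.smul_mem_pointwise_smul _ (MulAut.conj k) _ (hQ (mem_zpowers _))
  have hPR : ((P : Subgroup C).map C.subtype) ≤ D.R :=
    D.three_le (P.isPGroup'.map _) ⟨_, hP (mem_zpowers _), rfl⟩ hh ho
  have hmem : (k : Y) * c * D.x * ((k : Y) * c)⁻¹ ∈ D.R := by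
    have := hPR ⟨_, hkx, rfl⟩
    rwa [show (k : Y) * c * D.x * ((k : Y) * c)⁻¹ = C.subtype (k * ⟨x1, hx1⟩ * k⁻¹) by
      simp only [Subgroup.coe_subtype, Subgroup.coe_mul, InvMemClass.coe_inv, x1]; group]
  have hkc := D.emb D.x D.x_R D.x_order _ hmem
  refine hn ?_
  have := D.norm _ hkc _ D.s_M
  rwa [show (k : Y) * c * D.s * ((k : Y) * c)⁻¹ = (k : Y) * (c * D.s * c⁻¹) * (k : Y)⁻¹ by group, hc,
    (hC.1 k.2).eq, mul_inv_cancel_right] at this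

theorem l_pow (m : D.M) {n : ℕ} (hn : (m : Y) ^ n = 1) (h : ¬ 3 ∣ n) : D.l m = 1 := by
  have h1 : D.l m ^ n = 1 := by
    rw [← map_pow, show m ^ n = 1 from Subtype.ext (by rw [SubmonoidClass.coe_pow]; exact hn), map_one]
  have := pow_gcd_eq_one.2 ⟨h1, D.l3 m⟩
  rwa [Nat.Coprime.gcd_eq_one ((Nat.prime_three.coprime_iff_not_dvd.2 h).symm), pow_one] at this

theorem exists_three {m : Y} (hm : m ∈ D.R) (hl : ∀ hM : m ∈ D.M, D.l ⟨m, hM⟩ ≠ 1) (hM : m ∈ D.M) :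
    ∃ k : ℕ, m ^ k ∈ D.R ∧ orderOf (m ^ k) = 3 := by
  have hd : 3 ∣ orderOf m := by
    by_contra h
    exact hl hM (D.l_pow ⟨m, hM⟩ (pow_orderOf_eq_one m) h)
  obtain ⟨k, hk⟩ := hd
  have hk0 : k ≠ 0 := fun e => (orderOf_pos m).ne' (by rw [hk, e, mul_zero])
  refine ⟨k, pow_mem hm k, ?_⟩
  rw [orderOf_pow' m hk0, hk, Nat.gcd_eq_right (dvd_mul_left k 3), Nat.mul_div_cancel _ (Nat.pos_of_ne_zero hk0)]

theorem exists_kernel (hsb : ¬ IsConj D.s D.b) : ∃ K : Subgroup Y, K.Normal ∧ D.s ∈ K ∧ K ≠ ⊤ := by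
  letI := Fintype.ofFinite Y
  have hlsq : ∀ (u : Y) (hu : u ∈ D.M), u * u = 1 → D.l ⟨u, hu⟩ = 1 := fun u hu h2 =>
    D.l_pow ⟨u, hu⟩ (n := 2) (by rw [pow_two]; exact h2) (by norm_num)
  have hsconj : ∀ c : Y, c * D.s * c⁻¹ * (c * D.s * c⁻¹) = 1 := fun c => by
    rw [show c * D.s * c⁻¹ * (c * D.s * c⁻¹) = c * (D.s * D.s) * c⁻¹ by group, D.s_sq]; group
  refine Fus.exists_normal_of_linear D.M D.l (fun h => D.l_x (by rw [h]; rfl)) D.l3 (b := D.b) D.b_not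
    (fun m => ?_) (fun m => D.l_b m _) ?_ (a := D.s) ?_ ?_
  · have := D.norm _ (inv_mem D.b_R) _ m.2
    rwa [inv_inv] at this
  · intro g m hm hmem hne
    obtain ⟨k, hk, ho⟩ := D.exists_three (D.le m.2) (fun _ => hm) m.2
    have hg : g⁻¹ ∈ D.R := D.emb _ hk ho _ (by
      rw [inv_inv, ← show (g⁻¹ * (m : Y) * g) ^ k = g⁻¹ * (m : Y) ^ k * g from by
        have := conj_pow (a := g⁻¹) (b := (m : Y)) (i := k); rwa [inv_inv] at this]
      exact pow_mem (D.le hmem) k)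
    rw [inv_mem_iff] at hg
    exact D.idx g hg
  · intro g h
    refine hlsq _ h ?_
    have := hsconj g⁻¹
    rwa [inv_inv] at this
  · intro c g h
    by_contra hne
    set w := g⁻¹ * (D.s * (c * D.s * c⁻¹)) * g with hw
    set u := g⁻¹ * D.s * g with hu
    have hu2 : u * u = 1 := by
      have := hsconj g⁻¹
      rwa [inv_inv] at this
    have huw : u * w * u⁻¹ = w⁻¹ := by
      rw [eq_inv_iff_mul_eq_one, inv_eq_of_mul_eq_one_right hu2]
      calc u * w * u * w = g⁻¹ * ((D.s * D.s) * (c * D.s * c⁻¹) * ((D.s * D.s) * (c * D.s * c⁻¹))) * g := by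
            rw [hu, hw]; group
        _ = 1 := by rw [D.s_sq, one_mul, hsconj]; group
    obtain ⟨k, hk, ho⟩ := D.exists_three (D.le h) (fun _ => hne) h
    have huR : u ∈ D.R := D.emb _ hk ho _ (by rw [← conj_pow, huw]; exact pow_mem (D.le (inv_mem h)) k)
    by_cases huM : u ∈ D.M
    · have e : D.l ⟨w, h⟩ = (D.l ⟨w, h⟩)⁻¹ := by
        rw [← map_inv]
        calc D.l ⟨w, h⟩ = D.l ⟨u, huM⟩ * D.l ⟨w, h⟩ * (D.l ⟨u, huM⟩)⁻¹ := by rw [mul_comm (D.l _), mul_inv_cancel_right]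
          _ = D.l (⟨u, huM⟩ * ⟨w, h⟩ * ⟨u, huM⟩⁻¹) := by rw [map_mul, map_mul, map_inv]
          _ = D.l (⟨w, h⟩)⁻¹ := congrArg D.l (Subtype.ext huw)
      refine hne ?_
      have e2 := eq_inv_iff_mul_eq_one.1 e
      have e3 := D.l3 ⟨w, h⟩
      rw [pow_three, e2, mul_one] at e3
      exact e3
    · have hsu : IsConj D.s u := isConj_iff.2 ⟨g⁻¹, by rw [inv_inv]⟩
      rcases D.invol u huR huM hu2 with hb | ⟨x', hx', ho', hc'⟩
      · exact hsb (hsu.trans hb.symm)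
      · exact D.not_conj_out huR huM hx' ho' hc' hsu

end NineTwo

end Cfsg.Agent.Spor.L43Three
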