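import Cfsg.Agent.Lib.Spor.L43Three.Two.NineTwo

/-!
The normal closure of `s` and `t` has three-part three, with small centraliser of its element of order three.
-/

set_option autoImplicit false
set_option linter.unusedSectionVars false
set_option maxRecDepth 10000
set_option maxHeartbeats 800000

namespace Cfsg.Agent.Spor.L43Three.NineTwo

open Subgroup

universe u

variable {Y : Type u} [Group Y] [Finite Y] (D : NineTwo Y)

/-- The elementary subgroup of order nine. -/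
def T : Subgroup Y where
  carrier := {g | ∃ i j : ℕ, g = D.x ^ i * D.y ^ j}
  one_mem' := ⟨0, 0, by simp⟩
  mul_mem' := by
    rintro _ _ ⟨i, j, rfl⟩ ⟨i', j', rfl⟩
    refine ⟨i + i', j + j', ?_⟩
    rw [pow_add, pow_add, mul_assoc, ← mul_assoc (D.y ^ j), ((D.xy.symm.pow_left j).pow_right i').eq]
    simp only [mul_assoc]
  inv_mem' := by
    rintro _ ⟨i, j, rfl⟩
    refine ⟨2 * i, 2 * j, inv_eq_of_mul_eq_one_right ?_⟩
    rw [mul_assoc, ← mul_assoc (D.y ^ j), ((D.xy.symm.pow_left j).pow_right (2 * i)).eq, mul_assoc, ← pow_add,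
      ← mul_assoc, ← pow_add, show i + 2 * i = 3 * i by ring, show j + 2 * j = 3 * j by ring, pow_mul, pow_mul,
      D.x_cube, D.y_cube, one_pow, one_pow, mul_one]

theorem x_T : D.x ∈ D.T := ⟨1, 0, by simp⟩
theorem y_T : D.y ∈ D.T := ⟨0, 1, by simp⟩

theorem T_le : D.T ≤ D.M := by rintro _ ⟨i, j, rfl⟩; exact mul_mem (pow_mem D.x_M i) (pow_mem D.y_M j)

theorem T_cube {g : Y} (hg : g ∈ D.T) : g ^ 3 = 1 := by
  obtain ⟨i, j, rfl⟩ := hg
  rw [((D.xy.pow_left i).pow_right j).mul_pow, ← pow_mul, ← pow_mul, mul_comm i, mul_comm j, pow_mul, pow_mul,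
    D.x_cube, D.y_cube, one_pow, one_pow, one_mul]

theorem T_comm {g h : Y} (hg : g ∈ D.T) (hh : h ∈ D.T) : Commute g h := by
  obtain ⟨i, j, rfl⟩ := hg
  obtain ⟨i', j', rfl⟩ := hh
  exact ((((Commute.refl D.x).pow_left i).pow_right i').mul_right ((D.xy.pow_left i).pow_right j')).mul_left
    ((((D.xy.symm).pow_left j).pow_right i').mul_right (((Commute.refl D.y).pow_left j).pow_right j'))

theorem st_sq : D.s * D.t * (D.s * D.t) = 1 := by
  rw [mul_assoc, ← mul_assoc D.t, ← (D.t_cen D.s).eq, mul_assoc D.s D.t, D.t_sq, mul_one, D.s_sq]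

/-- The images of `x` under elements normalising it into `T`. -/
theorem x_image {g : Y} (hg : g * D.x * g⁻¹ ∈ D.T) :
    g ∈ D.R ∧ (Commute g D.x ∨ Commute (D.b * g) D.x) := by
  have hR : g ∈ D.R := D.emb _ D.x_R D.x_order g (D.le (D.T_le hg))
  refine ⟨hR, ?_⟩
  obtain ⟨i, j, h⟩ := hg
  rcases D.conj_x g hR i j h with e | e
  · exact Or.inl (mul_inv_eq_iff_eq_mul.1 e)
  · refine Or.inr (mul_inv_eq_iff_eq_mul.1 ?_)
    rw [show D.b * g * D.x * (D.b * g)⁻¹ = D.b * (g * D.x * g⁻¹) * D.b⁻¹ by group, e,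
      show D.b * D.x⁻¹ * D.b⁻¹ = (D.b * D.x * D.b⁻¹)⁻¹ by group, D.bx, inv_inv]

theorem isPGroup_T : IsPGroup 3 D.T := fun g => ⟨1, Subtype.ext (by
  rw [pow_one, SubmonoidClass.coe_pow]; exact D.T_cube g.2)⟩

theorem exists_sylow : ∃ P : Sylow 3 Y, (P : Subgroup Y) = D.T := by
  haveI : Fact (Nat.Prime 3) := ⟨Nat.prime_three⟩
  obtain ⟨P, hP⟩ := D.isPGroup_T.exists_le_sylow
  refine ⟨P, le_antisymm ?_ hP⟩
  by_contra hne
  have hlt : D.T.subgroupOf (P : Subgroup Y) < ⊤ := lt_top_iff_ne_top.2 fun h => hne (subgroupOf_eq_top.1 h)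
  haveI : Group.IsNilpotent (P : Subgroup Y) := P.isPGroup'.isNilpotent
  obtain ⟨m, hm, hmT⟩ := SetLike.exists_of_lt (normalizerCondition_of_isNilpotent _ hlt)
  refine hmT ?_
  have hconj : (m : Y) * D.x * (m : Y)⁻¹ ∈ D.T :=
    ((Subgroup.mem_normalizer_iff.1 hm) ⟨D.x, hP D.x_T⟩).1 D.x_T
  obtain ⟨hmR, hcase⟩ := D.x_image hconj
  obtain ⟨k, hk⟩ := P.isPGroup' m
  have hk' : (m : Y) ^ 3 ^ k = 1 := by rw [← SubmonoidClass.coe_pow, hk, Subgroup.coe_one]
  have hc : Commute (m : Y) D.x := by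
    rcases hcase with h | h
    · exact h
    · obtain ⟨j, hj⟩ := exists_sq_pow hk'
      rw [← hj]
      refine Commute.pow_left ?_ j
      have e : (m : Y) * D.x * (m : Y)⁻¹ = D.x⁻¹ := by
        have h' := mul_inv_eq_iff_eq_mul.2 h.eq
        calc (m : Y) * D.x * (m : Y)⁻¹ = D.b⁻¹ * (D.b * m * D.x * (D.b * m)⁻¹) * D.b := by group
          _ = D.b⁻¹ * (D.b * D.x * D.b⁻¹)⁻¹ * D.b := by rw [h', D.bx, inv_inv]
          _ = D.x⁻¹ := by group
      refine mul_inv_eq_iff_eq_mul.1 ?_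
      calc (m : Y) * m * D.x * ((m : Y) * m)⁻¹ = m * (m * D.x * (m : Y)⁻¹) * (m : Y)⁻¹ := by group
        _ = (m : Y) * D.x⁻¹ * (m : Y)⁻¹ := by rw [e]
        _ = ((m : Y) * D.x * (m : Y)⁻¹)⁻¹ := by group
        _ = D.x := by rw [e, inv_inv]
  obtain ⟨i, j, e, he, hme⟩ := D.cx _ hmR hc
  have he2 : e * e = 1 := by
    rcases he with rfl | rfl | rfl | rfl
    exacts [one_mul 1, D.t_sq, D.s_sq, D.st_sq]
  have heP : e ∈ (P : Subgroup Y) := by
    have := mul_mem (inv_mem (hP (⟨i, j, rfl⟩ : D.x ^ i * D.y ^ j ∈ D.T))) m.2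
    rwa [hme, inv_mul_cancel_left] at this
  obtain ⟨n, hn⟩ := P.isPGroup' ⟨e, heP⟩
  have he1 : e = 1 := eq_one_of_sq_pow (k := n) he2 (by
    simpa using congrArg Subtype.val hn)
  exact ⟨i, j, show (m : Y) = _ by rw [hme, he1, mul_one]⟩

theorem mem_of_cent {L : Subgroup Y} (hx : D.x ∈ L) (hy : D.y ∈ L) (ht : D.t ∈ L) (hs : D.s ∈ L) {g : Y}
    (hR : g ∈ D.R) (hc : Commute g D.x) : g ∈ L := by
  obtain ⟨i, j, e, he, rfl⟩ := D.cx g hR hc
  refine mul_mem (mul_mem (pow_mem hx i) (pow_mem hy j)) ?_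
  rcases he with rfl | rfl | rfl | rfl
  exacts [one_mem L, ht, hs, mul_mem hs ht]

/-- The normal closure of the two involutions. -/
def L : Subgroup Y := normalClosure {D.s, D.t}

instance L_normal : D.L.Normal := normalClosure_normal

theorem s_L : D.s ∈ D.L := subset_normalClosure (Or.inl rfl)
theorem t_L : D.t ∈ D.L := subset_normalClosure (Or.inr rfl)

theorem y_L : D.y ∈ D.L := by
  have h := mul_mem D.s_L ((L_normal D).conj_mem _ (inv_mem D.s_L) D.y)
  rw [show D.s * (D.y * D.s⁻¹ * D.y⁻¹) = D.s * D.y * D.s⁻¹ * D.y⁻¹ by group, D.sy,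
    show D.y⁻¹ * D.y⁻¹ = D.y by
      rw [← _root_.mul_inv_rev, inv_eq_iff_mul_eq_one, mul_assoc, ← pow_three, D.y_cube]] at h
  exact h

variable {D}

theorem conj_L {g : Y} {m : Y} (hm : m ∈ D.L) : g * m * g⁻¹ ∈ D.L := (L_normal D).conj_mem m hm g

theorem x_not_mem (hsb : ¬ IsConj D.s D.b) : D.x ∉ D.L := by
  haveI : Fact (Nat.Prime 3) := ⟨Nat.prime_three⟩
  intro hx
  obtain ⟨K, hKn, hsK, hK⟩ := D.exists_kernel hsb
  have hLtop : D.L ≠ ⊤ := by
    intro e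
    have h1 : D.L ≤ K ⊔ zpowers D.t := by
      haveI : (zpowers D.t).Normal := ⟨fun m hm g => by
        obtain ⟨i, rfl⟩ := mem_zpowers_iff.1 hm
        rw [((D.t_cen g).zpow_right i).eq, mul_inv_cancel_right]
        exact zpow_mem (mem_zpowers _) i⟩
      haveI : (K ⊔ zpowers D.t).Normal := Subgroup.sup_normal _ _
      refine normalClosure_le_normal ?_
      rintro g (rfl | rfl)
      · exact le_sup_left (a := K) hsK
      · exact le_sup_right (a := K) (mem_zpowers _)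
    haveI := hKn
    obtain ⟨w, hw⟩ := D.t_sqrt
    have htK : D.t ∈ K := by
      obtain ⟨k, hk, z, hz, hkz⟩ := Subgroup.mem_sup_of_normal_left.1 (h1 (e ▸ mem_top w))
      obtain ⟨i, rfl⟩ := mem_zpowers_iff.1 hz
      rw [← hw, ← hkz, mul_assoc, ← mul_assoc (D.t ^ i), ← ((D.t_cen k).zpow_right i).eq, mul_assoc k (D.t ^ i),
        ← (Commute.refl D.t).mul_zpow, D.t_sq, _root_.one_zpow, mul_one]
      exact mul_mem hk hk
    exact hK (top_le_iff.1 (e ▸ h1.trans (sup_le le_rfl (zpowers_le.2 htK))))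
  obtain ⟨P, hP⟩ := D.exists_sylow
  have hTL : D.T ≤ D.L := by rintro _ ⟨i, j, rfl⟩; exact mul_mem (pow_mem hx i) (pow_mem D.y_L j)
  have hcases : ∀ g : Y, g * D.x * g⁻¹ ∈ D.T → D.b * g ∈ D.L ∨ g ∈ D.L := fun g hg => by
    obtain ⟨hR, h | h⟩ := D.x_image hg
    · exact Or.inr (D.mem_of_cent hx D.y_L D.t_L D.s_L hR h)
    · exact Or.inl (D.mem_of_cent hx D.y_L D.t_L D.s_L (mul_mem D.b_R hR) h)
  have hbL : D.b ∉ D.L := by
    intro hb
    refine hLtop ?_
    rw [← Sylow.normalizer_sup_eq_top' (N := D.L) P (by rw [hP]; exact hTL)]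
    refine (sup_eq_right.2 fun g hg => ?_).symm
    have hg' : g * D.x * g⁻¹ ∈ D.T := by
      have := (Subgroup.mem_normalizer_iff.1 hg D.x).1 (by rw [hP]; exact D.x_T)
      rwa [hP] at this
    rcases hcases g hg' with h | h
    · have := mul_mem (inv_mem hb) h
      rwa [inv_mul_cancel_left] at this
    · exact h
  set T' := D.T.subgroupOf D.L
  let φ : T' →* rootsOfUnity 3 ℂ :=
    (D.l.comp ((Subgroup.inclusion D.T_le).comp (subgroupOfEquivOfLe hTL).toMonoidHom)).codRestrict _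
      fun m => (mem_rootsOfUnity 3 _).2 (D.l3 _)
  have hφ : ∀ m : T', ((φ m : rootsOfUnity 3 ℂ) : ℂˣ) = D.l ⟨((m : D.L) : Y), D.T_le m.2⟩ := fun m => rfl
  haveI : FiniteIndex T' := inferInstance
  set V := MonoidHom.transfer φ
  have hV3 : ∀ m, V m ^ 3 = 1 := fun m => Subtype.ext ((mem_rootsOfUnity 3 _).1 (V m).2)
  have hVx : V ⟨D.x, hx⟩ ≠ 1 := by
    rw [MonoidHom.transfer_eq_pow φ (⟨D.x, hx⟩ : D.L) ?_]
    · intro hone
      have hidx : ¬ 3 ∣ T'.index := by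
        intro hd
        have h1 : T'.index * D.L.index = D.T.index := Subgroup.relIndex_mul_index hTL
        have hnd : ¬ 3 ∣ (P : Subgroup Y).index := Sylow.not_dvd_index P
        rw [hP, ← h1] at hnd
        exact hnd (hd.mul_right _)
      apply D.l_x
      have h2 : D.l ⟨D.x, D.x_M⟩ ^ T'.index = 1 := by
        rw [← map_pow]
        have h3 := (hφ _).symm.trans (congrArg Subtype.val hone)
        refine Eq.trans (congrArg D.l (Subtype.ext ?_)) h3
        simp only [SubmonoidClass.coe_pow]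
      have := pow_gcd_eq_one.2 ⟨h2, D.l3 ⟨D.x, D.x_M⟩⟩
      rwa [Nat.Coprime.gcd_eq_one (Nat.prime_three.coprime_iff_not_dvd.2 hidx).symm, pow_one] at this
    · intro k g hk
      have hkT : ((g : Y))⁻¹ * D.x ^ k * (g : Y) ∈ D.T := by simpa [T', mem_subgroupOf] using hk
      refine Subtype.ext ?_
      show (g : Y)⁻¹ * D.x ^ k * (g : Y) = D.x ^ k
      rw [← Nat.mod_add_div k 3, pow_add, pow_mul, D.x_cube, one_pow, mul_one] at hkT ⊢
      have hk3 := Nat.mod_lt k (show 3 > 0 by norm_num)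
      have hgx : ∀ c : Y, c ∈ D.L → c * D.x * c⁻¹ ∈ D.T → Commute c D.x := fun c hcL hc => by
        obtain ⟨hR, h | h⟩ := D.x_image hc
        · exact h
        · exfalso
          have := mul_mem (D.mem_of_cent hx D.y_L D.t_L D.s_L (mul_mem D.b_R hR) h) (inv_mem hcL)
          rw [mul_inv_cancel_right] at this
          exact hbL this
      have hmain : (g : Y)⁻¹ * D.x * (g : Y) ∈ D.T → (g : Y)⁻¹ * D.x * (g : Y) = D.x := fun h => by
        have hc := hgx _ (inv_mem g.2) (by rwa [inv_inv])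
        rw [hc.eq, inv_mul_cancel_right]
      interval_cases hj : k % 3
      · simp
      · rw [pow_one] at hkT ⊢; exact hmain hkT
      · have e2 : ((g : Y)⁻¹ * D.x ^ 2 * (g : Y)) ^ 2 = (g : Y)⁻¹ * D.x * (g : Y) := by
          rw [show (g : Y)⁻¹ * D.x ^ 2 * (g : Y) = (g : Y)⁻¹ * D.x ^ 2 * (g : Y)⁻¹⁻¹ by rw [inv_inv], conj_pow,
            ← pow_mul, show D.x ^ (2 * 2) = D.x by rw [pow_succ D.x 3, D.x_cube, one_mul], inv_inv]
        have e := hmain (e2 ▸ pow_mem hkT 2)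
        rw [show (g : Y)⁻¹ * D.x ^ 2 * (g : Y) = ((g : Y)⁻¹ * D.x * (g : Y)) ^ 2 by
          rw [show (g : Y)⁻¹ * D.x * (g : Y) = (g : Y)⁻¹ * D.x * (g : Y)⁻¹⁻¹ by rw [inv_inv], conj_pow, inv_inv], e]
  have hinv : ∀ (m : Y) (hm : m ∈ D.L), m * m = 1 → V ⟨m, hm⟩ = 1 := fun m hm h2 => by
    have h2' : V ⟨m, hm⟩ ^ 2 = 1 := by
      rw [← map_pow, ← map_one V]; exact congrArg V (Subtype.ext (by simpa [pow_two] using h2))
    have := pow_gcd_eq_one.2 ⟨h2', hV3 ⟨m, hm⟩⟩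
    rwa [show Nat.gcd 2 3 = 1 from rfl, pow_one] at this
  have hle : D.L ≤ V.ker.map D.L.subtype := by
    refine (Subgroup.closure_le _).2 ?_
    intro m hm
    obtain ⟨a, ha, hconj⟩ := Group.mem_conjugatesOfSet_iff.1 hm
    obtain ⟨c, rfl⟩ := isConj_iff.1 hconj
    have haL : a ∈ D.L := subset_normalClosure ha
    refine ⟨⟨_, conj_L haL⟩, MonoidHom.mem_ker.2 (hinv _ _ ?_), rfl⟩
    have ha2 : a * a = 1 := by rcases ha with rfl | rfl; exacts [D.s_sq, D.t_sq]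
    rw [show c * a * c⁻¹ * (c * a * c⁻¹) = c * (a * a) * c⁻¹ by group, ha2]; group
  obtain ⟨m, hm, hmx⟩ := hle hx
  exact hVx (by rw [← show m = ⟨D.x, hx⟩ from Subtype.ext hmx]; exact hm)

end Cfsg.Agent.Spor.L43Three.NineTwo
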