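import Cfsg.Agent.Lib.Spor.L43Three.Isolation
import Cfsg.Agent.Lib.Lie.CurtisTitsBlocks

/-!
The second plane: the last column, when it contains a conjugate of `z`, is normalised by a second copy of `SL(3, 3)`
acting naturally.
-/

set_option autoImplicit false
set_option linter.unusedSectionVars false
set_option maxRecDepth 10000

namespace Cfsg.Agent.Spor.L43Three

open Subgroup Matrix

universe u

/-- An element of the last column. -/
def cS (c : Fin 3 → ZMod 3) : Stab := qE ![0, 0, c 0] (c 1) (c 2)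

theorem cS_add (c d : Fin 3 → ZMod 3) : cS (c + d) = cS c * cS d := by
  rw [cS, cS, cS, qE_mul]
  congr 1
  funext i
  fin_cases i <;> simp [cA, Matrix.vecMul, dotProduct, Fin.sum_univ_three]

theorem cS_inj {c d : Fin 3 → ZMod 3} (h : cS c = cS d) : c = d := by
  obtain ⟨h1, h2, h3⟩ := qE_inj h
  funext i
  fin_cases i
  · simpa using congrFun h1 2
  · exact h2
  · exact h3

/-- The column subgroup. -/
def cHom : Multiplicative (Fin 3 → ZMod 3) →* Stab := MonoidHom.mk' (fun c => cS (Multiplicative.toAdd c)) fun c d => cS_add _ _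

theorem cS_z : cS ![1, 0, 0] = zS := Stab_ext (by decide +kernel)

theorem cS_u : cS ![0, 1, 0] = rep 1 := Stab_ext (by decide +kernel)

/-- The action on the column. -/
def colAct (M : Stab) (c : Fin 3 → ZMod 3) : Fin 3 → ZMod 3 :=
  ![c 0 + M.1.1 0 1 * c 1 + M.1.1 0 2 * c 2, M.1.1 1 1 * c 1 + M.1.1 1 2 * c 2, M.1.1 2 1 * c 1 + M.1.1 2 2 * c 2]

theorem cS_conj {M : Stab} (h1 : M.1.1 3 1 = 0) (h2 : M.1.1 3 2 = 0) (h3 : M.1.1 3 3 = 1) (c : Fin 3 → ZMod 3) :
    M * cS c = cS (colAct M c) * M := by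
  refine Stab_ext ?_
  have a0 := M.2 0
  have a1 := M.2 1
  have a2 := M.2 2
  have a3 := M.2 3
  simp at a0 a1 a2 a3
  simp only [Stab_mul_val, cS, qE, el_val]
  ext i j
  fin_cases i <;> fin_cases j <;>
    simp [colAct, aff, cA, Matrix.mul_apply, Fin.sum_univ_four, h1, h2, h3, a0, a1, a2, a3] <;> ring

theorem z_rows {M : Stab} (h : Commute M zS) : M.1.1 3 1 = 0 ∧ M.1.1 3 2 = 0 ∧ M.1.1 3 3 = 1 := by
  have m := congrArg (fun B : Stab => B.1.1) h.eq
  simp only [Stab_mul_val, zS, vS, el_val, one_val] at m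
  have k : ∀ i j, (M.1.1 * aff ![0, 0, 1] 1) i j = (aff ![0, 0, 1] 1 * M.1.1) i j := fun i j => by rw [m]
  have a0 := M.2 0
  have a1 := M.2 1
  have a2 := M.2 2
  have a3 := M.2 3
  simp at a0 a1 a2 a3
  have b1 := k 0 1
  have b2 := k 0 2
  have b3 := k 0 3
  simp [aff, Matrix.mul_apply, Fin.sum_univ_four, a0, a1, a2, a3] at b1 b2 b3
  exact ⟨by linear_combination b1, by linear_combination b2, by linear_combination -b3⟩

namespace Loc

variable {G : Type u} [Group G] [Finite G] {H : Hyp G} (L : Loc H)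

/-- The second plane is normalised by a natural `SL(3, 3)`. -/
theorem exists_second (hu : IsConj H.z (L.ι (rep 1))) :
    ∃ ψ : SL33 →* G, (∀ A c, ψ A * L.ι (cS c) * (ψ A)⁻¹ = L.ι (cS (A.1 *ᵥ c))) ∧
      ∀ g : G, (∀ c, Commute g (L.ι (cS c))) → ∃ c, L.ι (cS c) = g := by
  obtain ⟨g', hg'⟩ := isConj_iff.1 hu
  have hyQ : g' * H.z * g'⁻¹ ∈ H.Q := by
    rw [hg', L.Q_eq]
    exact mem_map_of_mem _ ⟨![0, 0, 0], 1, 0, by rw [← cS_u]; rfl⟩
  have hyn : g' * H.z * g'⁻¹ ∉ zpowers H.z := by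
    rw [hg', ← L.z_eq, mem_zpowers_iff]
    rintro ⟨i, hi⟩
    rw [← map_zpow] at hi
    have hi' := L.inj hi
    rw [zpow_eq_zpow_emod' i (show zS ^ 3 = 1 from vS_cube _),
      show i % (3 : ℕ) = ((i % 3).toNat : ℤ) by omega, zpow_natCast] at hi'
    have key : ∀ m : Fin 3, (zS ^ (m : ℕ)).1.1 ≠ (rep 1).1.1 := by decide +kernel
    exact key ⟨(i % 3).toNat, by omega⟩ (congrArg (fun M : Stab => M.1.1) hi')
  set H' : Hyp G := { H with g0 := g', y_Q := hyQ, y_not := hyn } with hH'
  obtain ⟨B, hB⟩ := H'.exists_vbase_at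
  have hy : H'.y B.g = L.ι (cS ![0, 1, 0]) := by
    rw [hB, cS_u]; exact hg'
  -- the plane is the column
  set col := cHom.range.map L.ι with hcol
  have hcolmem : ∀ {x}, x ∈ col ↔ ∃ c, L.ι (cS c) = x := by
    intro x
    constructor
    · rintro ⟨_, ⟨c, rfl⟩, rfl⟩; exact ⟨_, rfl⟩
    · rintro ⟨c, rfl⟩; exact ⟨_, ⟨Multiplicative.ofAdd c, rfl⟩, rfl⟩
  have hVle : B.T.V ≤ col := by
    rw [B.T_V]
    refine (closure_le _).2 ?_
    rintro x (rfl | ⟨c, hc, rfl⟩)
    · exact hcolmem.2 ⟨![1, 0, 0], by rw [cS_z, L.z_eq]⟩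
    · obtain ⟨M, rfl⟩ := L.cz c hc
      obtain ⟨r1, r2, r3⟩ := z_rows (L.comm_z.1 hc)
      refine hcolmem.2 ⟨colAct M ![0, 1, 0], ?_⟩
      rw [hy, ← map_inv, ← map_mul, ← map_mul, cS_conj r1 r2 r3, mul_inv_cancel_right]
  have hcard : Nat.card col = 27 := by
    have hinj : Function.Injective cHom := fun c d h => Multiplicative.toAdd.injective (cS_inj h)
    rw [hcol, card_map_of_injective L.inj,
      ← Nat.card_congr (MonoidHom.ofInjective hinj).toEquiv,
      Nat.card_congr Multiplicative.toAdd, Nat.card_fun, Nat.card_zmod, Nat.card_eq_fintype_card, Fintype.card_fin]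
    norm_num
  have hVeq : B.T.V = col := eq_of_le_of_card_ge hVle (by rw [hcard, B.T.card])
  let e : Fin 3 → G := fun k => L.ι (cS (Pi.single k 1))
  let T2 : Tri G :=
    { V := B.T.V
      e := e
      mem := fun i => hVeq ▸ hcolmem.2 ⟨_, rfl⟩
      comm := B.T.comm
      cube := B.T.cube
      card := B.T.card
      gen := fun x hx => by
        obtain ⟨c, rfl⟩ := hcolmem.1 (hVeq ▸ hx)
        have hk : ∀ k (a : ZMod 3), L.ι (cS (Pi.single k a)) ∈ Subgroup.closure (Set.range e) := by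
          intro k a
          have : L.ι (cS (Pi.single k a)) = e k ^ a.val := by
            have hn : ∀ n : ℕ, L.ι (cS (Pi.single k (n : ZMod 3))) = e k ^ n := by
              intro n
              induction n with
              | zero => simp [show cS 0 = 1 from Stab_ext (by decide +kernel)]
              | succ n ih => rw [Nat.cast_succ, Pi.single_add, cS_add, map_mul, ih, pow_succ]
            rw [← hn, ZMod.natCast_zmod_val]
          rw [this]
          exact pow_mem (Subgroup.subset_closure (show e k ∈ Set.range e from ⟨k, rfl⟩)) _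
        have : c = Pi.single 0 (c 0) + Pi.single 1 (c 1) + Pi.single 2 (c 2) := by
          funext i; fin_cases i <;> simp
        rw [this, cS_add, cS_add, map_mul, map_mul]
        exact mul_mem (mul_mem (hk _ _) (hk _ _)) (hk _ _) }
  have hev : ∀ c, T2.ev c = L.ι (cS c) := by
    have hs : ∀ k a, T2.ev (Pi.single k a) = L.ι (cS (Pi.single k a)) := by
      intro k a
      have hn : ∀ n : ℕ, L.ι (cS (Pi.single k (n : ZMod 3))) = e k ^ n := by
        intro n
        induction n with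
        | zero => simp [show cS 0 = 1 from Stab_ext (by decide +kernel)]
        | succ n ih => rw [Nat.cast_succ, Pi.single_add, cS_add, map_mul, ih, pow_succ]
      have ha : (Pi.single k a : Fin 3 → ZMod 3) = a • Pi.single k 1 := by
        funext i; simp [Pi.single_apply]
      conv_rhs => rw [show a = (a.val : ZMod 3) from (ZMod.natCast_zmod_val a).symm, hn]
      rw [ha, T2.ev_smul, T2.ev_single]
    intro c
    have : c = Pi.single 0 (c 0) + Pi.single 1 (c 1) + Pi.single 2 (c 2) := by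
      funext i; fin_cases i <;> simp
    rw [this, T2.ev_add, T2.ev_add, hs, hs, hs, cS_add, cS_add, map_mul, map_mul]
  -- the change of basis
  set C : M3 := Matrix.of fun k => B.T.co (e k)
  have hC : ∀ v, T2.ev v = B.T.ev (v ᵥ* C) := by
    have hk : ∀ k, T2.ev (Pi.single k 1) = B.T.ev (C k) := fun k => by
      rw [T2.ev_single]; exact (B.T.ev_co (hVeq ▸ hcolmem.2 ⟨_, rfl⟩)).symm
    intro v
    have hv : v = v 0 • Pi.single 0 1 + v 1 • Pi.single 1 1 + v 2 • Pi.single 2 1 := by
      funext i; fin_cases i <;> simp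
    have hv2 : v ᵥ* C = v 0 • C 0 + v 1 • C 1 + v 2 • C 2 := by
      funext i; simp [Matrix.vecMul, dotProduct, Fin.sum_univ_three]
    conv_lhs => rw [hv]
    rw [hv2, T2.ev_add, T2.ev_add, B.T.ev_add, B.T.ev_add, T2.ev_smul, T2.ev_smul, T2.ev_smul, B.T.ev_smul,
      B.T.ev_smul, B.T.ev_smul, hk, hk, hk]
  have hCdet : C.det ≠ 0 := by
    intro h0
    obtain ⟨v, hv, hv0⟩ := Matrix.exists_vecMul_eq_zero_iff.2 h0
    refine hv (T2.ev_injective ?_)
    rw [hC, hv0, T2.ev_zero, B.T.ev_zero]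
  have hdet : ∀ n : B.N, (T2.mat n).det = 1 := by
    intro n
    have hn2 : (n : G) ∈ normalizer (T2.V : Set G) := n.2
    have hmat : T2.mat n * C = C * (B.phi n).1 := by
      have h : ∀ v, v ᵥ* (T2.mat n * C) = v ᵥ* (C * (B.phi n).1) := fun v => by
        refine B.T.ev_injective ?_
        rw [← Matrix.vecMul_vecMul, ← hC, ← T2.conj_ev hn2, hC, B.conj_ev, Matrix.vecMul_vecMul]
      ext i j
      have := congrFun (h (Pi.single i 1)) j
      simpa [Matrix.single_one_vecMul] using this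
    have := congrArg Matrix.det hmat
    rw [det_mul, det_mul, (B.phi n).2, mul_one] at this
    exact mul_right_cancel₀ hCdet (this.trans (one_mul _).symm)
  let φ2 : B.N →* SL33 :=
    MonoidHom.mk' (fun n => ⟨T2.mat n, hdet n⟩) fun a b => Subtype.ext (T2.mat_mul a.2 b.2)
  obtain ⟨σ, hσ, hφσ⟩ := B.exists_section
  let β : SL33 →* SL33 := MonoidHom.mk' (fun A => φ2 ⟨σ A, hσ A⟩) fun a b => by
    rw [← map_mul]; exact congrArg φ2 (Subtype.ext (map_mul σ a b))
  have hβ : Function.Injective β := (injective_iff_map_eq_one β).2 fun A hA => by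
    have hmem : σ A ∈ B.T.V := B.self_cent ((T2.mat_eq_one_iff (hσ A)).1 (congrArg Subtype.val hA))
    rw [← hφσ A (hσ A)]
    exact B.phi_eq_one.2 hmem
  let β' := MulEquiv.ofBijective β (Finite.injective_iff_bijective.1 hβ)
  let ψ : SL33 →* G := σ.comp (β'.symm.toMonoidHom.comp Cfsg.Agent.Lie.CurtisTitsA.tauN)
  refine ⟨ψ, fun A c => ?_, fun g hg => ?_⟩
  · have hN : ψ A ∈ B.N := hσ _
    have hm : T2.mat (ψ A) = ((A⁻¹).1)ᵀ := by
      have := β'.apply_symm_apply (Cfsg.Agent.Lie.CurtisTitsA.tauN A)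
      exact congrArg Subtype.val this
    have h := T2.conj_ev (show ψ A ∈ normalizer (T2.V : Set G) from hN) (A.1 *ᵥ c)
    rw [hm, Matrix.vecMul_transpose, Matrix.mulVec_mulVec,
      show (A⁻¹).1 * A.1 = 1 from congrArg Subtype.val (inv_mul_cancel A), Matrix.one_mulVec, hev, hev] at h
    rw [← h]; group
  · refine hcolmem.1 (hVeq ▸ B.self_cent fun a ha => ?_)
    obtain ⟨c, rfl⟩ := hcolmem.1 (hVeq ▸ ha)
    exact hg c

end Loc

end Cfsg.Agent.Spor.L43Three
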