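import Cfsg.Agent.Lib.Spor.L43Three.Two.TwistFull
import Cfsg.Agent.Lib.Spor.L43Three.One.Kernel

/-!
The subgroup isomorphic to `PSL(4, 3)` contains the centralisers of its elements of order three and is strongly
embedded for the prime three.
-/

set_option autoImplicit false
set_option linter.unusedSectionVars false
set_option maxRecDepth 10000

namespace Cfsg.Agent.Spor.L43Three

open Subgroup Matrix

universe u

theorem rep_z : ∀ k : Fin 6, repM k * zS.1.1 = zS.1.1 * repM k := by decide +kernel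

theorem repM_four : repM 4 = aS.1.1 := by decide +kernel

namespace Full

variable {G : Type u} [Group G] [Finite G] (E : Full G)

theorem cent_rep (k : Fin 6) {g : G} (hg : Commute g (E.ι (rep k))) : g ∈ E.R := by
  have hconj : ∀ {A B : Stab} {c : G}, c ∈ E.R → c * E.ι A * c⁻¹ = E.ι B →
      (∀ y : G, Commute y (E.ι A) → y ∈ E.R) → ∀ {y : G}, Commute y (E.ι B) → y ∈ E.R := by
    intro A B c hc hAB hA y hy
    have h := hA (c⁻¹ * y * c) (by
      show _ = _
      calc c⁻¹ * y * c * E.ι A = c⁻¹ * (y * (c * E.ι A * c⁻¹)) * c := by group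
        _ = c⁻¹ * (c * E.ι A * c⁻¹ * y) * c := by rw [hAB, hy.eq]
        _ = E.ι A * (c⁻¹ * y * c) := by group)
    have := mul_mem (mul_mem hc h) (inv_mem hc)
    rwa [show c * (c⁻¹ * y * c) * c⁻¹ = y by group] at this
  have hz : ∀ y : G, Commute y (E.ι zS) → y ∈ E.R := fun y hy => E.le (E.cz y hy)
  have ha : ∀ y : G, Commute y (E.ι (rep 4)) → y ∈ E.R := fun y hy => E.le (E.cent_aS (by
    rwa [show rep 4 = aS from Stab_ext repM_four] at hy))
  fin_cases k
  · exact hz g (by rwa [show zS = rep 0 from Stab_ext (by decide +kernel)])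
  · obtain ⟨c, hc⟩ := isConj_iff.1 E.z_u
    exact hconj (E.iso c (by rw [hc]; exact E.le ⟨_, rfl⟩)) hc hz hg
  · exact E.cent_x hg
  · exact E.cent_x' hg
  · exact ha g hg
  · refine hconj (c := E.f (raConj : Matrix.ProjectiveSpecialLinearGroup (Fin 4) (ZMod 3)))
      (E.R_eq.ge ⟨_, rfl⟩) ?_ ha hg
    show E.f _ * E.ι (rep 4) * (E.f _)⁻¹ = E.ι (rep 5)
    rw [mul_inv_eq_iff_eq_mul, ← E.f_ι, ← E.f_ι, ← map_mul, ← map_mul, ← QuotientGroup.mk_mul, ← QuotientGroup.mk_mul]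
    exact congrArg E.f (congrArg _ (Subtype.ext raConj_fact))

theorem exists_rep {h : G} (hh : h ∈ E.R) (ho : orderOf h = 3) :
    ∃ c ∈ E.R, ∃ k : Fin 6, c * h * c⁻¹ = E.ι (rep k) := by
  haveI : Fact (Nat.Prime 3) := ⟨Nat.prime_three⟩
  set U : Subgroup E.R := (U4.map E.ι).subgroupOf E.R
  have hle : U4.map E.ι ≤ E.R := (map_le_range _ _).trans E.le
  have hU : Nat.card U = 729 := by
    rw [Nat.card_congr (subgroupOfEquivOfLe hle).toEquiv, card_map_of_injective E.inj, card_U4]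
  obtain ⟨P, hP⟩ := (IsPGroup.of_card (n := 6) (by rw [hU]; norm_num) : IsPGroup 3 U).exists_le_sylow
  have hPU : (P : Subgroup E.R) = U := by
    refine (eq_of_le_of_card_ge hP ?_).symm
    obtain ⟨S, hS⟩ := (P.isPGroup'.map E.R.subtype).exists_le_sylow
    have h1 := Subgroup.card_dvd_of_le hS
    rw [card_map_of_injective E.R.subtype_injective, E.sylow S] at h1
    rw [hU]; exact Nat.le_of_dvd (by norm_num) h1
  obtain ⟨T, hT⟩ := (IsPGroup.of_card (p := 3) (n := 1) (G := zpowers (⟨h, hh⟩ : E.R))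
    (by rw [pow_one, Nat.card_zpowers, Subgroup.orderOf_mk, ho])).exists_le_sylow
  obtain ⟨c, hc⟩ := MulAction.exists_smul_eq E.R T P
  have hmem : c * ⟨h, hh⟩ * c⁻¹ ∈ U := by
    rw [← hPU, ← hc, Sylow.coe_subgroup_smul]
    exact Subgroup.smul_mem_pointwise_smul _ (MulAut.conj c) _ (hT (mem_zpowers _))
  obtain ⟨M, -, hM⟩ := hmem
  have h3 : h ^ 3 = 1 := ho ▸ pow_orderOf_eq_one h
  have hM' : E.ι M = (c : G) * h * (c : G)⁻¹ := hM
  have hM3 : M ^ 3 = 1 := E.inj (by rw [map_pow, hM', conj_pow, h3, mul_one, mul_inv_cancel, map_one])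
  have hM1 : M ≠ 1 := fun e => by
    rw [e, map_one] at hM'
    rw [conj_eq_one_iff.1 hM'.symm, orderOf_one] at ho
    norm_num at ho
  obtain ⟨k, g, hk⟩ := exists_class hM3 hM1
  refine ⟨(E.ι g)⁻¹ * c, mul_mem (inv_mem (E.le ⟨g, rfl⟩)) c.2, k, ?_⟩
  calc (E.ι g)⁻¹ * c * h * ((E.ι g)⁻¹ * (c : G))⁻¹ = (E.ι g)⁻¹ * E.ι M * E.ι g := by rw [hM']; group
    _ = E.ι (rep k) := by rw [← hk, map_mul, map_mul, map_inv]; group

theorem cent_three {h g : G} (hh : h ∈ E.R) (ho : orderOf h = 3) (hg : Commute g h) : g ∈ E.R := by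
  obtain ⟨c, hc, k, hk⟩ := E.exists_rep hh ho
  have := E.cent_rep k (g := c * g * c⁻¹) (by
    rw [← hk]
    show _ = _
    calc c * g * c⁻¹ * (c * h * c⁻¹) = c * (g * h) * c⁻¹ := by group
      _ = c * (h * g) * c⁻¹ := by rw [hg.eq]
      _ = c * h * c⁻¹ * (c * g * c⁻¹) := by group)
  have := mul_mem (mul_mem (inv_mem hc) this) hc
  rwa [show c⁻¹ * (c * g * c⁻¹) * c = g by group] at this

theorem strong {h : G} (hh : h ∈ E.R) (ho : orderOf h = 3) {g : G} (hg : g * h * g⁻¹ ∈ E.R) : g ∈ E.R := by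
  obtain ⟨c, hc, k, hk⟩ := E.exists_rep hh ho
  have ho' : orderOf (g * h * g⁻¹) = 3 := by
    rw [← ho]; exact (MulEquiv.orderOf_eq (MulAut.conj g) h)
  set z := c⁻¹ * E.ι zS * c
  have hzh : Commute z h := by
    have hcom : Commute (E.ι zS) (c * h * c⁻¹) := by
      rw [hk]
      exact E.ι_commute.2 (Stab_ext (rep_z k).symm)
    show _ = _
    calc z * h = c⁻¹ * (E.ι zS * (c * h * c⁻¹)) * c := by simp only [z]; group
      _ = c⁻¹ * (c * h * c⁻¹ * E.ι zS) * c := by rw [hcom.eq]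
      _ = h * z := by simp only [z]; group
  have hz : g * z * g⁻¹ ∈ E.R := E.cent_three hg ho' (by
    show _ = _
    calc g * z * g⁻¹ * (g * h * g⁻¹) = g * (z * h) * g⁻¹ := by group
      _ = g * (h * z) * g⁻¹ := by rw [hzh.eq]
      _ = g * h * g⁻¹ * (g * z * g⁻¹) := by group)
  have := E.iso (g * c⁻¹) (by
    rwa [show g * c⁻¹ * E.ι zS * (g * c⁻¹)⁻¹ = g * z * g⁻¹ by simp only [z]; group])
  have := mul_mem this hc
  rwa [inv_mul_cancel_right] at this

end Full

end Cfsg.Agent.Spor.L43Three
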