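import Cfsg.Agent.Lib.Spor.L43Three.Two.CentX
import Cfsg.Agent.Lib.Spor.L43Three.Twist

/-!
The sign change of the first coordinate extends to `PSL(4, 3)`: the centraliser of the other element of type `x`.
-/

set_option autoImplicit false
set_option linter.unusedSectionVars false
set_option maxRecDepth 10000

namespace Cfsg.Agent.Spor.L43Three

open Subgroup Matrix Cfsg.Agent.Lie.CurtisTitsA

universe u

/-- The signs. -/
def sgn4 : Fin 4 → (ZMod 3)ˣ := ![-1, 1, 1, 1]

/-- The sign change on `SL(4, 3)`. -/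
def twist4 : SL44 →* SL44 := diagConj sgn4

theorem twist4_twist4 (g : SL44) : twist4 (twist4 g) = g := by
  apply Subtype.ext
  ext i j
  show (diagConj sgn4 (diagConj sgn4 g)).1 i j = g.1 i j
  rw [diagConj_apply, diagConj_apply]
  fin_cases i <;> fin_cases j <;> simp [sgn4]

theorem twist4_center : center SL44 ≤ (center SL44).comap twist4 := fun g hg => by
  obtain ⟨r, hr4, hr⟩ := center_SL44.1 hg
  refine center_SL44.2 ⟨r, hr4, ?_⟩
  ext i j
  show _ = (diagConj sgn4 g).1 i j
  rw [diagConj_apply, ← hr]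
  fin_cases i <;> fin_cases j <;> simp [sgn4, Matrix.scalar_apply]

theorem twist4_stab (M : Stab) : twist4 M.1 = (twist M).1 := by
  obtain ⟨v, A, rfl⟩ := el_surj M
  rw [twist_el]
  apply Subtype.ext
  ext i j
  show (diagConj sgn4 (el v A).1).1 i j = _
  rw [diagConj_apply, el_val, el_val]
  fin_cases i <;> fin_cases j <;> simp [sgn4, aff]

theorem twist_reps : (twist (rep 1)).1.1 = (rep 1).1.1 ∧ (twist (rep 5)).1.1 = (rep 5).1.1 ∧
    (twist (rep 4)).1.1 * tS.1.1 = tS.1.1 * (rep 4).1.1 ∧ (twist (rep 2) * rep 3).1.1 = 1 ∧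
    (twist (rep 3) * rep 2).1.1 = 1 := by decide +kernel

namespace Full

variable {G : Type u} [Group G] [Finite G] (E : Full G)

theorem z_inv : IsConj (E.ι zS) (E.ι zS)⁻¹ := by
  obtain ⟨M, hM⟩ := vS_trans (v := -![0, 0, 1]) (by decide)
  rw [← map_inv, zS, ← vS_neg]
  exact E.ι.map_isConj (isConj_iff.2 ⟨M, hM⟩)

/-- The twisted data. -/
def twistedFull : Full G where
  toEmb := E.toEmb.twisted
  f := E.f.comp (QuotientGroup.map (center SL44) (center SL44) twist4 twist4_center)
  f_inj := by
    refine E.f_inj.comp ?_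
    refine Function.LeftInverse.injective (g := QuotientGroup.map (center SL44) (center SL44) twist4 twist4_center)
      fun X => ?_
    obtain ⟨X, rfl⟩ := QuotientGroup.mk'_surjective (center SL44) X
    show ((twist4 (twist4 X) : SL44) : Matrix.ProjectiveSpecialLinearGroup (Fin 4) (ZMod 3)) = _
    rw [twist4_twist4]
    rfl
  R_eq := by
    show E.R = _
    rw [MonoidHom.range_comp, MonoidHom.range_eq_top.2 ?_, ← MonoidHom.range_eq_map]
    · exact E.R_eq
    · intro X
      obtain ⟨X, rfl⟩ := QuotientGroup.mk'_surjective (center SL44) X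
      exact ⟨((twist4 X : SL44) : Matrix.ProjectiveSpecialLinearGroup (Fin 4) (ZMod 3)), by
        show ((twist4 (twist4 X) : SL44) : Matrix.ProjectiveSpecialLinearGroup (Fin 4) (ZMod 3)) = _
        rw [twist4_twist4]; rfl⟩
  f_ι := fun M => by
    show E.f ((twist4 M.1 : SL44) : Matrix.ProjectiveSpecialLinearGroup (Fin 4) (ZMod 3)) = E.ι (twist M)
    rw [twist4_stab, E.f_ι]
  z_u := by
    show IsConj (E.ι (twist zS)) (E.ι (twist (rep 1)))
    rw [twist_z, map_inv, show twist (rep 1) = rep 1 from Stab_ext twist_reps.1]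
    exact E.z_inv.symm.trans E.z_u
  not_z := fun k hk h => by
    replace h : IsConj (E.ι (twist zS)) (E.ι (twist (rep k))) := h
    rw [twist_z, map_inv] at h
    have h' := E.z_inv.trans h
    have hinv : ∀ {A B : Stab}, A * B = 1 → IsConj (E.ι zS) (E.ι A) → IsConj (E.ι zS) (E.ι B) := by
      intro A B hAB hA
      obtain ⟨c, hc⟩ := isConj_iff.1 hA
      refine E.z_inv.trans (isConj_iff.2 ⟨c, ?_⟩)
      rw [eq_inv_of_mul_eq_one_right hAB, map_inv, ← hc]; group
    rcases (show k = 2 ∨ k = 3 ∨ k = 4 ∨ k = 5 by omega) with rfl | rfl | rfl | rfl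
    · exact E.not_z 3 (by decide) (hinv (Stab_ext twist_reps.2.2.2.1) h')
    · exact E.not_z 2 (by decide) (hinv (Stab_ext twist_reps.2.2.2.2) h')
    · refine E.not_z 4 (by decide) (h'.trans (E.ι.map_isConj (isConj_iff.2 ⟨tS, ?_⟩)).symm)
      rw [mul_inv_eq_iff_eq_mul]
      exact (Stab_ext (by simpa only [Stab_mul_val] using twist_reps.2.2.1)).symm
    · rw [show twist (rep 5) = rep 5 from Stab_ext twist_reps.2.1] at h'
      exact E.not_z 5 (by decide) h'
  sylow := E.sylow

/-- The centraliser of the other element of type `x`. -/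
theorem cent_x' {g : G} (hg : Commute g (E.ι (rep 3))) : g ∈ E.R := by
  refine E.twistedFull.cent_x ?_
  show Commute g (E.ι (twist (rep 2)))
  rw [show twist (rep 2) = (rep 3)⁻¹ from eq_inv_of_mul_eq_one_left (Stab_ext twist_reps.2.2.2.1), map_inv]
  exact hg.inv_right

end Full

end Cfsg.Agent.Spor.L43Three
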